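import Groth.Agent.FlatMorPush.Instances

/-!
# Finite sets of points in affine opens: avoidance lemmas
-/

set_option autoImplicit false
set_option backward.isDefEq.respectTransparency.types false
universe u

open AlgebraicGeometry CategoryTheory Limits PrimeSpectrum

namespace Groth.Agent.FlatMorPush

/-- Coset prime avoidance. -/
theorem exists_add_notMem {A : Type u} [CommRing A] (s : Finset (PrimeSpectrum A)) (K : Ideal A)
    (a : A) (h : ∀ p ∈ s, K ≤ p.asIdeal → a ∉ p.asIdeal) :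
    ∃ k ∈ K, ∀ p ∈ s, a + k ∉ p.asIdeal := by
  classical
  induction s using Finset.strongInduction with
  | H s ih =>
    rcases s.eq_empty_or_nonempty with rfl | hs
    · exact ⟨0, K.zero_mem, fun p hp => by simp at hp⟩
    obtain ⟨p, hp⟩ := s.exists_minimal hs
    obtain ⟨k, hk, hks⟩ := ih (s.erase p) (Finset.erase_ssubset hp.1)
      fun q hq => h q (Finset.mem_of_mem_erase hq)
    by_cases hkp : a + k ∈ p.asIdeal
    · have hK : ¬ K ≤ p.asIdeal := fun hle =>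
        h p hp.1 hle ((Ideal.add_mem_iff_left _ (hle hk)).mp hkp)
      have hne : ¬ K * (s.erase p).prod (fun q => q.asIdeal) ≤ p.asIdeal := by
        rw [p.2.mul_le, p.2.prod_le, not_or]
        refine ⟨hK, ?_⟩
        rintro ⟨q, hq, hqp⟩
        exact Finset.ne_of_mem_erase hq
          (le_antisymm hqp (hp.2 (Finset.mem_of_mem_erase hq) hqp))
      obtain ⟨k', hk', hk'p⟩ := SetLike.not_le_iff_exists.mp hne
      refine ⟨k + k', K.add_mem hk (Ideal.mul_le_left hk'), fun q hq hmem => ?_⟩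
      rw [← add_assoc] at hmem
      by_cases hqp : q = p
      · subst hqp
        exact hk'p ((Ideal.add_mem_iff_right _ hkp).mp hmem)
      · have hq' : q ∈ s.erase p := Finset.mem_erase.mpr ⟨hqp, hq⟩
        have hk'q : k' ∈ q.asIdeal :=
          ((Ideal.mul_le_right).trans (Ideal.prod_le_inf.trans (Finset.inf_le hq'))) hk'
        exact hks q hq' ((Ideal.add_mem_iff_left _ hk'q).mp hmem)
    · refine ⟨k, hk, fun q hq => ?_⟩
      by_cases hqp : q = p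
      · exact hqp ▸ hkp
      · exact hks q (Finset.mem_erase.mpr ⟨hqp, hq⟩)

variable {X : Scheme.{u}} {U : X.Opens} (hU : IsAffineOpen U)

include hU in
lemma mem_basicOpen_fromSpec (f : Γ(X, U)) (p : PrimeSpectrum Γ(X, U)) :
    hU.fromSpec p ∈ X.basicOpen f ↔ f ∉ p.asIdeal := by
  rw [show f ∉ p.asIdeal ↔ p ∈ PrimeSpectrum.basicOpen f from Iff.rfl,
    ← hU.fromSpec_preimage_basicOpen]
  rfl

include hU in
/-- A finite subset of an open `O` and of an affine `U` lies in a basic open of `U` inside `O`. -/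
theorem exists_basicOpen_finite (O : X.Opens) {S : Set X} (hS : S.Finite) (hSO : S ⊆ (O : Set X))
    (hSU : S ⊆ (U : Set X)) :
    ∃ g : Γ(X, U), X.basicOpen g ≤ O ∧ S ⊆ (X.basicOpen g : Set X) := by
  let C : Set (PrimeSpectrum Γ(X, U)) := (hU.fromSpec ⁻¹' (O : Set X))ᶜ
  have hC : IsClosed C := (O.isOpen.preimage hU.fromSpec.continuous).isClosed_compl
  obtain ⟨I, hI⟩ := (PrimeSpectrum.isClosed_iff_zeroLocus_ideal _).mp hC
  have hfin : (hU.fromSpec ⁻¹' S).Finite :=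
    hS.preimage hU.fromSpec.isOpenEmbedding.injective.injOn
  obtain ⟨g, hg, hgs⟩ := exists_add_notMem hfin.toFinset I 0 fun p hp hle => by
    have hp' : p ∈ C := by rw [hI]; exact hle
    exact (hp' (hSO (hfin.mem_toFinset.mp hp))).elim
  simp only [zero_add] at hgs
  refine ⟨g, fun x hx => ?_, fun x hx => ?_⟩
  · obtain ⟨p, rfl⟩ := hU.range_fromSpec.ge (X.basicOpen_le g hx)
    by_contra h
    exact (mem_basicOpen_fromSpec hU g p).mp hx ((show p ∈ zeroLocus (I : Set Γ(X, U)) from hI ▸ h) hg)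
  · obtain ⟨p, rfl⟩ := hU.range_fromSpec.ge (hSU hx)
    exact (mem_basicOpen_fromSpec hU g p).mpr (hgs p (hfin.mem_toFinset.mpr hx))

include hU in
/-- A function on a closed subscheme lifts to one not vanishing at given finitely many points. -/
theorem exists_lift_finite {Z : Scheme.{u}} (i : Z ⟶ X) [IsClosedImmersion i]
    (f : Γ(Z, i ⁻¹ᵁ U)) {S : Set X} (hS : S.Finite) (hSU : S ⊆ (U : Set X))
    (hf : ∀ z, i z ∈ S → z ∈ Z.basicOpen f) :
    ∃ a : Γ(X, U), i ⁻¹ᵁ X.basicOpen a = Z.basicOpen f ∧ S ⊆ (X.basicOpen a : Set X) := by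
  let θ : Γ(X, U) →+* Γ(Z, i ⁻¹ᵁ U) := (i.app U).hom
  obtain ⟨a₀, ha₀⟩ : ∃ a₀, θ a₀ = f := i.app_surjective U hU f
  have hfin : (hU.fromSpec ⁻¹' S).Finite :=
    hS.preimage hU.fromSpec.isOpenEmbedding.injective.injOn
  have hsurj : Function.Surjective θ := i.app_surjective U hU
  obtain ⟨k, hk, hks⟩ := exists_add_notMem hfin.toFinset (RingHom.ker θ) a₀ fun p hp hle hmem => by
    obtain ⟨q, rfl⟩ : p ∈ Set.range (comap θ) := by
      rw [range_comap_of_surjective _ _ hsurj]; exact hle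
    have hW : IsAffineOpen (i ⁻¹ᵁ U) := hU.preimage i
    have hq : i (hW.fromSpec q) = hU.fromSpec (comap θ q) := by
      have h' := congrArg (fun m : _ ⟶ X => m q)
        (IsAffineOpen.SpecMap_appLE_fromSpec i hU hW le_rfl)
      rw [Scheme.Hom.appLE_eq_app] at h'
      exact h'.symm
    have hz := (mem_basicOpen_fromSpec hW f q).mp (hf _ (hq.symm ▸ hfin.mem_toFinset.mp hp))
    exact hz (ha₀ ▸ hmem)
  refine ⟨a₀ + k, ?_, fun x hx => ?_⟩
  · rw [Scheme.preimage_basicOpen]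
    congr 1
    show θ (a₀ + k) = f
    rw [map_add, (RingHom.mem_ker.mp hk), add_zero, ha₀]
  · obtain ⟨p, rfl⟩ := hU.range_fromSpec.ge (hSU hx)
    exact (mem_basicOpen_fromSpec hU _ p).mpr (hks p (hfin.mem_toFinset.mpr hx))

/-- Two finite sets compatible on a common closed subscheme lie in an adapted pair of affines. -/
theorem exists_pair_finite {X₁ X₂ Z : Scheme.{u}} (i : Z ⟶ X₁) (j : Z ⟶ X₂) [IsClosedImmersion i]
    [IsClosedImmersion j] {U₁ : X₁.Opens} (hU₁ : IsAffineOpen U₁) {U₂ : X₂.Opens}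
    (hU₂ : IsAffineOpen U₂) {S₁ : Set X₁} (hS₁ : S₁.Finite) (h₁ : S₁ ⊆ (U₁ : Set X₁))
    {S₂ : Set X₂} (hS₂ : S₂.Finite) (h₂ : S₂ ⊆ (U₂ : Set X₂))
    (hcomp : ∀ z, i z ∈ S₁ ↔ j z ∈ S₂) :
    ∃ k : Pair i j, S₁ ⊆ (k.U : Set X₁) ∧ S₂ ⊆ (k.V : Set X₂) ∧ k.U ≤ U₁ ∧ k.V ≤ U₂ := by
  have hop₁ : IsOpen (i '' ((j ⁻¹ᵁ U₂ : Z.Opens) : Set Z)ᶜ)ᶜ :=
    (i.isClosedMap _ (j ⁻¹ᵁ U₂).isOpen.isClosed_compl).isOpen_compl
  obtain ⟨g₁, hg₁, hg₁S⟩ := exists_basicOpen_finite hU₁ ⟨_, hop₁⟩ hS₁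
    (fun x hx => by rintro ⟨z, hz, rfl⟩; exact hz (h₂ ((hcomp z).mp hx))) h₁
  have hW : i ⁻¹ᵁ X₁.basicOpen g₁ ≤ j ⁻¹ᵁ U₂ := fun z hz => by
    by_contra h
    exact hg₁ hz ⟨z, h, rfl⟩
  have hop₂ : IsOpen (j '' ((i ⁻¹ᵁ X₁.basicOpen g₁ : Z.Opens) : Set Z)ᶜ)ᶜ :=
    (j.isClosedMap _ (i ⁻¹ᵁ X₁.basicOpen g₁).isOpen.isClosed_compl).isOpen_compl
  obtain ⟨g₂, hg₂, hg₂S⟩ := exists_basicOpen_finite hU₂ ⟨_, hop₂⟩ hS₂
    (fun x hx => by rintro ⟨z, hz, rfl⟩; exact hz (hg₁S ((hcomp z).mpr hx))) h₂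
  have hle : j ⁻¹ᵁ X₂.basicOpen g₂ ≤ i ⁻¹ᵁ X₁.basicOpen g₁ := fun z hz => by
    by_contra h
    exact hg₂ hz ⟨z, h, rfl⟩
  let f : Γ(Z, i ⁻¹ᵁ X₁.basicOpen g₁) := (j.appLE U₂ _ hW).hom g₂
  have hf : Z.basicOpen f = j ⁻¹ᵁ X₂.basicOpen g₂ := by
    rw [show Z.basicOpen f = i ⁻¹ᵁ X₁.basicOpen g₁ ⊓ j ⁻¹ᵁ X₂.basicOpen g₂ from
      Scheme.basicOpen_appLE ..]
    exact inf_eq_right.mpr hle
  obtain ⟨a, ha, haS⟩ := exists_lift_finite (hU₁.basicOpen g₁) i f hS₁ hg₁S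
    fun z hz => hf ▸ hg₂S ((hcomp z).mp hz)
  exact ⟨⟨X₁.basicOpen a, X₂.basicOpen g₂, (hU₁.basicOpen g₁).basicOpen a, hU₂.basicOpen g₂,
    ha.trans hf⟩, haS, hg₂S, (X₁.basicOpen_le a).trans (X₁.basicOpen_le g₁), X₂.basicOpen_le g₂⟩

end Groth.Agent.FlatMorPush
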