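import Groth.Agent.FlatMorPush.Glue
import Mathlib.AlgebraicGeometry.Morphisms.Integral

/-!
# The Ferrand pushout of a closed immersion and an affine morphism
-/

set_option autoImplicit false
set_option backward.isDefEq.respectTransparency.types false
set_option linter.unusedSectionVars false
set_option linter.overlappingInstances false
universe u

open AlgebraicGeometry CategoryTheory Limits PrimeSpectrum
open Groth.Agent.KerEval

namespace Groth.Agent.FlatMorPush

variable {X Y Z : Scheme.{u}} {i : Z ⟶ X} {j : Z ⟶ Y} [IsClosedImmersion i] [IsAffineHom j]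

namespace Pair

variable (k : Pair i j)

/-- chart map from `X` -/
noncomputable def aK : (k.U : Scheme.{u}) ⟶ k.obj := k.hU.isoSpec.hom ≫ sp k.sq.g

/-- chart map from `Y` -/
noncomputable def bK : (k.V : Scheme.{u}) ⟶ k.obj := k.hV.isoSpec.hom ≫ sp k.sq.f

variable {k} {l : Pair i j} (h : l ≤ k)

lemma homOfLE_aK : X.homOfLE h.1 ≫ k.aK = l.aK ≫ sp (rC h) := by
  have : X.homOfLE h.1 ≫ k.hU.isoSpec.hom = l.hU.isoSpec.hom ≫ sp (rB h) := by
    rw [← cancel_mono k.hU.fromSpec, Category.assoc, Category.assoc, rB_fromSpec,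
      IsAffineOpen.isoSpec_hom_fromSpec, IsAffineOpen.isoSpec_hom_fromSpec, Scheme.homOfLE_ι]
  rw [aK, aK, ← Category.assoc, this, Category.assoc, Category.assoc, ← sp_comp, ← sp_comp, g_rC]

lemma homOfLE_bK : Y.homOfLE h.2 ≫ k.bK = l.bK ≫ sp (rC h) := by
  have : Y.homOfLE h.2 ≫ k.hV.isoSpec.hom = l.hV.isoSpec.hom ≫ sp (rA h) := by
    rw [← cancel_mono k.hV.fromSpec, Category.assoc, Category.assoc, rA_fromSpec,
      IsAffineOpen.isoSpec_hom_fromSpec, IsAffineOpen.isoSpec_hom_fromSpec, Scheme.homOfLE_ι]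
  rw [bK, bK, ← Category.assoc, this, Category.assoc, Category.assoc, ← sp_comp, ← sp_comp, f_rC]

end Pair

variable [HasPairs i j]

variable (i j) in
/-- The pushout. -/
noncomputable def Po : Scheme.{u} := colimit (diagram i j)

/-- the charts -/
noncomputable def ι (k : Pair i j) : k.obj ⟶ Po i j := colimit.ι (diagram i j) k

instance (k : Pair i j) : IsOpenImmersion (ι k) :=
  inferInstanceAs (IsOpenImmersion (colimit.ι (diagram i j) k))

lemma rC_ι {k l : Pair i j} (h : l ≤ k) : sp (Pair.rC h) ≫ ι k = ι l :=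
  colimit.w (diagram i j) (homOfLE h)

lemma exists_inl : ∃ a : X ⟶ Po i j, ∀ k : Pair i j, k.U.ι ≫ a = k.aK ≫ ι k := by
  refine exists_glue (fun k : Pair i j => k.U) (fun x => Pair.cover_X i j x)
    (fun k => k.aK ≫ ι k) fun k l x hk hl => ?_
  obtain ⟨m, hmk, hml, hm⟩ := Pair.dir_X i j k l x hk hl
  refine ⟨m.U, hmk.1, hml.1, hm, ?_⟩
  rw [← Category.assoc, Pair.homOfLE_aK hmk, Category.assoc, rC_ι, ← Category.assoc,
    Pair.homOfLE_aK hml, Category.assoc, rC_ι]

lemma exists_inr : ∃ b : Y ⟶ Po i j, ∀ k : Pair i j, k.V.ι ≫ b = k.bK ≫ ι k := by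
  refine exists_glue (fun k : Pair i j => k.V) HasPairs.cover
    (fun k => k.bK ≫ ι k) fun k l y hk hl => ?_
  obtain ⟨m, hmk, hml, hm⟩ := HasPairs.dir k l y hk hl
  refine ⟨m.V, hmk.2, hml.2, hm, ?_⟩
  rw [← Category.assoc, Pair.homOfLE_bK hmk, Category.assoc, rC_ι, ← Category.assoc,
    Pair.homOfLE_bK hml, Category.assoc, rC_ι]

variable (i j) in
/-- the map from `X` -/
noncomputable def inl : X ⟶ Po i j := exists_inl.choose

variable (i j) in
/-- the map from `Y` -/
noncomputable def inr : Y ⟶ Po i j := exists_inr.choose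

lemma fromSpec_inl (k : Pair i j) : k.hU.fromSpec ≫ inl i j = sp k.sq.g ≫ ι k := by
  rw [← IsAffineOpen.isoSpec_inv_ι, Category.assoc, inl, exists_inl.choose_spec k, Pair.aK,
    Category.assoc, Iso.inv_hom_id_assoc]

lemma fromSpec_inr (k : Pair i j) : k.hV.fromSpec ≫ inr i j = sp k.sq.f ≫ ι k := by
  rw [← IsAffineOpen.isoSpec_inv_ι, Category.assoc, inr, exists_inr.choose_spec k, Pair.bK,
    Category.assoc, Iso.inv_hom_id_assoc]

/-- Morphisms out of `X` agreeing on all charts are equal. -/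
lemma hom_ext_X {G : Scheme.{u}} {m₁ m₂ : X ⟶ G}
    (h : ∀ k : Pair i j, k.hU.fromSpec ≫ m₁ = k.hU.fromSpec ≫ m₂) : m₁ = m₂ := by
  refine Scheme.hom_ext_of_forall _ _ fun x => ?_
  obtain ⟨k, hk⟩ := Pair.cover_X i j x
  refine ⟨k.U, hk, ?_⟩
  rw [← cancel_epi k.hU.isoSpec.inv]
  exact h k

lemma hom_ext_Y {G : Scheme.{u}} {m₁ m₂ : Y ⟶ G}
    (h : ∀ k : Pair i j, k.hV.fromSpec ≫ m₁ = k.hV.fromSpec ≫ m₂) : m₁ = m₂ := by
  refine Scheme.hom_ext_of_forall _ _ fun y => ?_
  obtain ⟨k, hk⟩ := HasPairs.cover (i := i) (j := j) y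
  refine ⟨k.V, hk, ?_⟩
  rw [← cancel_epi k.hV.isoSpec.inv]
  exact h k

lemma hom_ext_Z {G : Scheme.{u}} {m₁ m₂ : Z ⟶ G}
    (h : ∀ k : Pair i j, k.hW.fromSpec ≫ m₁ = k.hW.fromSpec ≫ m₂) : m₁ = m₂ := by
  refine Scheme.hom_ext_of_forall _ _ fun z => ?_
  obtain ⟨k, hk⟩ := HasPairs.cover (i := i) (j := j) (j z)
  refine ⟨j ⁻¹ᵁ k.V, hk, ?_⟩
  rw [← cancel_epi k.hW.isoSpec.inv]
  exact h k

variable (i j)

lemma condition : i ≫ inl i j = j ≫ inr i j :=
  hom_ext_Z (i := i) (j := j) fun k => by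
    rw [← Category.assoc, ← k.sp_p, Category.assoc, fromSpec_inl, ← Category.assoc,
      ← Category.assoc k.hW.fromSpec, ← k.sp_q, Category.assoc (sp k.sq.q), fromSpec_inr,
      ← Category.assoc, ← sp_comp, ← sp_comp]
    congr 2
    exact RingHom.ext fun c => (k.sq.comm c).symm

variable {i j}

/-- Morphisms out of the pushout agreeing on `X` and `Y` are equal. -/
lemma hom_ext {G : Scheme.{u}} {m₁ m₂ : Po i j ⟶ G} (hX : inl i j ≫ m₁ = inl i j ≫ m₂)
    (hY : inr i j ≫ m₁ = inr i j ≫ m₂) : m₁ = m₂ := by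
  refine colimit.hom_ext fun k => ?_
  change ι k ≫ m₁ = ι k ≫ m₂
  refine k.sq.hom_ext _ _ ?_ ?_
  · rw [← Category.assoc, ← fromSpec_inr, Category.assoc, hY, ← Category.assoc, fromSpec_inr,
      Category.assoc]
  · rw [← Category.assoc, ← fromSpec_inl, Category.assoc, hX, ← Category.assoc, fromSpec_inl,
      Category.assoc]

lemma exists_desc {G : Scheme.{u}} (u : X ⟶ G) (v : Y ⟶ G) (h : i ≫ u = j ≫ v) :
    ∃ m : Po i j ⟶ G, inl i j ≫ m = u ∧ inr i j ≫ m = v := by
  have hk : ∀ k : Pair i j, sp k.sq.q ≫ k.hV.fromSpec ≫ v = sp k.sq.p ≫ k.hU.fromSpec ≫ u := by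
    intro k
    rw [← Category.assoc, k.sp_q, ← Category.assoc (sp k.sq.p), k.sp_p, Category.assoc,
      Category.assoc, h]
  choose m hmv hmu using fun k : Pair i j => k.sq.exists_hom _ _ (hk k)
  let c : Cocone (diagram i j) :=
    { pt := G
      ι :=
        { app := fun k => m k
          naturality := fun l k f => by
            change sp (Pair.rC f.le) ≫ m k = m l ≫ 𝟙 G
            rw [Category.comp_id]
            refine l.sq.hom_ext _ _ ?_ ?_
            · rw [← Category.assoc, ← sp_comp, Pair.f_rC, sp_comp, Category.assoc, hmv, hmv,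
                ← Category.assoc, Pair.rA_fromSpec]
            · rw [← Category.assoc, ← sp_comp, Pair.g_rC, sp_comp, Category.assoc, hmu, hmu,
                ← Category.assoc, Pair.rB_fromSpec] } }
  have hι : ∀ k, ι k ≫ colimit.desc (diagram i j) c = m k := fun k => colimit.ι_desc c k
  refine ⟨colimit.desc (diagram i j) c, hom_ext_X (i := i) (j := j) fun k => ?_,
    hom_ext_Y (i := i) (j := j) fun k => ?_⟩
  · exact (Category.assoc _ _ _).symm.trans ((congrArg (· ≫ colimit.desc (diagram i j) c)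
      (fromSpec_inl k)).trans (((Category.assoc _ _ _).trans
        (congrArg (sp k.sq.g ≫ ·) (hι k))).trans (hmu k)))
  · exact (Category.assoc _ _ _).symm.trans ((congrArg (· ≫ colimit.desc (diagram i j) c)
      (fromSpec_inr k)).trans (((Category.assoc _ _ _).trans
        (congrArg (sp k.sq.f ≫ ·) (hι k))).trans (hmv k)))

variable (i j)

theorem isPushout : IsPushout i j (inl i j) (inr i j) :=
  ⟨⟨condition i j⟩, ⟨PushoutCocone.IsColimit.mk (condition i j)
    (fun s => (exists_desc _ _ s.condition).choose)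
    (fun s => (exists_desc _ _ s.condition).choose_spec.1)
    (fun s => (exists_desc _ _ s.condition).choose_spec.2)
    (fun s _m h₁ h₂ => hom_ext (h₁.trans (exists_desc _ _ s.condition).choose_spec.1.symm)
      (h₂.trans (exists_desc _ _ s.condition).choose_spec.2.symm))⟩⟩

variable {i j}

lemma exists_mem_range (w : Po i j) : ∃ k, w ∈ Set.range (ι (i := i) (j := j) k) := by
  obtain ⟨k, w', hw⟩ := Scheme.IsLocallyDirected.ι_jointly_surjective (diagram i j) w
  exact ⟨k, w', hw⟩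

lemma inl_mem_range_ι {k : Pair i j} {x : X} :
    inl i j x ∈ (ι k).opensRange ↔ x ∈ k.U := by
  constructor
  · rintro ⟨w, hw⟩
    obtain ⟨l, hl⟩ := Pair.cover_X i j x
    obtain ⟨x', rfl⟩ := l.hU.range_fromSpec.symm.subset hl
    rw [← Scheme.Hom.comp_apply, fromSpec_inl, Scheme.Hom.comp_apply] at hw
    obtain ⟨m, fk, fl, w', -, hw'⟩ := (Scheme.IsLocallyDirected.ι_eq_ι_iff (diagram i j)).mp hw
    exact fk.le.1 ((Pair.mem_range_rC_g fl.le x').mp ⟨w', hw'⟩)
  · intro hx
    obtain ⟨x', rfl⟩ := k.hU.range_fromSpec.symm.subset hx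
    rw [← Scheme.Hom.comp_apply, fromSpec_inl]
    exact ⟨sp k.sq.g x', rfl⟩

lemma inr_mem_range_ι {k : Pair i j} {y : Y} :
    inr i j y ∈ (ι k).opensRange ↔ y ∈ k.V := by
  constructor
  · rintro ⟨w, hw⟩
    obtain ⟨l, hl⟩ := HasPairs.cover (i := i) (j := j) y
    obtain ⟨y', rfl⟩ := l.hV.range_fromSpec.symm.subset hl
    rw [← Scheme.Hom.comp_apply, fromSpec_inr, Scheme.Hom.comp_apply] at hw
    obtain ⟨m, fk, fl, w', -, hw'⟩ := (Scheme.IsLocallyDirected.ι_eq_ι_iff (diagram i j)).mp hw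
    exact fk.le.2 ((Pair.mem_range_rC_f fl.le y').mp ⟨w', hw'⟩)
  · intro hy
    obtain ⟨y', rfl⟩ := k.hV.range_fromSpec.symm.subset hy
    rw [← Scheme.Hom.comp_apply, fromSpec_inr]
    exact ⟨sp k.sq.f y', rfl⟩

lemma opensRange_fromSpec {T : Scheme.{u}} {U : T.Opens} (hU : IsAffineOpen U) :
    hU.fromSpec.opensRange = U := TopologicalSpace.Opens.ext hU.range_fromSpec

lemma isPullback_inl (k : Pair i j) :
    IsPullback (sp k.sq.g) k.hU.fromSpec (ι k) (inl i j) :=
  IsOpenImmersion.isPullback _ _ _ _ (fromSpec_inl k) (by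
    rw [opensRange_fromSpec]
    exact TopologicalSpace.Opens.ext (Set.ext fun _ => inl_mem_range_ι))

lemma isPullback_inr (k : Pair i j) :
    IsPullback (sp k.sq.f) k.hV.fromSpec (ι k) (inr i j) :=
  IsOpenImmersion.isPullback _ _ _ _ (fromSpec_inr k) (by
    rw [opensRange_fromSpec]
    exact TopologicalSpace.Opens.ext (Set.ext fun _ => inr_mem_range_ι))

variable (i j)

/-- the covering by charts -/
noncomputable def chartCover : (Po i j).OpenCover where
  I₀ := Pair i j
  X k := k.obj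
  f := ι
  mem₀ := by
    rw [Scheme.presieve₀_mem_precoverage_iff]
    exact ⟨exists_mem_range, fun k => inferInstanceAs (IsOpenImmersion (ι k))⟩

theorem isClosedImmersion_inr : IsClosedImmersion (inr i j) := by
  rw [IsZariskiLocalAtTarget.iff_of_openCover (P := @IsClosedImmersion) (chartCover i j)]
  intro k
  change IsClosedImmersion (pullback.snd (inr i j) (ι k))
  rw [← (isPullback_inr k).flip.isoPullback_inv_snd,
    MorphismProperty.cancel_left_of_respectsIso @IsClosedImmersion]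
  exact IsClosedImmersion.spec_of_surjective _ k.sq.f_surj

theorem isAffineHom_inl : IsAffineHom (inl i j) := by
  rw [IsZariskiLocalAtTarget.iff_of_openCover (P := @IsAffineHom) (chartCover i j)]
  intro k
  change IsAffineHom (pullback.snd (inl i j) (ι k))
  rw [← (isPullback_inl k).flip.isoPullback_inv_snd,
    MorphismProperty.cancel_left_of_respectsIso @IsAffineHom]
  infer_instance

theorem isIntegralHom_inl [IsIntegralHom j] : IsIntegralHom (inl i j) := by
  rw [IsZariskiLocalAtTarget.iff_of_openCover (P := @IsIntegralHom) (chartCover i j)]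
  intro k
  change IsIntegralHom (pullback.snd (inl i j) (ι k))
  rw [← (isPullback_inl k).flip.isoPullback_inv_snd,
    MorphismProperty.cancel_left_of_respectsIso @IsIntegralHom, IsIntegralHom.SpecMap_iff]
  exact k.sq.g_isIntegral (j.isIntegral_app k.V k.hV)

/-- The pushout square is cartesian. -/
theorem isPullback : IsPullback i j (inl i j) (inr i j) := by
  have key : ∀ s : PullbackCone (inl i j) (inr i j), ∃ t : s.pt ⟶ Z, t ≫ i = s.fst ∧ t ≫ j = s.snd := by
    intro s
    have hloc : ∀ k : Pair i j, ∃ t : ((s.fst ⁻¹ᵁ k.U : s.pt.Opens) : Scheme.{u}) ⟶ Z,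
        t ≫ i = (s.fst ⁻¹ᵁ k.U).ι ≫ s.fst ∧ t ≫ j = (s.fst ⁻¹ᵁ k.U).ι ≫ s.snd := by
      intro k
      let W := s.fst ⁻¹ᵁ k.U
      have hV : Set.range (W.ι ≫ s.snd) ⊆ Set.range k.hV.fromSpec := by
        rw [k.hV.range_fromSpec]
        rintro _ ⟨w, rfl⟩
        apply inr_mem_range_ι.mp
        have := inl_mem_range_ι.mpr (show s.fst (W.ι w) ∈ k.U from w.2)
        rw [← Scheme.Hom.comp_apply, s.condition] at this
        exact this
      have hU : Set.range (W.ι ≫ s.fst) ⊆ Set.range k.hU.fromSpec := by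
        rw [k.hU.range_fromSpec]
        rintro _ ⟨w, rfl⟩
        exact w.2
      let lU := IsOpenImmersion.lift k.hU.fromSpec _ hU
      let lV := IsOpenImmersion.lift k.hV.fromSpec _ hV
      have hlU : lU ≫ k.hU.fromSpec = W.ι ≫ s.fst := IsOpenImmersion.lift_fac _ _ hU
      have hlV : lV ≫ k.hV.fromSpec = W.ι ≫ s.snd := IsOpenImmersion.lift_fac _ _ hV
      have hc : lU ≫ sp k.sq.g = lV ≫ sp k.sq.f := by
        rw [← cancel_mono (ι k), Category.assoc, Category.assoc, ← fromSpec_inl, ← fromSpec_inr,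
          reassoc_of% hlU, reassoc_of% hlV, s.condition]
      refine ⟨k.sq.isPullback_sp.lift lU lV hc ≫ k.hW.fromSpec, ?_, ?_⟩
      · rw [Category.assoc, ← k.sp_p, ← Category.assoc, k.sq.isPullback_sp.lift_fst, hlU]
      · rw [Category.assoc, ← k.sp_q, ← Category.assoc, k.sq.isPullback_sp.lift_snd, hlV]
    choose t ht₁ ht₂ using hloc
    obtain ⟨g, hg⟩ := exists_glue (fun k : Pair i j => s.fst ⁻¹ᵁ k.U)
      (fun w => Pair.cover_X i j (s.fst w)) t (fun k l w hk hl =>
        ⟨s.fst ⁻¹ᵁ k.U ⊓ s.fst ⁻¹ᵁ l.U, inf_le_left, inf_le_right, ⟨hk, hl⟩, by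
          rw [← cancel_mono i, Category.assoc, Category.assoc, ht₁, ht₁, ← Category.assoc,
            ← Category.assoc, Scheme.homOfLE_ι, Scheme.homOfLE_ι]⟩)
    refine ⟨g, ?_, ?_⟩ <;> refine Scheme.hom_ext_of_forall _ _ fun w => ?_
    · obtain ⟨k, hk⟩ := Pair.cover_X i j (s.fst w)
      exact ⟨_, hk, by rw [← Category.assoc, hg k, ht₁ k]⟩
    · obtain ⟨k, hk⟩ := Pair.cover_X i j (s.fst w)
      exact ⟨_, hk, by rw [← Category.assoc, hg k, ht₂ k]⟩
  exact ⟨⟨condition i j⟩, ⟨PullbackCone.IsLimit.mk (condition i j) (fun s => (key s).choose)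
    (fun s => (key s).choose_spec.1) (fun s => (key s).choose_spec.2)
    (fun s m h₁ _ => by rw [← cancel_mono i, h₁, (key s).choose_spec.1])⟩⟩

end Groth.Agent.FlatMorPush
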