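import Groth.Agent.FlatMorPush.Adapted
import Groth.Agent.FlatMorPush.Pushout
import Groth.Agent.FlatMorThick.Affine

/-!
# When there are enough adapted pairs
-/

set_option autoImplicit false
set_option backward.isDefEq.respectTransparency.types false
universe u

open AlgebraicGeometry CategoryTheory Limits

namespace Groth.Agent.FlatMorPush

variable {X Y Z : Scheme.{u}} (i : Z ⟶ X) (j : Z ⟶ Y) [IsClosedImmersion i]

/-- Integral morphisms whose fibres lie in affine opens have enough pairs. -/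
theorem hasPairs_of_integral [IsIntegralHom j]
    (h : ∀ y : Y, ∃ U : X.Opens, IsAffineOpen U ∧ j ⁻¹' {y} ⊆ (i ⁻¹ᵁ U : Set Z)) :
    HasPairs i j := by
  refine ⟨fun y => ?_, fun k l y hk hl => ?_⟩
  · obtain ⟨U₀, hU₀, hfib⟩ := h y
    obtain ⟨U, V, hU, hV, -, -, hy, he⟩ := exists_adaptedOpens i j hU₀ le_rfl ⊤ (y := y) trivial hfib
    exact ⟨⟨U, V, hU, hV, he⟩, hy⟩
  · have hfib : j ⁻¹' {y} ⊆ (i ⁻¹ᵁ (k.U ⊓ l.U) : Set Z) := by
      intro z hz
      exact ⟨show z ∈ i ⁻¹ᵁ k.U from k.eq ▸ show j z ∈ k.V from (hz : j z = y) ▸ hk,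
        show z ∈ i ⁻¹ᵁ l.U from l.eq ▸ show j z ∈ l.V from (hz : j z = y) ▸ hl⟩
    obtain ⟨U, V, hU, hV, hUO, hVl, hy, he⟩ := exists_adaptedOpens i j k.hU (O := k.U ⊓ l.U)
      inf_le_left (k.V ⊓ l.V) (y := y) ⟨hk, hl⟩ hfib
    exact ⟨⟨U, V, hU, hV, he⟩, ⟨hUO.trans inf_le_left, hVl.trans inf_le_left⟩,
      ⟨hUO.trans inf_le_right, hVl.trans inf_le_right⟩, hy⟩

/-- A closed immersion has enough pairs with any other closed immersion. -/
theorem hasPairs_of_isClosedImmersion [IsClosedImmersion j] : HasPairs i j := by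
  refine hasPairs_of_integral i j fun y => ?_
  by_cases hy : y ∈ Set.range j
  · obtain ⟨z, rfl⟩ := hy
    obtain ⟨U, hU, hzU, -⟩ := exists_isAffineOpen_mem_and_subset (x := i z) (U := ⊤) trivial
    exact ⟨U, hU, fun z' hz' => by
      rw [j.isClosedEmbedding.injective (show j z' = j z from hz')]; exact hzU⟩
  · exact ⟨⊥, isAffineOpen_bot X, fun z hz => (hy ⟨z, hz⟩).elim⟩

variable [IsAffineHom j]

/-- A thickening has enough pairs with an affine morphism. -/
theorem hasPairs_of_thickening (hi : Function.Surjective i) : HasPairs i j := by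
  have hsurj : Surjective i := ⟨hi⟩
  have key : ∀ V : Y.Opens, IsAffineOpen V → ∃ k : Pair i j, k.V = V := by
    intro V hV
    obtain ⟨O, hO, hOV⟩ := i.isClosedEmbedding.isInducing.isOpen_iff.mp (j ⁻¹ᵁ V).isOpen
    let U : X.Opens := ⟨O, hO⟩
    have he : i ⁻¹ᵁ U = j ⁻¹ᵁ V := TopologicalSpace.Opens.ext hOV
    have : IsAffine (i ⁻¹ᵁ U).toScheme := show IsAffineOpen _ from he ▸ hV.preimage j
    have hU : IsAffineOpen U :=
      VarietyLib.isAffine_of_surjective_closedImmersion (i ∣_ U) fun x => by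
        obtain ⟨z, hz⟩ := hi x.1
        exact ⟨⟨z, show i z ∈ U from hz ▸ x.2⟩, Subtype.ext (by simp [hz])⟩
    exact ⟨⟨U, V, hU, hV, he⟩, rfl⟩
  refine ⟨fun y => ?_, fun k l y hk hl => ?_⟩
  · obtain ⟨V, hV, hy, -⟩ := exists_isAffineOpen_mem_and_subset (x := y) (U := ⊤) trivial
    obtain ⟨k, rfl⟩ := key V hV
    exact ⟨k, hy⟩
  · obtain ⟨V, hV, hy, hVle⟩ :=
      exists_isAffineOpen_mem_and_subset (x := y) (U := k.V ⊓ l.V) ⟨hk, hl⟩
    obtain ⟨m, rfl⟩ := key V hV
    have hle : ∀ n : Pair i j, m.V ≤ n.V → m ≤ n := by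
      intro n hn
      refine ⟨fun x hx => ?_, hn⟩
      obtain ⟨z, rfl⟩ := hi x
      show z ∈ i ⁻¹ᵁ n.U
      rw [n.eq]
      exact hn (show z ∈ j ⁻¹ᵁ m.V from m.eq ▸ hx)
    exact ⟨m, hle k fun v hv => (hVle hv).1, hle l fun v hv => (hVle hv).2, hy⟩

theorem surjective_inr [HasPairs i j] (hi : Function.Surjective i) :
    Function.Surjective (inr i j) := by
  intro w
  obtain ⟨k, w', rfl⟩ := exists_mem_range w
  rcases k.sq.exists_point w' with ⟨y, rfl⟩ | ⟨-, -, -, x, rfl⟩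
  · refine ⟨k.hV.fromSpec y, ?_⟩
    rw [← Scheme.Hom.comp_apply, fromSpec_inr]
    rfl
  · obtain ⟨z, hz⟩ := hi (k.hU.fromSpec x)
    refine ⟨j z, ?_⟩
    rw [← Scheme.Hom.comp_apply, ← condition, Scheme.Hom.comp_apply, hz, ← Scheme.Hom.comp_apply,
      fromSpec_inl]
    rfl

theorem isClosedImmersion_inl [IsClosedImmersion j] [HasPairs i j] :
    IsClosedImmersion (inl i j) := by
  rw [IsZariskiLocalAtTarget.iff_of_openCover (P := @IsClosedImmersion) (chartCover i j)]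
  intro k
  change IsClosedImmersion (pullback.snd (inl i j) (ι k))
  rw [← (isPullback_inl k).flip.isoPullback_inv_snd,
    MorphismProperty.cancel_left_of_respectsIso @IsClosedImmersion]
  refine IsClosedImmersion.spec_of_surjective _ fun b => ?_
  obtain ⟨a, ha⟩ := j.app_surjective k.V k.hV (k.sq.p b)
  obtain ⟨c, -, hc⟩ := k.sq.exist a b ha
  exact ⟨c, hc⟩

end Groth.Agent.FlatMorPush
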