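import Groth.Agent.FlatMorPush.RingMap
import Groth.Agent.HenselLib.MilnorGlue
import Mathlib.RingTheory.RingHom.Etale
import Mathlib.RingTheory.RingHom.FinitePresentation
import Mathlib.RingTheory.RingHom.Flat
import Mathlib.RingTheory.Smooth.Fiber
import Mathlib.RingTheory.Flat.Basic
import Mathlib.RingTheory.Kaehler.TensorProduct

/-!
# Flatness, finite presentation, smoothness over a fibre product of surjections
-/

set_option autoImplicit false
set_option backward.isDefEq.respectTransparency.types false
set_option linter.style.haveILetI false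
universe u

open CategoryTheory Limits TensorProduct
open Groth.Agent.KerEval

namespace Groth.Agent.FlatMorPush

/-- For a flat quotient `P → M`, `J • P ∩ ker = J • ker`. -/
theorem mem_smul_ker_of_flat {R P M : Type u} [CommRing R] [AddCommGroup P] [Module R P]
    [AddCommGroup M] [Module R M] [Module.Flat R M] (π : P →ₗ[R] M) (hπ : Function.Surjective π)
    (J : Ideal R) {x : P} (hx : x ∈ J • (⊤ : Submodule R P)) (hx0 : π x = 0) :
    x ∈ J • LinearMap.ker π := by
  let μ : J ⊗[R] P →ₗ[R] P := TensorProduct.lift ((LinearMap.lsmul R P).comp J.subtype)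
  let ν : J ⊗[R] M →ₗ[R] M := TensorProduct.lift ((LinearMap.lsmul R M).comp J.subtype)
  have hν : Function.Injective ν := by
    have : ν = (TensorProduct.lid R M).toLinearMap ∘ₗ J.subtype.rTensor M := by
      ext j m; simp [ν]
    rw [this, LinearMap.coe_comp]
    exact (TensorProduct.lid R M).injective.comp
      (Module.Flat.rTensor_preserves_injective_linearMap _ J.subtype_injective)
  have hcomm : ν ∘ₗ π.lTensor J = π ∘ₗ μ := by
    ext j p; simp [μ, ν]
  obtain ⟨z, rfl⟩ : x ∈ LinearMap.range μ := by
    refine Submodule.smul_induction_on hx (fun r hr p _ => ⟨⟨r, hr⟩ ⊗ₜ p, by simp [μ]⟩)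
      fun a b ha hb => add_mem ha hb
  have hz : π.lTensor J z = 0 := hν (by
    rw [map_zero, ← LinearMap.comp_apply, hcomm, LinearMap.comp_apply, hx0])
  obtain ⟨w, rfl⟩ := (lTensor_exact J π.exact_subtype_ker_map hπ z).mp hz
  clear hx hx0 hz
  induction w with
  | zero => simp
  | tmul j k => simpa [μ] using Submodule.smul_mem_smul j.2 k.2
  | add a b ha hb => simpa only [map_add] using add_mem ha hb

/-- Generators of the kernel of a flat quotient modulo `J`. -/
theorem exists_ker_le_sup {C A C' : Type u} [CommRing C] [CommRing A] [CommRing C'] [Algebra C A]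
    [Algebra C C'] [Module.Flat C C'] [Algebra.FinitePresentation A (A ⊗[C] C')]
    (hA : Function.Surjective (algebraMap C A)) {n : ℕ}
    (π : MvPolynomial (Fin n) C →ₐ[C] C') (hπ : Function.Surjective π) :
    ∃ t : Finset (MvPolynomial (Fin n) C), (t : Set (MvPolynomial (Fin n) C)) ⊆ (RingHom.ker π.toRingHom : Set (MvPolynomial (Fin n) C)) ∧
      (RingHom.ker π.toRingHom).restrictScalars C ≤ (Ideal.span (t : Set _)).restrictScalars C ⊔
        RingHom.ker (algebraMap C A) • (RingHom.ker π.toRingHom).restrictScalars C := by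
  classical
  let P := MvPolynomial (Fin n) C
  let incl : P →ₐ[C] A ⊗[C] P := Algebra.TensorProduct.includeRight
  have hincl : Function.Surjective incl := fun z => by
    induction z with
    | zero => exact ⟨0, map_zero _⟩
    | tmul a p =>
      obtain ⟨c, rfl⟩ := hA a
      exact ⟨c • p, show (1 : A) ⊗ₜ[C] (c • p) = _ by
        rw [tmul_smul, smul_tmul', Algebra.smul_def, mul_one]⟩
    | add a b ha hb =>
      obtain ⟨a', rfl⟩ := ha
      obtain ⟨b', rfl⟩ := hb
      exact ⟨a' + b', map_add ..⟩
  let πA : A ⊗[C] P →ₐ[A] A ⊗[C] C' := Algebra.TensorProduct.map (AlgHom.id A A) π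
  have hπA : Function.Surjective πA :=
    Algebra.TensorProduct.map_surjective _ _ Function.surjective_id hπ
  have hker : RingHom.ker πA.toRingHom = (RingHom.ker π.toRingHom).map incl.toRingHom :=
    Algebra.TensorProduct.lTensor_ker π hπ
  obtain ⟨s, hs⟩ := Algebra.FinitePresentation.ker_fG_of_surjective πA hπA
  have hlift : ∀ q ∈ s, ∃ p ∈ RingHom.ker π.toRingHom, incl p = q := fun q hq => by
    have : q ∈ (RingHom.ker π.toRingHom).map incl.toRingHom :=
      hker ▸ hs ▸ Submodule.subset_span hq
    exact (Ideal.mem_map_iff_of_surjective _ hincl).mp this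
  choose p hp hp' using hlift
  refine ⟨s.attach.image fun q => p q.1 q.2, ?_, ?_⟩
  · intro x hx
    obtain ⟨q, -, rfl⟩ := Finset.mem_image.mp hx
    exact hp _ _
  intro x hx
  have hx' : incl x ∈ (Ideal.span
      (s.attach.image fun q => p q.1 q.2 : Set P)).map incl.toRingHom := by
    have h1 : incl x ∈ RingHom.ker πA.toRingHom := hker ▸ Ideal.mem_map_of_mem _ hx
    rw [← hs] at h1
    refine (Ideal.span_le.mpr fun q hq => ?_) h1
    rw [← hp' q hq]
    exact Ideal.mem_map_of_mem _
      (Ideal.subset_span (Finset.mem_image.mpr ⟨⟨q, hq⟩, Finset.mem_attach _ _, rfl⟩))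
  obtain ⟨σ, hσ, hσ'⟩ := (Ideal.mem_map_iff_of_surjective _ hincl).mp hx'
  have hσK : σ ∈ RingHom.ker π.toRingHom := (Ideal.span_le.mpr fun q hq => by
    obtain ⟨q', -, rfl⟩ := Finset.mem_image.mp hq
    exact hp _ _) hσ
  have hzero : (1 : A) ⊗ₜ[C] (x - σ) = (0 : A ⊗[C] P) := by
    rw [tmul_sub, sub_eq_zero]; exact hσ'.symm
  have hmem : x - σ ∈ RingHom.ker (algebraMap C A) • (⊤ : Submodule C P) :=
    (HenselLib.Milnor.tmul_eq_zero_iff_mem hA _).mp hzero
  have hK : x - σ ∈ RingHom.ker (algebraMap C A) • LinearMap.ker π.toLinearMap :=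
    mem_smul_ker_of_flat π.toLinearMap hπ _ hmem (by
      show π (x - σ) = 0
      exact sub_mem hx hσK)
  exact Submodule.mem_sup.mpr ⟨σ, hσ, x - σ, hK, add_sub_cancel ..⟩

/-- A flat algebra of finite type, finitely presented modulo two ideals of zero product, is
finitely presented. -/
theorem finitePresentation_of_two {C A B C' : Type u} [CommRing C] [CommRing A] [CommRing B]
    [CommRing C'] [Algebra C A] [Algebra C B] [Algebra C C'] [Module.Flat C C']
    [Algebra.FiniteType C C'] [Algebra.FinitePresentation A (A ⊗[C] C')]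
    [Algebra.FinitePresentation B (B ⊗[C] C')]
    (hA : Function.Surjective (algebraMap C A)) (hB : Function.Surjective (algebraMap C B))
    (h0 : RingHom.ker (algebraMap C A) * RingHom.ker (algebraMap C B) = ⊥) :
    Algebra.FinitePresentation C C' := by
  classical
  obtain ⟨n, π, hπ⟩ := Algebra.FiniteType.iff_quotient_mvPolynomial''.1 ‹Algebra.FiniteType C C'›
  obtain ⟨t₁, ht₁, h₁⟩ := exists_ker_le_sup (A := A) hA π hπ
  obtain ⟨t₂, ht₂, h₂⟩ := exists_ker_le_sup (A := B) hB π hπ
  refine Algebra.FinitePresentation.of_surjective hπ ⟨t₁ ∪ t₂, le_antisymm ?_ ?_⟩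
  · exact Ideal.span_le.mpr (by rw [Finset.coe_union]; exact Set.union_subset ht₁ ht₂)
  intro x hx
  let K : Submodule C (MvPolynomial (Fin n) C) := (RingHom.ker π.toRingHom).restrictScalars C
  let L := (Ideal.span ((t₁ ∪ t₂ : Finset _) : Set (MvPolynomial (Fin n) C))).restrictScalars C
  have e₁ : K ≤ L ⊔ RingHom.ker (algebraMap C A) • K :=
    h₁.trans (sup_le_sup_right (fun y hy => Ideal.span_mono (by simp) hy) _)
  have e₂ : K ≤ L ⊔ RingHom.ker (algebraMap C B) • K :=
    h₂.trans (sup_le_sup_right (fun y hy => Ideal.span_mono (by simp) hy) _)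
  have : K ≤ L := e₁.trans (sup_le le_rfl ((Submodule.smul_mono le_rfl e₂).trans (by
    rw [Submodule.smul_sup, ← Submodule.smul_assoc, smul_eq_mul, h0, Submodule.bot_smul, sup_bot_eq]
    exact Submodule.smul_le_right)))
  exact this hx

/-- A fibre of `C'` over a point of the closed subset `Spec A` is a fibre of `A ⊗ C'`. -/
theorem formallySmooth_fiber {C A C' : Type u} [CommRing C] [CommRing A] [CommRing C']
    [Algebra C A] [Algebra C C'] [Algebra.Smooth A (A ⊗[C] C')]
    (hA : Function.Surjective (algebraMap C A)) (P : Ideal C) [P.IsPrime]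
    (hP : RingHom.ker (algebraMap C A) ≤ P) :
    Algebra.FormallySmooth P.ResidueField (P.Fiber C') := by
  let χ : {g : C →+* P.ResidueField // RingHom.ker (algebraMap C A) ≤ RingHom.ker g} :=
    ⟨algebraMap C P.ResidueField, fun c hc => by
      rw [RingHom.mem_ker, Ideal.algebraMap_residueField_eq_zero]
      exact hP hc⟩
  let ρ : A →+* P.ResidueField := (algebraMap C A).liftOfSurjective hA χ
  let _ := ρ.toAlgebra
  have : IsScalarTower C A P.ResidueField :=
    .of_algebraMap_eq fun c => (RingHom.liftOfSurjective_comp_apply _ hA χ c).symm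
  exact Algebra.FormallySmooth.of_equiv
    (Algebra.TensorProduct.cancelBaseChange C A P.ResidueField P.ResidueField C')

section map

variable {C A B D C' A' B' D' : Type u} [CommRing C] [CommRing A] [CommRing B] [CommRing D]
  [CommRing C'] [CommRing A'] [CommRing B'] [CommRing D']
  (S : Sq C A B D) (S' : Sq C' A' B' D')
  {φ : C →+* C'} {α : A →+* A'} {β : B →+* B'} {δ : D →+* D'}
  (hf : S'.f.comp φ = α.comp S.f) (hg : S'.g.comp φ = β.comp S.g)
  (hAD : IsPushout (CommRingCat.ofHom S.q) (CommRingCat.ofHom α)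
    (CommRingCat.ofHom δ) (CommRingCat.ofHom S'.q))
  (hBD : IsPushout (CommRingCat.ofHom S.p) (CommRingCat.ofHom β)
    (CommRingCat.ofHom δ) (CommRingCat.ofHom S'.p))

include hf hg hAD hBD in
theorem flat_map (hα : α.Flat) (hβ : β.Flat) : φ.Flat := by
  have h1 := isPushout_f S S' hf hg hAD hBD
  have h2 := isPushout_g S S' hf hg hAD hBD
  algebraize [φ, α, β, S.f, S.g, S.q, S.p, S.q.comp S.f, S'.f, S'.g, α.comp S.f, β.comp S.g]
  have : IsScalarTower C A D := .of_algebraMap_eq' rfl
  have : IsScalarTower C B D := .of_algebraMap_eq' (RingHom.ext fun c => S.comm c)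
  have hsq : EtMil.IsFibreSquare C A B D :=
    ⟨S.surj, fun a b h => by
      obtain ⟨c, hc⟩ := S.exist a b h
      exact ⟨c, hc, fun c' hc' => S.ext _ _ (hc'.1.trans hc.1.symm) (hc'.2.trans hc.2.symm)⟩⟩
  have : IsScalarTower C C' A' := .of_algebraMap_eq' hf.symm
  have : IsScalarTower C C' B' := .of_algebraMap_eq' hg.symm
  have pA : Algebra.IsPushout C A C' A' := CommRingCat.isPushout_iff_isPushout.mp h1
  have pB : Algebra.IsPushout C B C' B' := CommRingCat.isPushout_iff_isPushout.mp h2
  have : Module.Flat A A' := hα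
  have : Module.Flat B B' := hβ
  have : Module.Flat A (A ⊗[C] C') := .of_linearEquiv (Algebra.IsPushout.equiv C A C' A').toLinearEquiv
  have : Module.Flat B (B ⊗[C] C') := .of_linearEquiv (Algebra.IsPushout.equiv C B C' B').toLinearEquiv
  exact (HenselLib.Milnor.flat_of_flat hsq C' : Module.Flat C C')

lemma g_surj (hq : Function.Surjective S.q) : Function.Surjective S.g := fun b => by
  obtain ⟨a, ha⟩ := hq (S.p b)
  obtain ⟨c, -, hc⟩ := S.exist a b ha
  exact ⟨c, hc⟩

lemma ker_f_mul_ker_g : RingHom.ker S.f * RingHom.ker S.g = ⊥ :=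
  le_bot_iff.mp (Ideal.mul_le.mpr fun c hc d hd => Submodule.mem_bot _ |>.mpr (S.ext _ _
    (by rw [map_mul, RingHom.mem_ker.mp hc, zero_mul, map_zero])
    (by rw [map_mul, RingHom.mem_ker.mp hd, mul_zero, map_zero])))

include hf hg hAD hBD in
theorem finitePresentation_map (hq : Function.Surjective S.q) (hα : α.Flat) (hβ : β.Flat)
    (hα' : α.FinitePresentation) (hβ' : β.FinitePresentation) : φ.FinitePresentation := by
  have h1 := isPushout_f S S' hf hg hAD hBD
  have h2 := isPushout_g S S' hf hg hAD hBD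
  have hfl := flat_map S S' hf hg hAD hBD hα hβ
  have hft : φ.FiniteType := finiteType_map S S' hf hg hAD hBD
    (RingHom.FiniteType.of_finitePresentation hα') (RingHom.FiniteType.of_finitePresentation hβ')
  algebraize [φ, α, β, S.f, S.g, S'.f, S'.g, α.comp S.f, β.comp S.g]
  have : IsScalarTower C C' A' := .of_algebraMap_eq' hf.symm
  have : IsScalarTower C C' B' := .of_algebraMap_eq' hg.symm
  have pA : Algebra.IsPushout C A C' A' := CommRingCat.isPushout_iff_isPushout.mp h1
  have pB : Algebra.IsPushout C B C' B' := CommRingCat.isPushout_iff_isPushout.mp h2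
  have : Algebra.FinitePresentation A A' := hα'
  have : Algebra.FinitePresentation B B' := hβ'
  have : Module.Flat C C' := hfl
  have : Algebra.FiniteType C C' := hft
  have : Algebra.FinitePresentation A (A ⊗[C] C') :=
    Algebra.FinitePresentation.equiv (Algebra.IsPushout.equiv C A C' A').symm
  have : Algebra.FinitePresentation B (B ⊗[C] C') :=
    Algebra.FinitePresentation.equiv (Algebra.IsPushout.equiv C B C' B').symm
  exact (finitePresentation_of_two (A := A) (B := B) S.f_surj (g_surj S hq) (ker_f_mul_ker_g S) :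
    Algebra.FinitePresentation C C')

include hf hg hAD hBD in
theorem smooth_map (hq : Function.Surjective S.q) (hα : α.Smooth) (hβ : β.Smooth) : φ.Smooth := by
  have h1 := isPushout_f S S' hf hg hAD hBD
  have h2 := isPushout_g S S' hf hg hAD hBD
  have hfl := flat_map S S' hf hg hAD hBD hα.flat hβ.flat
  have hfp := finitePresentation_map S S' hf hg hAD hBD hq hα.flat hβ.flat hα.finitePresentation
    hβ.finitePresentation
  algebraize [φ, α, β, S.f, S.g, S'.f, S'.g, α.comp S.f, β.comp S.g]
  have : IsScalarTower C C' A' := .of_algebraMap_eq' hf.symm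
  have : IsScalarTower C C' B' := .of_algebraMap_eq' hg.symm
  have pA : Algebra.IsPushout C A C' A' := CommRingCat.isPushout_iff_isPushout.mp h1
  have pB : Algebra.IsPushout C B C' B' := CommRingCat.isPushout_iff_isPushout.mp h2
  have : Algebra.Smooth A A' := hα
  have : Algebra.Smooth B B' := hβ
  have : Module.Flat C C' := hfl
  have : Algebra.FinitePresentation C C' := hfp
  have : Algebra.Smooth A (A ⊗[C] C') :=
    Algebra.Smooth.of_equiv (Algebra.IsPushout.equiv C A C' A').symm
  have : Algebra.Smooth B (B ⊗[C] C') :=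
    Algebra.Smooth.of_equiv (Algebra.IsPushout.equiv C B C' B').symm
  refine (Algebra.Smooth.of_formallySmooth_fiber fun P hP => ?_ : Algebra.Smooth C C')
  rcases hP.mul_le.mp ((ker_f_mul_ker_g S).le.trans bot_le) with h | h
  · exact formallySmooth_fiber (A := A) S.f_surj P h
  · exact formallySmooth_fiber (A := B) (g_surj S hq) P h

include hf hg hAD hBD in
theorem etale_map (hq : Function.Surjective S.q) (hα : α.Etale) (hβ : β.Etale) : φ.Etale := by
  have h1 := isPushout_f S S' hf hg hAD hBD
  have h2 := isPushout_g S S' hf hg hAD hBD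
  have hαs : α.Smooth := ((RingHom.etale_iff_formallyUnramified_and_smooth α).mp hα).2
  have hβs : β.Smooth := ((RingHom.etale_iff_formallyUnramified_and_smooth β).mp hβ).2
  have hfl := flat_map S S' hf hg hAD hBD hαs.flat hβs.flat
  have hfp := finitePresentation_map S S' hf hg hAD hBD hq hαs.flat hβs.flat
    hαs.finitePresentation hβs.finitePresentation
  algebraize [φ, α, β, S.f, S.g, S.q, S.p, S.q.comp S.f, S'.f, S'.g, α.comp S.f, β.comp S.g]
  have : IsScalarTower C A D := .of_algebraMap_eq' rfl
  have : IsScalarTower C B D := .of_algebraMap_eq' (RingHom.ext fun c => S.comm c)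
  have hsq : EtMil.IsFibreSquare C A B D :=
    ⟨S.surj, fun a b h => by
      obtain ⟨c, hc⟩ := S.exist a b h
      exact ⟨c, hc, fun c' hc' => S.ext _ _ (hc'.1.trans hc.1.symm) (hc'.2.trans hc.2.symm)⟩⟩
  have : IsScalarTower C C' A' := .of_algebraMap_eq' hf.symm
  have : IsScalarTower C C' B' := .of_algebraMap_eq' hg.symm
  have pA : Algebra.IsPushout C A C' A' := CommRingCat.isPushout_iff_isPushout.mp h1
  have pB : Algebra.IsPushout C B C' B' := CommRingCat.isPushout_iff_isPushout.mp h2
  have : Algebra.Etale A A' := hα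
  have : Algebra.Etale B B' := hβ
  have : Module.Flat C C' := hfl
  have : Algebra.FinitePresentation C C' := hfp
  have hA0 : Subsingleton (A ⊗[C] Ω[C'⁄C]) :=
    (KaehlerDifferential.tensorKaehlerEquivBase C A C' A').toEquiv.subsingleton
  have hB0 : Subsingleton (B ⊗[C] Ω[C'⁄C]) :=
    (KaehlerDifferential.tensorKaehlerEquivBase C B C' B').toEquiv.subsingleton
  have : Algebra.FormallyUnramified C C' :=
    ⟨HenselLib.Milnor.subsingleton_of_subsingleton hsq Ω[C'⁄C] hA0 hB0⟩
  exact (Algebra.Etale.of_formallyUnramified_of_flat : Algebra.Etale C C')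

end map

end Groth.Agent.FlatMorPush
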