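import Groth.Agent.KerEval.Square
import Mathlib.RingTheory.Flat.Equalizer
import Mathlib.RingTheory.TensorProduct.Maps
import Mathlib.RingTheory.TensorProduct.Pi

/-!
# Base change of fibre squares of rings
-/

set_option autoImplicit false
universe u

open TensorProduct

namespace Groth.Agent.KerEval.Sq

variable {C A B D : Type u} [CommRing C] [CommRing A] [CommRing B] [CommRing D] (S : Sq C A B D)
  (R R' : Type u) [CommRing R] [CommRing R'] [Algebra R R'] [Algebra R C] [Algebra R A]
  [Algebra R B] [Algebra R D]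
  (hA : ∀ r, S.f (algebraMap R C r) = algebraMap R A r)
  (hB : ∀ r, S.g (algebraMap R C r) = algebraMap R B r)
  (hD : ∀ r, S.q (algebraMap R A r) = algebraMap R D r)
  (hD' : ∀ r, S.p (algebraMap R B r) = algebraMap R D r)

/-- `f` over `R` -/
def fA : C →ₐ[R] A := ⟨S.f, hA⟩
/-- `g` over `R` -/
def gA : C →ₐ[R] B := ⟨S.g, hB⟩
/-- `q` over `R` -/
def qA : A →ₐ[R] D := ⟨S.q, hD⟩
/-- `p` over `R` -/
def pA : B →ₐ[R] D := ⟨S.p, hD'⟩

include hA hB hD hD' in
/-- The fibre square after tensoring, when `R'` or `D` is flat over `R`. -/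
theorem exists_baseChange (hflat : Module.Flat R R' ∨ Module.Flat R D) :
    ∃ S' : Sq (R' ⊗[R] C) (R' ⊗[R] A) (R' ⊗[R] B) (R' ⊗[R] D),
      S'.f = (Algebra.TensorProduct.map (AlgHom.id R R') (S.fA R hA)).toRingHom ∧
      S'.g = (Algebra.TensorProduct.map (AlgHom.id R R') (S.gA R hB)).toRingHom ∧
      S'.q = (Algebra.TensorProduct.map (AlgHom.id R R') (S.qA R hD)).toRingHom ∧
      S'.p = (Algebra.TensorProduct.map (AlgHom.id R R') (S.pA R hD')).toRingHom := by
  let φ : C →ₗ[R] A × B := (S.fA R hA).toLinearMap.prod (S.gA R hB).toLinearMap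
  let ψ : A × B →ₗ[R] D := (S.qA R hD).toLinearMap.coprod (-(S.pA R hD').toLinearMap)
  have hφ : Function.Injective φ := fun c c' h =>
    S.ext c c' (congrArg Prod.fst h) (congrArg Prod.snd h)
  have hψ : Function.Surjective ψ := fun d => by
    obtain ⟨b, hb⟩ := S.surj (-d)
    refine ⟨(0, b), ?_⟩
    change S.q 0 + -S.p b = d
    rw [map_zero, hb, zero_add, neg_neg]
  have hex : Function.Exact φ ψ := by
    rintro ⟨x, y⟩
    constructor
    · intro h
      have h' : S.q x + -S.p y = 0 := h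
      obtain ⟨c, rfl, rfl⟩ := S.exist x y (eq_of_sub_eq_zero (by rw [sub_eq_add_neg]; exact h'))
      exact ⟨c, rfl⟩
    · rintro ⟨c, hc⟩
      rw [← hc]
      change S.q (S.f c) + -S.p (S.g c) = 0
      rw [S.comm, add_neg_cancel]
  have hinj : Function.Injective (φ.lTensor R') := by
    rcases hflat with h | h
    · exact Module.Flat.lTensor_preserves_injective_linearMap _ hφ
    · exact LinearMap.lTensor_injective_of_exact_of_flat ψ hψ φ hφ hex R'
  have hex' := lTensor_exact R' hex hψ
  let e := TensorProduct.prodRight R R R' A B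
  let f' := Algebra.TensorProduct.map (AlgHom.id R R') (S.fA R hA)
  let g' := Algebra.TensorProduct.map (AlgHom.id R R') (S.gA R hB)
  let q' := Algebra.TensorProduct.map (AlgHom.id R R') (S.qA R hD)
  let p' := Algebra.TensorProduct.map (AlgHom.id R R') (S.pA R hD')
  have hφ' : ∀ c, e (φ.lTensor R' c) = (f' c, g' c) := by
    intro c
    induction c with
    | zero => simp; rfl
    | tmul r c => simp [e, φ, f', g', fA, gA]
    | add x y hx hy => simp only [map_add, hx, hy, Prod.mk_add_mk]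
  have hψ' : ∀ x, ψ.lTensor R' (e.symm x) = q' x.1 - p' x.2 := by
    intro x
    obtain ⟨z, rfl⟩ := e.surjective x
    rw [LinearEquiv.symm_apply_apply]
    induction z with
    | zero => simp
    | tmul r z => simp [e, ψ, q', p', qA, pA, tmul_add, tmul_neg, sub_eq_add_neg]
    | add x y hx hy => simp only [map_add, hx, hy, Prod.fst_add, Prod.snd_add]; abel
  refine ⟨⟨f'.toRingHom, g'.toRingHom, q'.toRingHom, p'.toRingHom, ?_, fun c => ?_, fun x y h => ?_,
    fun c c' h1 h2 => ?_⟩, rfl, rfl, rfl, rfl⟩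
  · intro z
    induction z with
    | zero => exact ⟨0, map_zero _⟩
    | tmul r d =>
      obtain ⟨b, rfl⟩ := S.surj d
      exact ⟨r ⊗ₜ b, rfl⟩
    | add x y hx hy =>
      obtain ⟨a, rfl⟩ := hx
      obtain ⟨a', rfl⟩ := hy
      exact ⟨a + a', map_add ..⟩
  · have h := hψ' (f' c, g' c)
    rw [← hφ' c, LinearEquiv.symm_apply_apply] at h
    have h0 : ψ.lTensor R' (φ.lTensor R' c) = 0 := (hex' _).mpr ⟨c, rfl⟩
    rw [h0, hφ' c] at h
    exact eq_of_sub_eq_zero h.symm
  · obtain ⟨c, hc⟩ := (hex' (e.symm (x, y))).mp (by rw [hψ']; exact sub_eq_zero.mpr h)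
    have := hφ' c
    rw [hc, LinearEquiv.apply_symm_apply, Prod.mk.injEq] at this
    exact ⟨c, this.1.symm, this.2.symm⟩
  · apply hinj
    apply e.injective
    rw [hφ', hφ']
    exact Prod.ext h1 h2

end Groth.Agent.KerEval.Sq
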