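import Groth.Agent.FlatMorPush.Criterion
import Groth.Agent.FlatMorPush.Tensor
import Mathlib.AlgebraicGeometry.PullbackCarrier
import Mathlib.AlgebraicGeometry.ResidueField
import Mathlib.AlgebraicGeometry.Morphisms.Flat

/-!
# Base change of pushouts with charts
-/

set_option autoImplicit false
set_option linter.style.haveILetI false
set_option backward.isDefEq.respectTransparency.types false
universe u

open AlgebraicGeometry CategoryTheory Limits PrimeSpectrum TensorProduct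
open Groth.Agent.KerEval

namespace Groth.Agent.FlatMorPush

/-- Base change of a square of rings along `R → R'` is cocartesian. -/
theorem isPushout_map_tensor {R R' C B : Type u} [CommRing R] [CommRing R'] [CommRing C] [CommRing B]
    [Algebra R R'] [Algebra R C] [Algebra R B] (σ : C →ₐ[R] B) :
    IsPushout (CommRingCat.ofHom σ.toRingHom)
      (CommRingCat.ofHom (Algebra.TensorProduct.includeRight (R := R) (A := R') (B := C)).toRingHom)
      (CommRingCat.ofHom (Algebra.TensorProduct.includeRight (R := R) (A := R') (B := B)).toRingHom)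
      (CommRingCat.ofHom (Algebra.TensorProduct.map (AlgHom.id R R') σ).toRingHom) := by
  have h1 := (CommRingCat.isPushout_tensorProduct R R' C).flip
  have h2 := (CommRingCat.isPushout_tensorProduct R R' B).flip
  refine IsPushout.of_left (h₁₁ := CommRingCat.ofHom (algebraMap R C)) ?_ ?_ h1
  · convert h2 using 1
    · ext r; exact σ.commutes r
    · ext r; simp
  · ext c; simp

/-- Composing the base of a cartesian square with a monomorphism. -/
theorem isPullback_comp_mono {W A B T T' : Scheme.{u}} {p : W ⟶ A} {q : W ⟶ B} {f : A ⟶ T}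
    {g : B ⟶ T} (h : IsPullback p q f g) (m : T ⟶ T') [Mono m] :
    IsPullback p q (f ≫ m) (g ≫ m) := by
  refine ⟨⟨by rw [reassoc_of% h.w]⟩, ⟨PullbackCone.IsLimit.mk _
    (fun s => h.lift s.fst s.snd ((cancel_mono m).mp (by simpa using s.condition)))
    (fun s => h.lift_fst _ _ _) (fun s => h.lift_snd _ _ _)
    (fun s t h₁ h₂ => h.hom_ext (by simp [h₁]) (by simp [h₂]))⟩⟩

variable {X Y Z P X' Y' Z' P' S S' : Scheme.{u}} {i : Z ⟶ X} {j : Z ⟶ Y} {a : X ⟶ P} {b : Y ⟶ P}
  {i' : Z' ⟶ X'} {j' : Z' ⟶ Y'} {a' : X' ⟶ P'} {b' : Y' ⟶ P'}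
  {s : P ⟶ S} {g : S' ⟶ S} {pP : P' ⟶ P} {sP : P' ⟶ S'}
  {pX : X' ⟶ X} {pY : Y' ⟶ Y} {pZ : Z' ⟶ Z}

/-- Pushouts given by charts commute with base changes `S' → S`, provided `S' → S` is flat or the
corners `Spec D → Z → S` are flat. -/
theorem isPushout_baseChange (hP : IsPullback pP sP s g)
    (hcov : ∀ p : P, ∃ c : SqChart i j a b, p ∈ Set.range c.e ∧
      (Flat g ∨ Flat (c.uZ ≫ i ≫ a ≫ s)))
    (hX : IsPullback pX a' a pP) (hY : IsPullback pY b' b pP) (hZ : IsPullback pZ i' i pX)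
    (hj : j' ≫ pY = pZ ≫ j) (hw : i' ≫ a' = j' ≫ b') :
    IsPushout i' j' a' b' := by
  refine isPushout_of_charts hw fun p' => ?_
  obtain ⟨c, ⟨x, hx⟩, hflat⟩ := hcov (pP p')
  -- affine pieces of `S` and `S'`
  obtain ⟨U, hU, hsU, -⟩ := exists_isAffineOpen_mem_and_subset (x := s (pP p')) (U := ⊤) trivial
  obtain ⟨U', hU', hsU', hU'le⟩ := exists_isAffineOpen_mem_and_subset (x := sP p') (U := g ⁻¹ᵁ U)
    (show g (sP p') ∈ U by rw [← Scheme.Hom.comp_apply, ← hP.w]; exact hsU)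
  obtain ⟨_, ⟨d, rfl⟩, hxd, hd⟩ := isTopologicalBasis_basic_opens.exists_subset_of_mem_open
    (show x ∈ ((c.e ≫ s) ⁻¹ᵁ U).1 by
      show (c.e ≫ s) x ∈ U
      rw [Scheme.Hom.comp_apply, hx]; exact hsU) ((c.e ≫ s) ⁻¹ᵁ U).2
  obtain ⟨φ, hφ⟩ := Sq.exists_factor hU (jAway d ≫ c.e ≫ s) (by
    rintro _ ⟨z, rfl⟩
    exact hd ((range_jAway d).subset ⟨z, rfl⟩))
  let T := c.S.loc d
  letI : Algebra Γ(S, U) Γ(S', U') := (g.appLE U U' hU'le).hom.toAlgebra
  letI : Algebra Γ(S, U) (Localization.Away d) := φ.toAlgebra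
  letI : Algebra Γ(S, U) (Localization.Away (c.S.f d)) := (T.f.comp φ).toAlgebra
  letI : Algebra Γ(S, U) (Localization.Away (c.S.g d)) := (T.g.comp φ).toAlgebra
  letI : Algebra Γ(S, U) (Localization.Away (c.S.q (c.S.f d))) := (T.q.comp (T.f.comp φ)).toAlgebra
  have hD' : ∀ r, T.p (algebraMap Γ(S, U) (Localization.Away (c.S.g d)) r) =
      algebraMap Γ(S, U) (Localization.Away (c.S.q (c.S.f d))) r := fun r => (T.comm (φ r)).symm
  have hg : Spec.map (CommRingCat.ofHom (algebraMap Γ(S, U) Γ(S', U'))) ≫ hU.fromSpec =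
      hU'.fromSpec ≫ g := IsAffineOpen.SpecMap_appLE_fromSpec g hU hU' hU'le
  have hflat' : Module.Flat Γ(S, U) Γ(S', U') ∨
      Module.Flat Γ(S, U) (Localization.Away (c.S.q (c.S.f d))) := by
    rcases hflat with h | h
    · exact Or.inl (HasRingHomProperty.appLE @Flat g h ⟨U, hU⟩ ⟨U', hU'⟩ hU'le)
    · refine Or.inr ?_
      have he : sp (T.q.comp (T.f.comp φ)) ≫ hU.fromSpec =
          jAway (c.S.q (c.S.f d)) ≫ c.uZ ≫ i ≫ a ≫ s := by
        rw [sp_comp, sp_comp, Category.assoc, Category.assoc, hφ]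
        change sp (c.S.qLoc d) ≫ sp (c.S.fLoc d) ≫ jAway d ≫ c.e ≫ s = _
        rw [reassoc_of% c.S.sp_fLoc, reassoc_of% c.S.sp_qLoc, ← Category.assoc (sp c.S.q) (sp c.S.f),
          ← sp_comp, show c.S.q.comp c.S.f = c.S.p.comp c.S.g from RingHom.ext c.S.comm, sp_comp,
          Category.assoc, reassoc_of% c.hX.w, reassoc_of% c.hZX]
      have h2 : Flat (sp (T.q.comp (T.f.comp φ)) ≫ hU.fromSpec) := by rw [he]; infer_instance
      have h3 : Flat (sp (T.q.comp (T.f.comp φ))) := by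
        have hpb : IsPullback (sp (T.q.comp (T.f.comp φ))) (𝟙 _) hU.fromSpec
            (sp (T.q.comp (T.f.comp φ)) ≫ hU.fromSpec) :=
          IsPullback.of_vert_isIso_mono ⟨by simp⟩
        exact MorphismProperty.of_isPullback hpb.flip h2
      exact (HasRingHomProperty.Spec_iff (P := @Flat)).mp h3
  obtain ⟨T', hTf, hTg, hTq, hTp⟩ := T.exists_baseChange Γ(S, U) Γ(S', U') (fun _ => rfl)
    (fun _ => rfl) (fun _ => rfl) hD' hflat'
  -- the chart of `P'`
  let fC := sp (Algebra.TensorProduct.includeRight (R := Γ(S, U)) (A := Γ(S', U'))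
    (B := Localization.Away d)).toRingHom
  let sC := sp (Algebra.TensorProduct.includeLeftRingHom (R := Γ(S, U)) (A := Γ(S', U'))
    (B := Localization.Away d))
  have hsq : IsPullback fC sC (jAway d ≫ c.e ≫ s) (hU'.fromSpec ≫ g) := by
    have h := (isPullback_SpecMap_of_isPushout _ _ _ _
      (CommRingCat.isPushout_tensorProduct Γ(S, U) Γ(S', U') (Localization.Away d))).flip
    rw [← hφ, ← hg]
    exact isPullback_comp_mono h hU.fromSpec
  have hw' : (fC ≫ jAway d ≫ c.e) ≫ s = (sC ≫ hU'.fromSpec) ≫ g := by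
    rw [Category.assoc, Category.assoc, Category.assoc]; exact hsq.w
  let e' := hP.lift _ _ hw'
  have he₁ : e' ≫ pP = fC ≫ jAway d ≫ c.e := hP.lift_fst _ _ hw'
  have he₂ : e' ≫ sP = sC ≫ hU'.fromSpec := hP.lift_snd _ _ hw'
  have : IsOpenImmersion e' := by
    have : e' = hsq.isoPullback.hom ≫
        pullback.map (jAway d ≫ c.e ≫ s) (hU'.fromSpec ≫ g) s g (jAway d ≫ c.e) hU'.fromSpec (𝟙 S)
          (by simp) (by simp) ≫ hP.isoPullback.inv := by
      apply hP.hom_ext
      · rw [he₁, Category.assoc, Category.assoc, hP.isoPullback_inv_fst, pullback.lift_fst,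
          reassoc_of% hsq.isoPullback_hom_fst]
      · rw [he₂, Category.assoc, Category.assoc, hP.isoPullback_inv_snd, pullback.lift_snd,
          reassoc_of% hsq.isoPullback_hom_snd]
    rw [this]; infer_instance
  have hp' : p' ∈ Set.range e' := by
    let t := P'.fromSpecResidueField p'
    have ht : ∀ z, t z = p' := fun z => by
      have : t z ∈ Set.range t := ⟨z, rfl⟩
      rwa [Scheme.range_fromSpecResidueField] at this
    have hr₁ : Set.range (t ≫ pP) ⊆ Set.range (jAway d ≫ c.e) := by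
      rintro _ ⟨z, rfl⟩
      obtain ⟨x', hx'⟩ := (range_jAway d).symm.subset hxd
      refine ⟨x', ?_⟩
      rw [Scheme.Hom.comp_apply, Scheme.Hom.comp_apply, hx', ht, hx]
    have hr₂ : Set.range (t ≫ sP) ⊆ Set.range hU'.fromSpec := by
      rintro _ ⟨z, rfl⟩
      rw [hU'.range_fromSpec, Scheme.Hom.comp_apply, ht]
      exact hsU'
    let l₁ := IsOpenImmersion.lift (jAway d ≫ c.e) _ hr₁
    let l₂ := IsOpenImmersion.lift hU'.fromSpec _ hr₂
    have hl₁ : l₁ ≫ jAway d ≫ c.e = t ≫ pP := IsOpenImmersion.lift_fac _ _ hr₁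
    have hl₂ : l₂ ≫ hU'.fromSpec = t ≫ sP := IsOpenImmersion.lift_fac _ _ hr₂
    have hl : l₁ ≫ jAway d ≫ c.e ≫ s = l₂ ≫ hU'.fromSpec ≫ g := by
      rw [reassoc_of% hl₁, reassoc_of% hl₂, hP.w]
    have : hsq.lift l₁ l₂ hl ≫ e' = t := by
      apply hP.hom_ext
      · rw [Category.assoc, he₁, ← Category.assoc, hsq.lift_fst, hl₁]
      · rw [Category.assoc, he₂, ← Category.assoc, hsq.lift_snd, hl₂]
    obtain ⟨z, hz⟩ : p' ∈ Set.range t := by rw [Scheme.range_fromSpecResidueField]; rfl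
    rw [← this, Scheme.Hom.comp_apply] at hz
    exact ⟨_, hz⟩
  -- the corners
  have key : ∀ {W W' : Scheme.{u}} (m : W ⟶ P) (m' : W' ⟶ P') (pW : W' ⟶ W),
      IsPullback pW m' m pP → ∀ {N : Type u} [CommRing N] (σ : c.C →+* N)
      (u₀ : Spec (CommRingCat.of N) ⟶ W), IsPullback (sp σ) u₀ c.e m →
      ∀ [Algebra Γ(S, U) (Localization.Away (σ d))]
        (σL : Localization.Away d →ₐ[Γ(S, U)] Localization.Away (σ d)),
        sp σL.toRingHom ≫ jAway d = jAway (σ d) ≫ sp σ →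
      ∃ u' : Spec (CommRingCat.of (Γ(S', U') ⊗[Γ(S, U)] Localization.Away (σ d))) ⟶ W',
        IsPullback (sp (Algebra.TensorProduct.map (AlgHom.id Γ(S, U) Γ(S', U')) σL).toRingHom)
          u' e' m' ∧
        u' ≫ pW = sp (Algebra.TensorProduct.includeRight (R := Γ(S, U)) (A := Γ(S', U'))
          (B := Localization.Away (σ d))).toRingHom ≫ jAway (σ d) ≫ u₀ := by
    intro W W' m m' pW hW N _ σ u₀ hm _ σL hσL
    let fN := sp (Algebra.TensorProduct.includeRight (R := Γ(S, U)) (A := Γ(S', U'))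
          (B := Localization.Away (σ d))).toRingHom
    let σ' := sp (Algebra.TensorProduct.map (AlgHom.id Γ(S, U) Γ(S', U')) σL).toRingHom
    have h1 : IsPullback σ' fN fC (sp σL.toRingHom) :=
      (isPullback_SpecMap_of_isPushout _ _ _ _ (isPushout_map_tensor (R' := Γ(S', U')) σL)).flip
    have h2 : IsPullback (sp σL.toRingHom) (jAway (σ d)) (jAway d) (sp σ) := by
      refine IsOpenImmersion.isPullback _ _ _ _ hσL.symm ?_
      refine TopologicalSpace.Opens.ext ?_
      change sp σ ⁻¹' Set.range (jAway d) = Set.range (jAway (σ d))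
      rw [range_jAway, range_jAway]
      rfl
    have hrect := (h1.paste_vert (h2.paste_vert hm))
    have hwl : (fN ≫ jAway (σ d) ≫ u₀) ≫ m = (σ' ≫ e') ≫ pP := by
      rw [Category.assoc σ', he₁]
      exact hrect.w.symm
    refine ⟨hW.lift _ _ hwl, ?_, hW.lift_fst _ _ hwl⟩
    refine IsPullback.of_bot ?_ (hW.lift_snd _ _ hwl).symm hW.flip
    rw [hW.lift_fst, he₁]
    exact hrect
  obtain ⟨uX', huX, huX'⟩ := key a a' pX hX c.S.g c.uX c.hX
    (T.gA Γ(S, U) (fun _ => rfl)) (c.S.sp_gLoc d)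
  obtain ⟨uY', huY, huY'⟩ := key b b' pY hY c.S.f c.uY c.hY
    (T.fA Γ(S, U) (fun _ => rfl)) (c.S.sp_fLoc d)
  let fD := sp (Algebra.TensorProduct.includeRight (R := Γ(S, U)) (A := Γ(S', U'))
    (B := Localization.Away (c.S.q (c.S.f d)))).toRingHom
  have hpD : sp T'.p ≫ sp (Algebra.TensorProduct.includeRight (R := Γ(S, U)) (A := Γ(S', U'))
      (B := Localization.Away (c.S.g d))).toRingHom = fD ≫ sp T.p := by
    rw [hTp, ← sp_comp, ← sp_comp]
    congr 1
  have hqD : sp T'.q ≫ sp (Algebra.TensorProduct.includeRight (R := Γ(S, U)) (A := Γ(S', U'))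
      (B := Localization.Away (c.S.f d))).toRingHom = fD ≫ sp T.q := by
    rw [hTq, ← sp_comp, ← sp_comp]
    congr 1
  have hwZ : (fD ≫ jAway _ ≫ c.uZ) ≫ i = (sp T'.p ≫ uX') ≫ pX := by
    rw [Category.assoc (sp T'.p), huX', reassoc_of% hpD, Category.assoc, Category.assoc, ← c.hZX]
    change fD ≫ jAway _ ≫ sp c.S.p ≫ c.uX = fD ≫ sp (c.S.pLoc d) ≫ jAway _ ≫ c.uX
    rw [reassoc_of% c.S.sp_pLoc]
  let uZ' := hZ.lift _ _ hwZ
  refine ⟨{ C := _, A := _, B := _, D := _, S := T', e := e', uX := uX', uY := uY', uZ := uZ', hX := hTg ▸ huX, hY := hTf ▸ huY,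
            hZX := (hZ.lift_snd _ _ hwZ).symm, hZY := ?_ }, hp'⟩
  apply hY.hom_ext
  · rw [Category.assoc, huY', reassoc_of% hqD, Category.assoc, hj, ← Category.assoc uZ',
      (show uZ' ≫ pZ = fD ≫ jAway _ ≫ c.uZ from hZ.lift_fst _ _ hwZ), Category.assoc,
      Category.assoc, ← c.hZY]
    change fD ≫ sp (c.S.qLoc d) ≫ jAway _ ≫ c.uY = fD ≫ jAway _ ≫ sp c.S.q ≫ c.uY
    rw [reassoc_of% c.S.sp_qLoc]
  · rw [Category.assoc, ← (hTf ▸ huY : IsPullback (sp T'.f) uY' e' b').w, Category.assoc, ← hw,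
      ← Category.assoc uZ', hZ.lift_snd, Category.assoc,
      ← (hTg ▸ huX : IsPullback (sp T'.g) uX' e' a').w, ← Category.assoc, ← Category.assoc,
      ← sp_comp, ← sp_comp]
    congr 2
    exact RingHom.ext T'.comm

end Groth.Agent.FlatMorPush
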