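import Groth.Agent.FlatMorPush.Props
import Groth.Agent.FlatMorPush.BaseChange

/-!
# Charts of a given pushout square; flatness
-/

set_option autoImplicit false
set_option backward.isDefEq.respectTransparency.types false
set_option linter.unusedSectionVars false
set_option linter.style.haveILetI false
universe u

open AlgebraicGeometry CategoryTheory Limits PrimeSpectrum
open Groth.Agent.KerEval

namespace Groth.Agent.KerEval.Sq

variable {C A B D : Type u} [CommRing C] [CommRing A] [CommRing B] [CommRing D] (S : Sq C A B D)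

/-- Flatness passes to the fibre product. -/
theorem flat_C {R : Type u} [CommRing R] (ρ : R →+* C) (hA : (S.f.comp ρ).Flat)
    (hB : (S.g.comp ρ).Flat) (hD : (S.q.comp (S.f.comp ρ)).Flat) : ρ.Flat := by
  algebraize [ρ, S.f.comp ρ, S.g.comp ρ, S.q.comp (S.f.comp ρ)]
  let fl : C →ₗ[R] A := (⟨S.f, fun _ => rfl⟩ : C →ₐ[R] A).toLinearMap
  let gl : C →ₗ[R] B := (⟨S.g, fun _ => rfl⟩ : C →ₐ[R] B).toLinearMap
  let ql : A →ₗ[R] D := (⟨S.q, fun _ => rfl⟩ : A →ₐ[R] D).toLinearMap
  let pl : B →ₗ[R] D := (⟨S.p, fun r => (S.comm (ρ r)).symm⟩ : B →ₐ[R] D).toLinearMap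
  let φ : C →ₗ[R] A × B := fl.prod gl
  let ψ : A × B →ₗ[R] D := ql.coprod (-pl)
  have hφ : Function.Injective φ := fun c c' h =>
    S.ext c c' (congrArg Prod.fst h) (congrArg Prod.snd h)
  have hψ : Function.Surjective ψ := fun d => by
    obtain ⟨b, hb⟩ := S.surj (-d)
    refine ⟨(0, b), ?_⟩
    change S.q 0 + -S.p b = d
    rw [map_zero, hb, zero_add, neg_neg]
  have hex : Function.Exact φ ψ := by
    rintro ⟨x, y⟩
    constructor
    · intro h
      have h' : S.q x + -S.p y = 0 := h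
      obtain ⟨c, rfl, rfl⟩ := S.exist x y (eq_of_sub_eq_zero (by rw [sub_eq_add_neg]; exact h'))
      exact ⟨c, rfl⟩
    · rintro ⟨c, hc⟩
      rw [← hc]
      change S.q (S.f c) + -S.p (S.g c) = 0
      rw [S.comm, add_neg_cancel]
  have : Module.Flat R A := hA
  have : Module.Flat R B := hB
  have : Module.Flat R D := hD
  have hprod : ∀ {M N : Type u} [AddCommGroup M] [AddCommGroup N] [Module R M] [Module R N]
      (h : M →ₗ[R] N), Function.Injective h → Function.Injective (h.rTensor (A × B)) := by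
    intro M N _ _ _ _ h hh
    have hc : ∀ x, TensorProduct.prodRight R R N A B (h.rTensor (A × B) x) =
        (h.rTensor A (TensorProduct.prodRight R R M A B x).1,
          h.rTensor B (TensorProduct.prodRight R R M A B x).2) := by
      intro x
      induction x with
      | zero => simp only [map_zero, Prod.fst_zero, Prod.snd_zero]; rfl
      | tmul m x => simp
      | add x y hx hy => simp only [map_add, hx, hy, Prod.fst_add, Prod.snd_add, Prod.mk_add_mk]
    intro x y hxy
    apply (TensorProduct.prodRight R R M A B).injective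
    have h1 := (hc x).symm.trans ((congrArg (TensorProduct.prodRight R R N A B) hxy).trans (hc y))
    rw [Prod.mk.injEq] at h1
    exact Prod.ext (Module.Flat.rTensor_preserves_injective_linearMap h hh h1.1)
      (Module.Flat.rTensor_preserves_injective_linearMap h hh h1.2)
  change Module.Flat R C
  refine Module.Flat.iff_rTensor_preserves_injective_linearMap.mpr fun M N _ _ _ _ h hh => ?_
  have h1 : Function.Injective (φ.lTensor N ∘ₗ h.rTensor C) := by
    rw [show φ.lTensor N ∘ₗ h.rTensor C = h.rTensor (A × B) ∘ₗ φ.lTensor M by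
      rw [LinearMap.lTensor_comp_rTensor, LinearMap.rTensor_comp_lTensor]]
    exact (hprod h hh).comp
      (LinearMap.lTensor_injective_of_exact_of_flat ψ hψ φ hφ hex M)
  rw [LinearMap.coe_comp] at h1
  exact Function.Injective.of_comp h1

end Groth.Agent.KerEval.Sq

namespace Groth.Agent.FlatMorPush

variable {X Y Z P : Scheme.{u}} {i : Z ⟶ X} {j : Z ⟶ Y} [IsClosedImmersion i] [IsAffineHom j]
  {a : X ⟶ P} {b : Y ⟶ P}

/-- A commutative square with affine maps to the corner gives adapted pairs. -/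
theorem hasPairs_of_square (w : i ≫ a = j ≫ b) [IsAffineHom a] [IsAffineHom b] : HasPairs i j := by
  refine hasPairs_of_cover fun y => ?_
  obtain ⟨W, hW, hyW, -⟩ := exists_isAffineOpen_mem_and_subset (x := b y) (U := ⊤) trivial
  exact ⟨⟨a ⁻¹ᵁ W, b ⁻¹ᵁ W, hW.preimage a, hW.preimage b, by
    rw [← Scheme.Hom.comp_preimage, w, Scheme.Hom.comp_preimage]⟩, hyW⟩

/-- A pushout has charts. -/
theorem exists_chart [HasPairs i j] (hP : IsPushout i j a b) (p : P) :
    ∃ c : SqChart i j a b, p ∈ Set.range c.e ∧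
      IsOpenImmersion c.uX ∧ IsOpenImmersion c.uY ∧ IsOpenImmersion c.uZ := by
  let e := (isPushout i j).isoIsPushout _ _ hP
  have ha : inl i j ≫ e.hom = a := (isPushout i j).inl_isoIsPushout_hom _ _ hP
  have hb : inr i j ≫ e.hom = b := (isPushout i j).inr_isoIsPushout_hom _ _ hP
  obtain ⟨k, w, hw⟩ := exists_mem_range (e.inv p)
  refine ⟨{ C := _, A := _, B := _, D := _, S := k.sq, e := ι k ≫ e.hom, uX := k.hU.fromSpec,
            uY := k.hV.fromSpec, uZ := k.hW.fromSpec, hX := ?_, hY := ?_, hZX := k.sp_p,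
            hZY := k.sp_q }, ⟨w, ?_⟩, inferInstance, inferInstance, inferInstance⟩
  · exact (isPullback_inl k).of_iso (Iso.refl _) (Iso.refl _) (Iso.refl _) e
      (by simp) (by simp) (by simp) (by simpa using ha)
  · exact (isPullback_inr k).of_iso (Iso.refl _) (Iso.refl _) (Iso.refl _) e
      (by simp) (by simp) (by simp) (by simpa using hb)
  · change (ι k ≫ e.hom) w = p
    rw [Scheme.Hom.comp_apply, hw, ← Scheme.Hom.comp_apply, Iso.inv_hom_id]
    rfl

/-- The pushout of flat schemes along a flat one is flat. -/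
theorem flat_of_isPushout [HasPairs i j] (hP : IsPushout i j a b) {S : Scheme.{u}} (s : P ⟶ S)
    [Flat (a ≫ s)] [Flat (b ≫ s)] [Flat (i ≫ a ≫ s)] : Flat s := by
  have key : ∀ p : P, ∃ (R : Type u) (_ : CommRing R) (e : Spec (CommRingCat.of R) ⟶ P),
      IsOpenImmersion e ∧ p ∈ Set.range e ∧ Flat (e ≫ s) := by
    intro p
    obtain ⟨c, ⟨x, hx⟩, hX, hY, hZ⟩ := exists_chart hP p
    obtain ⟨U, hU, hsU, -⟩ := exists_isAffineOpen_mem_and_subset (x := s p) (U := ⊤) trivial
    obtain ⟨_, ⟨d, rfl⟩, hxd, hd⟩ := isTopologicalBasis_basic_opens.exists_subset_of_mem_open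
      (show x ∈ ((c.e ≫ s) ⁻¹ᵁ U).1 by
        show (c.e ≫ s) x ∈ U
        rw [Scheme.Hom.comp_apply, hx]; exact hsU) ((c.e ≫ s) ⁻¹ᵁ U).2
    obtain ⟨φ, hφ⟩ := Sq.exists_factor hU (jAway d ≫ c.e ≫ s) (by
      rintro _ ⟨z, rfl⟩
      exact hd ((range_jAway d).subset ⟨z, rfl⟩))
    have hcancel : ∀ {N : Type u} [CommRing N] (ψ : Γ(S, U) →+* N),
        Flat (sp ψ ≫ hU.fromSpec) → ψ.Flat := fun ψ h => by
      have hpb : IsPullback (sp ψ) (𝟙 _) hU.fromSpec (sp ψ ≫ hU.fromSpec) :=
        IsPullback.of_vert_isIso_mono ⟨by simp⟩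
      exact (HasRingHomProperty.Spec_iff (P := @Flat)).mp (MorphismProperty.of_isPullback hpb.flip h)
    have hA : sp ((c.S.fLoc d).comp φ) ≫ hU.fromSpec = jAway (c.S.f d) ≫ c.uY ≫ b ≫ s := by
      rw [sp_comp, Category.assoc, hφ, reassoc_of% c.S.sp_fLoc, reassoc_of% c.hY.w]
    have hB : sp ((c.S.gLoc d).comp φ) ≫ hU.fromSpec = jAway (c.S.g d) ≫ c.uX ≫ a ≫ s := by
      rw [sp_comp, Category.assoc, hφ, reassoc_of% c.S.sp_gLoc, reassoc_of% c.hX.w]
    have hD : sp ((c.S.qLoc d).comp ((c.S.fLoc d).comp φ)) ≫ hU.fromSpec =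
        jAway (c.S.q (c.S.f d)) ≫ c.uZ ≫ i ≫ a ≫ s := by
      rw [sp_comp, sp_comp, Category.assoc, Category.assoc, hφ, reassoc_of% c.S.sp_fLoc,
        reassoc_of% c.S.sp_qLoc, ← Category.assoc (sp c.S.q) (sp c.S.f),
        ← sp_comp, show c.S.q.comp c.S.f = c.S.p.comp c.S.g from RingHom.ext c.S.comm, sp_comp,
        Category.assoc, reassoc_of% c.hX.w, reassoc_of% c.hZX]
    have hflat : φ.Flat := (c.S.loc d).flat_C φ
      (hcancel ((c.S.fLoc d).comp φ) (by rw [hA]; infer_instance))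
      (hcancel ((c.S.gLoc d).comp φ) (by rw [hB]; infer_instance))
      (hcancel ((c.S.qLoc d).comp ((c.S.fLoc d).comp φ)) (by rw [hD]; infer_instance))
    obtain ⟨x', hx'⟩ := (range_jAway d).symm.subset hxd
    refine ⟨Localization.Away d, inferInstance, jAway d ≫ c.e, inferInstance, ⟨x', ?_⟩, ?_⟩
    · rw [Scheme.Hom.comp_apply, hx', hx]
    · rw [Category.assoc, ← hφ]
      have : Flat (sp φ) := (HasRingHomProperty.Spec_iff (P := @Flat)).mpr hflat
      infer_instance
  choose R hR e he hpe hes using key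
  let 𝒰 : P.OpenCover :=
    { I₀ := P
      X := fun p => Spec (@CommRingCat.of (R p) (hR p))
      f := e
      mem₀ := by
        rw [Scheme.presieve₀_mem_precoverage_iff]
        exact ⟨fun p => ⟨p, hpe p⟩, he⟩ }
  rw [IsZariskiLocalAtSource.iff_of_openCover (P := @Flat) 𝒰]
  exact hes

end Groth.Agent.FlatMorPush
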