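import Groth.Agent.FlatMorPush.Transfer

/-!
# Sections and topology of a pushout: the fibre product property over every open
-/

set_option autoImplicit false
set_option backward.isDefEq.respectTransparency.types false
set_option linter.unusedSectionVars false
set_option linter.style.haveILetI false
universe u

open AlgebraicGeometry CategoryTheory Limits PrimeSpectrum
open Groth.Agent.KerEval

namespace Groth.Agent.FlatMorPush

/-- Maps to an affine scheme are determined by the ring map. -/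
theorem toSpecΓ_comp_injective (T : Scheme.{u}) {R : CommRingCat.{u}} {φ ψ : R ⟶ Γ(T, ⊤)}
    (h : T.toSpecΓ ≫ Spec.map φ = T.toSpecΓ ≫ Spec.map ψ) : φ = ψ := by
  have h' := congrArg Scheme.Hom.appTop h
  simp only [Scheme.Hom.comp_appTop, Scheme.toSpecΓ_appTop, Scheme.ΓSpecIso_naturality] at h'
  exact (cancel_epi _).mp h'

variable {X Y Z P : Scheme.{u}} {i : Z ⟶ X} {j : Z ⟶ Y} [IsClosedImmersion i] [IsAffineHom j]
  [HasPairs i j] {a : X ⟶ P} {b : Y ⟶ P}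

/-- A pushout restricts to a pushout over an open. -/
theorem isPushout_restrict (hP : IsPushout i j a b) (W : P.Opens) :
    IsPushout (i ∣_ (a ⁻¹ᵁ W))
      (j.resLE (b ⁻¹ᵁ W) (i ⁻¹ᵁ (a ⁻¹ᵁ W))
        (le_of_eq (by rw [← Scheme.Hom.comp_preimage, hP.w, Scheme.Hom.comp_preimage])))
      (a ∣_ W) (b ∣_ W) := by
  have hcov : ∀ p : P, ∃ c : SqChart i j a b, p ∈ Set.range c.e ∧
      (Flat W.ι ∨ Flat (c.uZ ≫ i ≫ a ≫ 𝟙 P)) := fun p => by
    obtain ⟨c, hc, -⟩ := exists_chart hP p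
    exact ⟨c, hc, Or.inl inferInstance⟩
  refine isPushout_baseChange (s := 𝟙 P) (g := W.ι) (pP := W.ι) (sP := 𝟙 _)
    (IsPullback.of_vert_isIso ⟨by simp⟩) hcov (isPullback_morphismRestrict a W).flip
    (isPullback_morphismRestrict b W).flip (isPullback_morphismRestrict i (a ⁻¹ᵁ W)).flip
    (Scheme.Hom.resLE_comp_ι ..) ?_
  rw [← cancel_mono W.ι, Category.assoc, Category.assoc, morphismRestrict_ι, morphismRestrict_ι,
    ← Category.assoc, morphismRestrict_ι, Scheme.Hom.resLE_comp_ι_assoc, Category.assoc, hP.w]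

/-- Ring maps into the sections of a pushout. -/
theorem exists_desc_sections (hP : IsPushout i j a b) (W : P.Opens) {R : CommRingCat.{u}}
    (φX : R ⟶ Γ(X, a ⁻¹ᵁ W)) (φY : R ⟶ Γ(Y, b ⁻¹ᵁ W))
    (h : φX ≫ i.appLE (a ⁻¹ᵁ W) (i ⁻¹ᵁ (a ⁻¹ᵁ W)) le_rfl =
      φY ≫ j.appLE (b ⁻¹ᵁ W) (i ⁻¹ᵁ (a ⁻¹ᵁ W))
        (le_of_eq (by rw [← Scheme.Hom.comp_preimage, hP.w, Scheme.Hom.comp_preimage]))) :
    ∃ φ : R ⟶ Γ(P, W), φ ≫ a.app W = φX ∧ φ ≫ b.app W = φY := by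
  have hsq := isPushout_restrict hP W
  let uX := (a ⁻¹ᵁ W).toScheme.toSpecΓ ≫ Spec.map (φX ≫ (a ⁻¹ᵁ W).topIso.inv)
  let uY := (b ⁻¹ᵁ W).toScheme.toSpecΓ ≫ Spec.map (φY ≫ (b ⁻¹ᵁ W).topIso.inv)
  have hu : (i ∣_ (a ⁻¹ᵁ W)) ≫ uX =
      j.resLE (b ⁻¹ᵁ W) (i ⁻¹ᵁ (a ⁻¹ᵁ W))
        (le_of_eq (by rw [← Scheme.Hom.comp_preimage, hP.w, Scheme.Hom.comp_preimage])) ≫ uY := by
    simp only [← Scheme.Hom.resLE_eq_morphismRestrict]
    simp only [uX, uY, ← Category.assoc, Scheme.toSpecΓ_naturality]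
    simp only [Category.assoc, ← Spec.map_comp]
    congr 2
    simp only [Scheme.Hom.appTop,
      Scheme.Hom.resLE_app_top, Iso.inv_hom_id_assoc]
    rw [reassoc_of% h]
  let m := hsq.desc uX uY hu
  let ψ := (Scheme.ΓSpecIso R).inv ≫ m.appTop
  have hm : W.toScheme.toSpecΓ ≫ Spec.map ψ = m := by
    simp only [ψ, Spec.map_comp]
    rw [← Category.assoc, ← Scheme.toSpecΓ_naturality, Category.assoc,
      toSpecΓ_SpecMap_ΓSpecIso_inv, Category.comp_id]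
  have hres : ∀ {V : Scheme.{u}} (v : V ⟶ P) (φ : R ⟶ Γ(V, v ⁻¹ᵁ W)),
      (v ∣_ W) ≫ m = (v ⁻¹ᵁ W).toScheme.toSpecΓ ≫ Spec.map (φ ≫ (v ⁻¹ᵁ W).topIso.inv) →
      (ψ ≫ W.topIso.hom) ≫ v.app W = φ := by
    intro V v φ hv
    rw [← Scheme.Hom.resLE_eq_morphismRestrict] at hv
    rw [← hm, ← Category.assoc, Scheme.toSpecΓ_naturality, Category.assoc, ← Spec.map_comp] at hv
    have h1 := toSpecΓ_comp_injective _ hv
    rw [← cancel_mono (v ⁻¹ᵁ W).topIso.inv, ← h1, Category.assoc, Category.assoc]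
    congr 1
    simp only [Scheme.Hom.appTop, Scheme.Hom.resLE_app_top, Scheme.Hom.appLE_eq_app]
  exact ⟨ψ ≫ W.topIso.hom, hres a φX (hsq.inl_desc _ _ hu), hres b φY (hsq.inr_desc _ _ hu)⟩

/-- A section of a pushout is determined on the two sides. -/
theorem hom_ext_sections (hP : IsPushout i j a b) (W : P.Opens) {R : CommRingCat.{u}}
    {φ ψ : R ⟶ Γ(P, W)} (hX : φ ≫ a.app W = ψ ≫ a.app W) (hY : φ ≫ b.app W = ψ ≫ b.app W) :
    φ = ψ := by
  have hsq := isPushout_restrict hP W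
  rw [← cancel_mono W.topIso.inv]
  refine toSpecΓ_comp_injective _ (hsq.hom_ext ?_ ?_) <;>
  · simp only [← Scheme.Hom.resLE_eq_morphismRestrict]
    simp only [← Category.assoc, Scheme.toSpecΓ_naturality]
    simp only [Category.assoc, ← Spec.map_comp]
    congr 2
    simp only [Category.assoc, Scheme.Hom.appTop,
      Scheme.Hom.resLE_app_top, Scheme.Hom.appLE_eq_app, Iso.inv_hom_id_assoc]
    first
    | rw [reassoc_of% hX]
    | rw [reassoc_of% hY]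

/-- A subset of a pushout with open preimages is open. -/
theorem isOpen_of_preimages (hP : IsPushout i j a b) (W : Set P) (ha : IsOpen (a ⁻¹' W))
    (hb : IsOpen (b ⁻¹' W)) : IsOpen W := by
  rw [isOpen_iff_forall_mem_open]
  intro p hp
  obtain ⟨c, ⟨w₀, rfl⟩, -⟩ := exists_chart hP p
  refine ⟨c.e '' (c.e ⁻¹' W), Set.image_preimage_subset _ _, ?_, ⟨w₀, hp, rfl⟩⟩
  refine c.e.isOpenEmbedding.isOpenMap _ ?_
  have hg : comap c.S.g ⁻¹' (c.e ⁻¹' W) = c.uX ⁻¹' (a ⁻¹' W) := Set.ext fun x => by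
    have := congrArg (fun m : _ ⟶ P => m x) c.hX.w
    show c.e (sp c.S.g x) ∈ W ↔ a (c.uX x) ∈ W
    rw [← Scheme.Hom.comp_apply, ← Scheme.Hom.comp_apply, c.hX.w]
  have hf : comap c.S.f ⁻¹' (c.e ⁻¹' W) = c.uY ⁻¹' (b ⁻¹' W) := Set.ext fun y => by
    show c.e (sp c.S.f y) ∈ W ↔ b (c.uY y) ∈ W
    rw [← Scheme.Hom.comp_apply, ← Scheme.Hom.comp_apply, c.hY.w]
  have h0 : c.e ⁻¹' W = comap c.S.g '' (comap c.S.g ⁻¹' (c.e ⁻¹' W)) ∪
      comap c.S.f '' (comap c.S.f ⁻¹' (c.e ⁻¹' W)) := by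
    refine Set.Subset.antisymm (fun w hw => ?_) (Set.union_subset
      (Set.image_preimage_subset _ _) (Set.image_preimage_subset _ _))
    rcases c.S.exists_point w with ⟨y, rfl⟩ | ⟨-, -, -, x, rfl⟩
    · exact Or.inr ⟨y, hw, rfl⟩
    · exact Or.inl ⟨x, hw, rfl⟩
  rw [h0]
  refine c.S.isOpen_image_union (hg ▸ ha.preimage c.uX.continuous)
    (hf ▸ hb.preimage c.uY.continuous) (Set.ext fun z => ?_)
  simp only [Set.mem_preimage]
  rw [c.S.comap_q_comap_f z]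

/-- Point maps compatible on `Z` descend to the pushout. -/
theorem exists_desc_points (hP : IsPushout i j a b) {G : Type*} (u : X → G) (v : Y → G)
    (h : ∀ z, u (i z) = v (j z)) : ∃ m : P → G, (∀ x, m (a x) = u x) ∧ ∀ y, m (b y) = v y := by
  suffices ∀ p : P, ∃ t : G, (∀ x, a x = p → u x = t) ∧ ∀ y, b y = p → v y = t by
    choose m hm₁ hm₂ using this
    exact ⟨m, fun x => (hm₁ _ x rfl).symm, fun y => (hm₂ _ y rfl).symm⟩
  intro p
  obtain ⟨c, ⟨w, rfl⟩, -⟩ := exists_chart hP p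
  have hliftX : ∀ x, a x = c.e w → ∃ x₀, c.uX x₀ = x ∧ comap c.S.g x₀ = w := fun x hx => by
    obtain ⟨t, ht₁, ht₂⟩ := Scheme.Pullback.exists_preimage_pullback (f := c.e) (g := a) w x hx.symm
    refine ⟨c.hX.isoPullback.inv t, ?_, ?_⟩
    · rw [← Scheme.Hom.comp_apply, c.hX.isoPullback_inv_snd]; exact ht₂
    · show sp c.S.g _ = w
      rw [← Scheme.Hom.comp_apply, c.hX.isoPullback_inv_fst]; exact ht₁
  have hliftY : ∀ y, b y = c.e w → ∃ y₀, c.uY y₀ = y ∧ comap c.S.f y₀ = w := fun y hy => by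
    obtain ⟨t, ht₁, ht₂⟩ := Scheme.Pullback.exists_preimage_pullback (f := c.e) (g := b) w y hy.symm
    refine ⟨c.hY.isoPullback.inv t, ?_, ?_⟩
    · rw [← Scheme.Hom.comp_apply, c.hY.isoPullback_inv_snd]; exact ht₂
    · show sp c.S.f _ = w
      rw [← Scheme.Hom.comp_apply, c.hY.isoPullback_inv_fst]; exact ht₁
  by_cases hw : w ∈ Set.range (comap c.S.f)
  · obtain ⟨y₀, rfl⟩ := hw
    refine ⟨v (c.uY y₀), fun x hx => ?_, fun y hy => ?_⟩
    · obtain ⟨x₀, rfl, hx₀⟩ := hliftX x hx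
      obtain ⟨z, rfl, rfl⟩ := c.S.exists_of_comap_eq hx₀
      calc u (c.uX (comap c.S.p z)) = u (i (c.uZ z)) :=
            congrArg (fun m : _ ⟶ X => u (m z)) c.hZX
        _ = v (j (c.uZ z)) := h _
        _ = v (c.uY (comap c.S.q z)) := (congrArg (fun m : _ ⟶ Y => v (m z)) c.hZY).symm
    · obtain ⟨y₁, rfl, hy₁⟩ := hliftY y hy
      rw [comap_injective_of_surjective _ c.S.f_surj hy₁]
  · rcases c.S.exists_point w with ⟨y₀, hy₀⟩ | ⟨-, -, -, x₀, hx₀⟩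
    · exact absurd ⟨y₀, hy₀⟩ hw
    refine ⟨u (c.uX x₀), fun x hx => ?_, fun y hy => ?_⟩
    · obtain ⟨x₁, rfl, hx₁⟩ := hliftX x hx
      rw [c.S.eq_of_comap_g_eq (hx₁.trans hx₀.symm) fun ⟨z, hz⟩ =>
        hw ⟨comap c.S.q z, (c.S.comap_q_comap_f z).trans (hz ▸ hx₁)⟩]
    · obtain ⟨y₁, -, hy₁⟩ := hliftY y hy
      exact absurd ⟨y₁, hy₁⟩ hw

end Groth.Agent.FlatMorPush
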