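import Groth.Agent.FlatMorPush.Instances
import Groth.Agent.Stk19b.SepQuot
import Mathlib.AlgebraicGeometry.Morphisms.Finite
import Mathlib.AlgebraicGeometry.Morphisms.FiniteType
import Mathlib.RingTheory.Adjoin.Tower

/-!
# Properties of Ferrand pushouts
-/

set_option autoImplicit false
set_option backward.isDefEq.respectTransparency.types false
set_option linter.unusedSectionVars false
set_option linter.overlappingInstances false
universe u

open AlgebraicGeometry CategoryTheory Limits PrimeSpectrum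
open Groth.Agent.KerEval

namespace Groth.Agent.KerEval.Sq

variable {C A B D : Type u} [CommRing C] [CommRing A] [CommRing B] [CommRing D] (S : Sq C A B D)

/-- If `A → D` is finite, so is `C → B`. -/
lemma g_finite (hq : S.q.Finite) : S.g.Finite := by
  classical
  algebraize [S.q, S.g]
  obtain ⟨s, hs⟩ := (hq : Module.Finite A D).fg_top
  choose l hl using S.surj
  refine ⟨⟨insert 1 (s.image l), eq_top_iff.mpr fun b _ => ?_⟩⟩
  set M := Submodule.span C (↑(insert 1 (s.image l)) : Set B)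
  have hr : ∀ c, S.g c ∈ M := fun c => by
    rw [← mul_one (S.g c)]
    exact M.smul_mem c (Submodule.subset_span (by simp))
  have key : ∀ d : D, ∃ m ∈ M, S.p m = d := by
    intro d
    have hd : d ∈ Submodule.span A (s : Set D) := by rw [hs]; trivial
    induction hd using Submodule.span_induction with
    | mem x hx => exact ⟨l x, Submodule.subset_span
        (Finset.mem_insert_of_mem (Finset.mem_image_of_mem _ hx)), hl x⟩
    | zero => exact ⟨0, zero_mem _, map_zero _⟩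
    | add x y _ _ hx hy =>
      obtain ⟨a, ha, rfl⟩ := hx
      obtain ⟨a', ha', rfl⟩ := hy
      exact ⟨a + a', add_mem ha ha', map_add ..⟩
    | smul a x _ hx =>
      obtain ⟨m, hm, rfl⟩ := hx
      obtain ⟨c, rfl⟩ := S.f_surj a
      refine ⟨c • m, M.smul_mem c hm, ?_⟩
      change S.p (S.g c * m) = S.q (S.f c) * S.p m
      rw [map_mul, S.comm]
  obtain ⟨m, hm, hmb⟩ := key (S.p b)
  obtain ⟨c, -, hc⟩ := S.exists_kerLift (b := b - m) (by rw [map_sub, hmb, sub_self])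
  rw [show b = S.g c + m by rw [hc]; ring]
  exact add_mem (hr c) hm

/-- Artin–Tate: the fibre product of finite type algebras is of finite type when `q` is finite. -/
lemma finiteType_of_noetherian {R : Type u} [CommRing R] [IsNoetherianRing R] (ρ : R →+* C)
    (hA : (S.f.comp ρ).FiniteType) (hB : (S.g.comp ρ).FiniteType) (hq : S.q.Finite) :
    ρ.FiniteType := by
  let ψ : C →+* A × B := S.f.prod S.g
  algebraize [ρ, S.f.comp ρ, S.g.comp ρ, S.f, S.g]
  have : IsScalarTower R C A := .of_algebraMap_eq' rfl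
  have : IsScalarTower R C B := .of_algebraMap_eq' rfl
  have : Algebra.FiniteType R A := hA
  have : Algebra.FiniteType R B := hB
  have : Module.Finite C A := RingHom.Finite.of_surjective _ S.f_surj
  have : Module.Finite C B := S.g_finite hq
  have : IsScalarTower R C (A × B) := .of_algebraMap_eq fun r => rfl
  have : Algebra.FiniteType R (A × B) := inferInstance
  exact ⟨fg_of_fg_of_fg R C (A × B) this.out Module.Finite.fg_top fun c c' h =>
    S.ext c c' (congrArg Prod.fst h) (congrArg Prod.snd h)⟩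

lemma qLoc_finite (hq : S.q.Finite) (d : C) : (S.qLoc d).Finite :=
  RingHom.finite_localizationPreserves.away S.q (S.f d) _ _ hq

end Groth.Agent.KerEval.Sq

namespace Groth.Agent.FlatMorPush

variable {X Y Z : Scheme.{u}} {i : Z ⟶ X} {j : Z ⟶ Y} [IsClosedImmersion i]

section

variable [IsAffineHom j]

/-- Adapted pairs covering `Y` suffice. -/
theorem hasPairs_of_cover (h : ∀ y, ∃ k : Pair i j, y ∈ k.V) : HasPairs i j := by
  refine ⟨h, fun k l y hk hl => ?_⟩
  obtain ⟨y₀, rfl⟩ := k.hV.range_fromSpec.symm.subset hk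
  let UB : (Spec (CommRingCat.of Γ(X, k.U))).Opens := k.hU.fromSpec ⁻¹ᵁ l.U
  let VA : (Spec (CommRingCat.of Γ(Y, k.V))).Opens := k.hV.fromSpec ⁻¹ᵁ l.V
  have hpq : comap k.sq.p ⁻¹' UB.1 = comap k.sq.q ⁻¹' VA.1 := by
    refine Set.ext fun (z : Spec (CommRingCat.of Γ(Z, j ⁻¹ᵁ k.V))) => ?_
    change k.hU.fromSpec (sp k.sq.p z) ∈ l.U ↔ k.hV.fromSpec (sp k.sq.q z) ∈ l.V
    rw [← Scheme.Hom.comp_apply, ← Scheme.Hom.comp_apply, Pair.sp_p, Pair.sp_q]
    exact SetLike.ext_iff.mp l.eq _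
  obtain ⟨_, ⟨c, rfl⟩, hyc, hc⟩ := isTopologicalBasis_basic_opens.exists_subset_of_mem_open
    (show comap k.sq.f y₀ ∈ comap k.sq.g '' UB.1 ∪ comap k.sq.f '' VA.1 from
      Or.inr ⟨y₀, hl, rfl⟩) (k.sq.isOpen_image_union UB.2 VA.2 hpq)
  have hU : X.basicOpen (k.sq.g c) ≤ l.U := by
    rw [← k.hU.fromSpec_image_basicOpen]
    rintro _ ⟨x, hx, rfl⟩
    exact (k.sq.g_preimage_image hpq).subset (show x ∈ comap k.sq.g ⁻¹' _ from hc hx)
  have hV : Y.basicOpen (k.sq.f c) ≤ l.V := by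
    rw [← k.hV.fromSpec_image_basicOpen]
    rintro _ ⟨v, hv, rfl⟩
    exact (k.sq.f_preimage_image hpq).subset (show v ∈ comap k.sq.f ⁻¹' _ from hc hv)
  have he : i ⁻¹ᵁ X.basicOpen (k.sq.g c) = j ⁻¹ᵁ Y.basicOpen (k.sq.f c) := by
    have h1 : Z.basicOpen (k.sq.p (k.sq.g c)) = j ⁻¹ᵁ k.V ⊓ i ⁻¹ᵁ X.basicOpen (k.sq.g c) :=
      Scheme.basicOpen_appLE i _ _ k.eq.ge _
    rw [← k.sq.comm, inf_eq_right.mpr (fun z hz => k.eq.le (show z ∈ i ⁻¹ᵁ k.U from
      X.basicOpen_le _ hz))] at h1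
    rw [← h1, Scheme.preimage_basicOpen]
    rfl
  refine ⟨⟨X.basicOpen (k.sq.g c), Y.basicOpen (k.sq.f c), k.hU.basicOpen _, k.hV.basicOpen _, he⟩,
    ⟨X.basicOpen_le _, Y.basicOpen_le _⟩, ⟨hU, hV⟩, ?_⟩
  show k.hV.fromSpec y₀ ∈ Y.basicOpen (k.sq.f c)
  rw [← k.hV.fromSpec_image_basicOpen]
  exact ⟨y₀, hyc, rfl⟩

/-- Pairs cut out by affine opens of a base. -/
theorem hasPairs_of_standard {S : Scheme.{u}} (f : X ⟶ S) (t : Y ⟶ S) [IsAffineHom t]
    (hsq : i ≫ f = j ≫ t)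
    (hstd : ∀ s : S, ∃ U : S.Opens, IsAffineOpen U ∧ s ∈ U ∧ ∃ V : X.Opens, IsAffineOpen V ∧
      V ≤ f ⁻¹ᵁ U ∧ ∀ z : Z, (j ≫ t) z ∈ U → i z ∈ V) :
    HasPairs i j := by
  refine hasPairs_of_cover fun y => ?_
  obtain ⟨U, hU, hy, V, hV, hVU, hz⟩ := hstd (t y)
  refine ⟨⟨V, t ⁻¹ᵁ U, hV, hU.preimage t, ?_⟩, hy⟩
  refine TopologicalSpace.Opens.ext (Set.ext fun z => ⟨fun h => ?_, fun h => hz z h⟩)
  have : (i ≫ f) z ∈ U := hVU h
  rw [hsq] at this
  exact this

variable [HasPairs i j]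

theorem isFinite_inl [IsFinite j] : IsFinite (inl i j) := by
  rw [IsZariskiLocalAtTarget.iff_of_openCover (P := @IsFinite) (chartCover i j)]
  intro k
  change IsFinite (pullback.snd (inl i j) (ι k))
  rw [← (isPullback_inl k).flip.isoPullback_inv_snd,
    MorphismProperty.cancel_left_of_respectsIso @IsFinite, IsFinite.SpecMap_iff]
  exact k.sq.g_finite (IsFinite.finite_app (f := j) k.V k.hV)

theorem surjective_coprod' : Surjective (coprod.desc (inl i j) (inr i j)) := by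
  refine ⟨fun w => ?_⟩
  obtain ⟨k, w₀, rfl⟩ := exists_mem_range w
  rcases k.sq.exists_point w₀ with ⟨y, rfl⟩ | ⟨-, -, -, x, rfl⟩
  · refine ⟨(coprod.inr : Y ⟶ X ⨿ Y) (k.hV.fromSpec y), ?_⟩
    change (k.hV.fromSpec ≫ coprod.inr ≫ coprod.desc (inl i j) (inr i j)) y = (sp k.sq.f ≫ ι k) y
    rw [coprod.inr_desc, fromSpec_inr]
  · refine ⟨(coprod.inl : X ⟶ X ⨿ Y) (k.hU.fromSpec x), ?_⟩
    change (k.hU.fromSpec ≫ coprod.inl ≫ coprod.desc (inl i j) (inr i j)) x = (sp k.sq.g ≫ ι k) x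
    rw [coprod.inl_desc, fromSpec_inl]

/-- Finite type over a locally Noetherian base. -/
theorem locallyOfFiniteType_out [IsFinite j] {S : Scheme.{u}} [IsLocallyNoetherian S]
    (r : Po i j ⟶ S) [LocallyOfFiniteType (inl i j ≫ r)] [LocallyOfFiniteType (inr i j ≫ r)] :
    LocallyOfFiniteType r := by
  rw [IsZariskiLocalAtSource.iff_of_openCover (P := @LocallyOfFiniteType) (chartCover i j)]
  intro k
  change LocallyOfFiniteType (ι k ≫ r)
  have hex : ∀ w : PrimeSpectrum k.C, ∃ (d : k.C) (U : S.Opens), IsAffineOpen U ∧ d ∉ w.asIdeal ∧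
      Set.range (jAway d ≫ ι k ≫ r) ⊆ U := by
    intro w
    obtain ⟨U, hU, hwU, -⟩ := exists_isAffineOpen_mem_and_subset
      (x := (ι k ≫ r) w) (U := ⊤) trivial
    obtain ⟨_, ⟨d, rfl⟩, hwd, hd⟩ := isTopologicalBasis_basic_opens.exists_subset_of_mem_open
      (a := w) (show w ∈ ((ι k ≫ r) ⁻¹ᵁ U).1 from hwU) ((ι k ≫ r) ⁻¹ᵁ U).2
    refine ⟨d, U, hU, hwd, ?_⟩
    rintro _ ⟨z, rfl⟩
    exact hd ((range_jAway d).subset ⟨z, rfl⟩)
  choose d U hU hd hdU using hex
  rw [IsZariskiLocalAtSource.iff_of_openCover (P := @LocallyOfFiniteType) (awayCover d hd)]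
  intro w
  change LocallyOfFiniteType (jAway (d w) ≫ ι k ≫ r)
  obtain ⟨φ, hφ⟩ := Sq.exists_factor (hU w) (jAway (d w) ≫ ι k ≫ r) (hdU w)
  rw [← hφ]
  have : IsNoetherianRing Γ(S, U w) := IsLocallyNoetherian.component_noetherian ⟨U w, hU w⟩
  have hA : ((k.sq.fLoc (d w)).comp φ).FiniteType := by
    have : LocallyOfFiniteType (sp ((k.sq.fLoc (d w)).comp φ) ≫ (hU w).fromSpec) := by
      rw [sp_comp, Category.assoc, hφ, ← Category.assoc, k.sq.sp_fLoc, Category.assoc,
        ← Category.assoc (sp k.sq.f), ← fromSpec_inr, Category.assoc]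
      infer_instance
    exact (HasRingHomProperty.Spec_iff (P := @LocallyOfFiniteType)).mp
      (locallyOfFiniteType_of_comp (sp ((k.sq.fLoc (d w)).comp φ)) (hU w).fromSpec)
  have hB : ((k.sq.gLoc (d w)).comp φ).FiniteType := by
    have : LocallyOfFiniteType (sp ((k.sq.gLoc (d w)).comp φ) ≫ (hU w).fromSpec) := by
      rw [sp_comp, Category.assoc, hφ, ← Category.assoc, k.sq.sp_gLoc, Category.assoc,
        ← Category.assoc (sp k.sq.g), ← fromSpec_inl, Category.assoc]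
      infer_instance
    exact (HasRingHomProperty.Spec_iff (P := @LocallyOfFiniteType)).mp
      (locallyOfFiniteType_of_comp (sp ((k.sq.gLoc (d w)).comp φ)) (hU w).fromSpec)
  have : LocallyOfFiniteType (sp φ) := HasRingHomProperty.Spec_iff.mpr
    ((k.sq.loc (d w)).finiteType_of_noetherian φ hA hB
      (k.sq.qLoc_finite (IsFinite.finite_app (f := j) k.V k.hV) (d w)))
  change LocallyOfFiniteType (sp φ ≫ (hU w).fromSpec)
  infer_instance

end

end Groth.Agent.FlatMorPush
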