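import Groth.Agent.FlatMorPush.AdaptedRing
import Mathlib.AlgebraicGeometry.Morphisms.ClosedImmersion
import Mathlib.AlgebraicGeometry.Morphisms.Integral

/-!
# Affine opens adapted to a closed immersion and an integral morphism
-/

set_option autoImplicit false
set_option backward.isDefEq.respectTransparency.types false
universe u

open AlgebraicGeometry CategoryTheory Limits

namespace Groth.Agent.FlatMorPush

/-- A morphism which is a closed immersion over `O` is surjective on sections over affine opens in `O`. -/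
theorem app_surjective_of_le {X Z : Scheme.{u}} (i : Z ⟶ X) {O D : X.Opens}
    [IsClosedImmersion (i ∣_ O)] (hD : IsAffineOpen D) (hle : D ≤ O) :
    Function.Surjective (i.app D) := by
  have hD' : IsAffineOpen (O.ι ⁻¹ᵁ D) :=
    hD.preimage_of_isOpenImmersion O.ι (by rw [Scheme.Opens.opensRange_ι]; exact hle)
  have h := (i ∣_ O).app_surjective _ hD'
  rw [morphismRestrict_app] at h
  have he : O.ι ''ᵁ O.ι ⁻¹ᵁ D = D := by
    rw [Scheme.Hom.image_preimage_eq_opensRange_inf, Scheme.Opens.opensRange_ι]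
    exact inf_eq_right.mpr hle
  have h' : Function.Surjective (i.app (O.ι ''ᵁ O.ι ⁻¹ᵁ D)) := by
    intro t
    obtain ⟨s, hs⟩ := h ((Z.presheaf.map (eqToHom (image_morphismRestrict_preimage i O _)).op) t)
    refine ⟨s, ?_⟩
    exact (ConcreteCategory.bijective_of_isIso
      (Z.presheaf.map (eqToHom (image_morphismRestrict_preimage i O _)).op)).1 hs
  rwa [he] at h'


variable {X Y Z : Scheme.{u}} (i : Z ⟶ X) (j : Z ⟶ Y) [IsIntegralHom j]

/-- Let `U₀` be affine, `O ⊆ U₀` open such that `i` is a closed immersion over `O`, and `y : Y` a point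
whose fibre lies in `i ⁻¹ O`.  Then there are affine opens `U ⊆ O` and `V ∋ y` (as small as
prescribed) with the same preimage in `Z`. -/
theorem exists_adaptedOpens_of_restrict [IsPreimmersion i] {U₀ O : X.Opens} (hU₀ : IsAffineOpen U₀)
    (hO : O ≤ U₀) [IsClosedImmersion (i ∣_ O)] (V₁ : Y.Opens)
    {y : Y} (hy : y ∈ V₁) (hfib : j ⁻¹' {y} ⊆ (i ⁻¹ᵁ O : Set Z)) :
    ∃ (U : X.Opens) (V : Y.Opens), IsAffineOpen U ∧ IsAffineOpen V ∧ U ≤ O ∧ V ≤ V₁ ∧ y ∈ V ∧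
      i ⁻¹ᵁ U = j ⁻¹ᵁ V := by
  -- shrink the target
  have hclosed : IsClosed (j '' ((i ⁻¹ᵁ O : Set Z))ᶜ) :=
    j.isClosedMap _ (i ⁻¹ᵁ O).isOpen.isClosed_compl
  have hy' : y ∈ (V₁ : Set Y) ∩ (j '' ((i ⁻¹ᵁ O : Set Z))ᶜ)ᶜ :=
    ⟨hy, by rintro ⟨z, hz, hzy⟩; exact hz (hfib hzy)⟩
  obtain ⟨_, ⟨V₀, hV₀, rfl⟩, hyV₀, hV₀le⟩ :=
    Y.isBasis_affineOpens.exists_subset_of_mem_open hy' (V₁.isOpen.inter hclosed.isOpen_compl)
  let W : Z.Opens := j ⁻¹ᵁ V₀
  have hW : IsAffineOpen W := hV₀.preimage j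
  have hWO : W ≤ i ⁻¹ᵁ O := fun z hz => by
    by_contra h
    exact (hV₀le hz).2 ⟨z, h, rfl⟩
  have hW₀ : W ≤ i ⁻¹ᵁ U₀ := hWO.trans fun z hz => hO hz
  let φ : Γ(Y, V₀) →+* Γ(Z, W) := (j.app V₀).hom
  let ψ : Γ(X, U₀) →+* Γ(Z, W) := (i.appLE U₀ W hW₀).hom
  let P : Γ(X, U₀) → Prop := fun g => X.basicOpen g ≤ O ∧ i ⁻¹ᵁ X.basicOpen g ≤ W
  have hψ : ∀ g, P g → i ⁻¹ᵁ X.basicOpen g = Z.basicOpen (ψ g) := fun g hg => by
    rw [show Z.basicOpen (ψ g) = W ⊓ i ⁻¹ᵁ X.basicOpen g from Scheme.basicOpen_appLE ..]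
    exact (inf_eq_right.mpr hg.2).symm
  have h0 : P 0 := by simp [P]
  have hadd : ∀ a a', P a → P a' → P (a + a') := fun a a' ha ha' => by
    have h := X.basicOpen_add_le a a'
    exact ⟨h.trans (sup_le ha.1 ha'.1), fun z hz => (h hz).elim (fun h => ha.2 h) fun h => ha'.2 h⟩
  have hmul : ∀ a a', P a' → P (a * a') := fun a a' ha' => by
    refine ⟨?_, ?_⟩ <;> rw [Scheme.basicOpen_mul]
    · exact inf_le_right.trans ha'.1
    · exact fun z hz => ha'.2 hz.2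
  have hsurj : ∀ g, P g → ∀ b, ∃ (N : ℕ) (a : Γ(X, U₀)), ψ a = b * ψ g ^ N := by
    intro g hg b
    have := hU₀.isLocalization_basicOpen g
    have := hW.isLocalization_basicOpen (ψ g)
    have he : Z.basicOpen (ψ g) ≤ i ⁻¹ᵁ X.basicOpen g := (hψ g hg).ge
    let χ : Γ(X, X.basicOpen g) →+* Γ(Z, Z.basicOpen (ψ g)) := (i.appLE _ _ he).hom
    have hχ : ∀ a, χ (algebraMap Γ(X, U₀) _ a) = algebraMap Γ(Z, W) _ (ψ a) := fun a => by
      simp only [χ, ψ, RingHom.algebraMap_toAlgebra, ← CommRingCat.comp_apply,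
        Scheme.Hom.map_appLE, Scheme.Hom.appLE_map]
    have hχs : Function.Surjective χ := by
      intro t
      obtain ⟨t', ht'⟩ := app_surjective_of_le i (hU₀.basicOpen g) hg.1
        ((Z.presheaf.map (eqToHom (hψ g hg)).op) t)
      refine ⟨t', ?_⟩
      simp only [χ, Scheme.Hom.appLE, CommRingCat.comp_apply, ht']
      rw [← CommRingCat.comp_apply, ← Z.presheaf.map_comp]
      simp
    obtain ⟨t, ht⟩ := hχs (algebraMap Γ(Z, W) _ b)
    obtain ⟨⟨a, ⟨_, n, rfl⟩⟩, ha⟩ := IsLocalization.surj (Submonoid.powers g) t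
    have h1 : algebraMap Γ(Z, W) Γ(Z, Z.basicOpen (ψ g)) (b * ψ g ^ n) =
        algebraMap Γ(Z, W) Γ(Z, Z.basicOpen (ψ g)) (ψ a) := by
      rw [← hχ, ← ha]
      simp [hχ, ht, map_mul, map_pow]
    obtain ⟨⟨_, m, rfl⟩, hm⟩ := (IsLocalization.eq_iff_exists (Submonoid.powers (ψ g)) _).mp h1
    refine ⟨m + n, g ^ m * a, ?_⟩
    rw [map_mul, map_pow, pow_add]
    simp only at hm
    rw [← hm]
    ring
  let p : PrimeSpectrum Γ(Y, V₀) := hV₀.primeIdealOf ⟨y, hyV₀⟩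
  have hp : hV₀.fromSpec p = y := hV₀.fromSpec_primeIdealOf ⟨y, hyV₀⟩
  have hpt : ∀ x : PrimeSpectrum Γ(Z, W),
      j (hW.fromSpec x) = hV₀.fromSpec (PrimeSpectrum.comap φ x) := fun x => by
    have h := IsAffineOpen.SpecMap_appLE_fromSpec j hV₀ hW le_rfl
    have h' := congrArg (fun m : _ ⟶ Y => m x) h
    rw [Scheme.Hom.appLE_eq_app] at h'
    exact h'.symm
  have hmem : ∀ (b : Γ(Z, W)) (x : PrimeSpectrum Γ(Z, W)),
      hW.fromSpec x ∈ Z.basicOpen b ↔ b ∉ x.asIdeal := fun b x => by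
    rw [show b ∉ x.asIdeal ↔ x ∈ PrimeSpectrum.basicOpen b from Iff.rfl,
      ← hW.fromSpec_preimage_basicOpen]
    rfl
  have hcov : ∀ x : PrimeSpectrum Γ(Z, W), PrimeSpectrum.comap φ x = p →
      ∃ g, P g ∧ ψ g ∉ x.asIdeal := by
    intro x hx
    have hzW : hW.fromSpec x ∈ W := hW.range_fromSpec.subset ⟨x, rfl⟩
    obtain ⟨O', hO', hO'W⟩ := i.isEmbedding.isInducing.isOpen_iff.mp W.isOpen
    have hzO : i (hW.fromSpec x) ∈ (O ⊓ ⟨O', hO'⟩ : X.Opens) :=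
      ⟨hWO hzW, show hW.fromSpec x ∈ i ⁻¹' O' from hO'W ▸ hzW⟩
    obtain ⟨g, hg, hgx⟩ := hU₀.exists_basicOpen_le ⟨_, hzO⟩ (hW₀ hzW)
    have hPg : P g := ⟨hg.trans inf_le_left, fun z hz => by
      show z ∈ (W : Set Z)
      rw [← hO'W]
      exact (hg hz).2⟩
    refine ⟨g, hPg, (hmem _ x).mp ?_⟩
    rw [← hψ g hPg]
    exact hgx
  obtain ⟨f, r, hf, hr, hfr⟩ :=
    exists_adapted φ (j.isIntegral_app V₀ hV₀) ψ P h0 hadd hmul hsurj p hcov
  refine ⟨X.basicOpen f, Y.basicOpen r, hU₀.basicOpen f, hV₀.basicOpen r, hf.1,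
    (Y.basicOpen_le r).trans fun v hv => (hV₀le hv).1, ?_, ?_⟩
  · rw [← hp]
    have : p ∈ hV₀.fromSpec ⁻¹ᵁ Y.basicOpen r := by
      rw [hV₀.fromSpec_preimage_basicOpen]; exact hr
    exact this
  · rw [hψ f hf, Scheme.preimage_basicOpen, ← hW.fromSpec_image_basicOpen,
      ← hW.fromSpec_image_basicOpen, hfr]

variable [IsClosedImmersion i]

/-- Let `U₀` be affine, `O ⊆ U₀` open and `y : Y` a point whose fibre lies in `i ⁻¹ O`.  Then there are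
affine opens `U ⊆ O` and `V ∋ y` (as small as prescribed) with the same preimage in `Z`. -/
theorem exists_adaptedOpens {U₀ O : X.Opens} (hU₀ : IsAffineOpen U₀) (hO : O ≤ U₀) (V₁ : Y.Opens)
    {y : Y} (hy : y ∈ V₁) (hfib : j ⁻¹' {y} ⊆ (i ⁻¹ᵁ O : Set Z)) :
    ∃ (U : X.Opens) (V : Y.Opens), IsAffineOpen U ∧ IsAffineOpen V ∧ U ≤ O ∧ V ≤ V₁ ∧ y ∈ V ∧
      i ⁻¹ᵁ U = j ⁻¹ᵁ V :=
  have : IsClosedImmersion (i ∣_ O) := IsZariskiLocalAtTarget.restrict ‹_› O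
  exists_adaptedOpens_of_restrict i j hU₀ hO V₁ hy hfib

end Groth.Agent.FlatMorPush
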