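import Mathlib.RingTheory.Spectrum.Prime.Topology
import Mathlib.RingTheory.Spectrum.Prime.RingHom
import Mathlib.RingTheory.Ideal.GoingUp

/-!
# Functions adapted to a fibre of an integral map
-/

set_option autoImplicit false
universe u

open PrimeSpectrum Polynomial

namespace Groth.Agent.FlatMorPush

/-- For an integral `φ : R → B`, a prime `p` and `g : B`, some `q : B` is zero at the primes over `p`
where `g` is not and is nonzero at those where `g` is zero. -/
theorem exists_switch {R B : Type u} [CommRing R] [CommRing B] (φ : R →+* B) (hφ : φ.IsIntegral)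
    (p : PrimeSpectrum R) (g : B) :
    ∃ q : B, ∀ x : PrimeSpectrum B, comap φ x = p → (g ∈ x.asIdeal ↔ q ∉ x.asIdeal) := by
  classical
  obtain ⟨P, hP, hP0⟩ := hφ g
  have hex : ∃ m, P.coeff m ∉ p.asIdeal :=
    ⟨P.natDegree, by rw [hP.coeff_natDegree]; exact p.2.one_notMem⟩
  let m := Nat.find hex
  let q : B := ∑ k ∈ Finset.range (P.natDegree + 1 - m), φ (P.coeff (m + k)) * g ^ k
  refine ⟨q, fun x hx => ?_⟩
  have hmem : ∀ r : R, φ r ∈ x.asIdeal ↔ r ∈ p.asIdeal := fun r => by rw [← hx]; rfl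
  have hmle : m ≤ P.natDegree := Nat.find_le (by rw [hP.coeff_natDegree]; exact p.2.one_notMem)
  obtain ⟨n, hn⟩ : ∃ n, P.natDegree + 1 - m = n + 1 := ⟨P.natDegree - m, by omega⟩
  constructor
  · intro hg hq
    have hq' : q = φ (P.coeff m) + ∑ k ∈ Finset.range n, φ (P.coeff (m + (k + 1))) * g ^ (k + 1) := by
      simp only [q, hn]
      rw [Finset.sum_range_succ', add_comm]
      simp
    rw [hq'] at hq
    have hs : (∑ k ∈ Finset.range n, φ (P.coeff (m + (k + 1))) * g ^ (k + 1)) ∈ x.asIdeal :=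
      Submodule.sum_mem _ fun k _ => Ideal.mul_mem_left _ _ (Ideal.pow_mem_of_mem _ hg _ k.succ_pos)
    exact Nat.find_spec hex ((hmem _).mp ((Ideal.add_mem_iff_left _ hs).mp hq))
  · intro hq
    by_contra hg
    have he : (0 : B) = (∑ k ∈ Finset.range m, φ (P.coeff k) * g ^ k) + g ^ m * q := by
      rw [← hP0, Polynomial.eval₂_eq_sum_range,
        show P.natDegree + 1 = m + (P.natDegree + 1 - m) by omega, Finset.sum_range_add]
      congr 1
      simp only [q, Finset.mul_sum]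
      exact Finset.sum_congr rfl fun k _ => by rw [pow_add]; ring
    have hs : (∑ k ∈ Finset.range m, φ (P.coeff k) * g ^ k) ∈ x.asIdeal :=
      Submodule.sum_mem _ fun k hk => Ideal.mul_mem_right _ _
        ((hmem _).mpr (not_not.mp (Nat.find_min hex (Finset.mem_range.mp hk))))
    have : g ^ m * q ∈ x.asIdeal :=
      (Ideal.add_mem_iff_right _ hs).mp (he ▸ x.asIdeal.zero_mem)
    rcases x.2.mem_or_mem this with h | h
    · exact hg (x.2.mem_of_pow_mem m h)
    · exact hq h

/-- Let `φ : R → B` be integral, `ψ : A → B` a ring map and `P` a class of elements of `A` whose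
images generate enough of `B`.  Then some `f` in `P` and some `r ∉ p` have the same nonvanishing
locus on `Spec B`. -/
theorem exists_adapted {R A B : Type u} [CommRing R] [CommRing A] [CommRing B]
    (φ : R →+* B) (hφ : φ.IsIntegral) (ψ : A →+* B) (P : A → Prop) (h0 : P 0)
    (hadd : ∀ a a', P a → P a' → P (a + a')) (hmul : ∀ a a', P a' → P (a * a'))
    (hsurj : ∀ g, P g → ∀ b, ∃ (N : ℕ) (a : A), ψ a = b * ψ g ^ N)
    (p : PrimeSpectrum R)
    (hcov : ∀ x : PrimeSpectrum B, comap φ x = p → ∃ g, P g ∧ ψ g ∉ x.asIdeal) :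
    ∃ f r, P f ∧ r ∉ p.asIdeal ∧ basicOpen (ψ f) = basicOpen (φ r) := by
  classical
  have hcl : IsClosedMap (comap φ) := isClosedMap_comap_of_isIntegral φ hφ
  have hbound : ∀ O : Set (PrimeSpectrum B), IsOpen O → comap φ ⁻¹' {p} ⊆ O →
      ∃ r ∉ p.asIdeal, (basicOpen (φ r) : Set (PrimeSpectrum B)) ⊆ O := by
    intro O hO hsub
    have hp : p ∈ (comap φ '' Oᶜ)ᶜ := by
      rintro ⟨x, hxO, hx⟩
      exact hxO (hsub hx)
    obtain ⟨_, ⟨r, rfl⟩, hr, hrO⟩ := isTopologicalBasis_basic_opens.exists_subset_of_mem_open hp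
      (hcl _ hO.isClosed_compl).isOpen_compl
    refine ⟨r, hr, fun x hx => ?_⟩
    by_contra hxO
    exact hrO (show comap φ x ∈ (basicOpen r : Set _) from hx) ⟨x, hxO, rfl⟩
  -- finitely many elements cover the fibre
  obtain ⟨r₀, hr₀, hr₀O⟩ := hbound (⋃ g : {g // P g}, (basicOpen (ψ g.1) : Set (PrimeSpectrum B)))
    (isOpen_iUnion fun g => (basicOpen (ψ g.1)).isOpen) (fun x hx => by
      obtain ⟨g, hg, hgx⟩ := hcov x hx
      exact Set.mem_iUnion.mpr ⟨⟨g, hg⟩, hgx⟩)
  obtain ⟨s, hs⟩ := (isCompact_basicOpen (φ r₀)).elim_finite_subcover _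
    (fun g : {g // P g} => (basicOpen (ψ g.1)).isOpen) hr₀O
  -- combine them
  have hcomb : ∀ t : Finset {g // P g}, ∃ f, P f ∧ ∀ x : PrimeSpectrum B, comap φ x = p →
      (∃ g ∈ t, ψ g.1 ∉ x.asIdeal) → ψ f ∉ x.asIdeal := by
    intro t
    induction t using Finset.induction_on with
    | empty => exact ⟨0, h0, fun x _ h => by simp at h⟩
    | insert g t hgt ih =>
      obtain ⟨f, hf, hfx⟩ := ih
      obtain ⟨q, hq⟩ := exists_switch φ hφ p (ψ f)
      obtain ⟨N, a, ha⟩ := hsurj g.1 g.2 q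
      refine ⟨f + a * g.1, hadd _ _ hf (hmul _ _ g.2), fun x hx hg' => ?_⟩
      rw [map_add, map_mul, ha]
      by_cases hf0 : ψ f ∈ x.asIdeal
      · have hgx : ψ g.1 ∉ x.asIdeal := by
          obtain ⟨g', hg', hg'x⟩ := hg'
          rcases Finset.mem_insert.mp hg' with rfl | h
          · exact hg'x
          · exact absurd hf0 (hfx x hx ⟨g', h, hg'x⟩)
        intro hmem
        have h1 := (Ideal.add_mem_iff_right _ hf0).mp hmem
        rcases x.2.mem_or_mem h1 with h | h
        · rcases x.2.mem_or_mem h with h | h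
          · exact (hq x hx).mp hf0 h
          · exact hgx (x.2.mem_of_pow_mem N h)
        · exact hgx h
      · intro hmem
        have hq0 : q ∈ x.asIdeal := by
          by_contra h
          exact hf0 ((hq x hx).mpr h)
        exact hf0 ((Ideal.add_mem_iff_left _ (Ideal.mul_mem_right _ _
          (Ideal.mul_mem_right _ _ hq0))).mp hmem)
  obtain ⟨f, hf, hfx⟩ := hcomb s
  obtain ⟨r, hr, hrf⟩ := hbound _ (basicOpen (ψ f)).isOpen (fun x hx => by
    have hxr : x ∈ (basicOpen (φ r₀) : Set _) := by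
      show φ r₀ ∉ x.asIdeal
      rw [show φ r₀ ∈ x.asIdeal ↔ r₀ ∈ p.asIdeal by rw [← (hx : comap φ x = p)]; rfl]
      exact hr₀
    obtain ⟨g, hg, hgx⟩ := Set.mem_iUnion₂.mp (hs hxr)
    exact hfx x hx ⟨g, hg, hgx⟩)
  obtain ⟨N, c, hc⟩ := hsurj f hf (φ r)
  refine ⟨c * f, r, hmul _ _ hf, hr, ?_⟩
  rw [map_mul, hc, mul_assoc, ← pow_succ, basicOpen_mul, basicOpen_pow _ _ N.succ_pos]
  exact inf_eq_left.mpr hrf

end Groth.Agent.FlatMorPush
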