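import Groth.Agent.FlatMorPush.Transfer
import Groth.Prelude.Def_W4c3jacimperfPinch
import Groth.Agent.EGA43.SchDom

/-!
# Base change of pushouts with split charts
-/

set_option autoImplicit false
set_option linter.style.haveILetI false
set_option linter.unusedSectionVars false
set_option backward.isDefEq.respectTransparency.types false
universe u

open AlgebraicGeometry CategoryTheory Limits PrimeSpectrum TensorProduct
open Groth.Agent.KerEval

namespace Groth.Agent.KerEval.Sq

variable {C A B D : Type u} [CommRing C] [CommRing A] [CommRing B] [CommRing D] (S : Sq C A B D)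
  (R R' : Type u) [CommRing R] [CommRing R'] [Algebra R R'] [Algebra R C] [Algebra R A]
  [Algebra R B] [Algebra R D]
  (hA : ∀ r, S.f (algebraMap R C r) = algebraMap R A r)
  (hB : ∀ r, S.g (algebraMap R C r) = algebraMap R B r)
  (hD : ∀ r, S.q (algebraMap R A r) = algebraMap R D r)
  (hD' : ∀ r, S.p (algebraMap R B r) = algebraMap R D r)

include hA hB hD hD' in
/-- The fibre square after tensoring, when `R'` or `D` is flat over `R`. -/
theorem exists_baseChange_ret (hret : ∃ ret : B →+ C, (∀ c, ret (S.g c) = c) ∧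
      ∀ x b, ret (S.g (algebraMap R C x) * b) = algebraMap R C x * ret b) :
    ∃ S' : Sq (R' ⊗[R] C) (R' ⊗[R] A) (R' ⊗[R] B) (R' ⊗[R] D),
      S'.f = (Algebra.TensorProduct.map (AlgHom.id R R') (S.fA R hA)).toRingHom ∧
      S'.g = (Algebra.TensorProduct.map (AlgHom.id R R') (S.gA R hB)).toRingHom ∧
      S'.q = (Algebra.TensorProduct.map (AlgHom.id R R') (S.qA R hD)).toRingHom ∧
      S'.p = (Algebra.TensorProduct.map (AlgHom.id R R') (S.pA R hD')).toRingHom := by
  let φ : C →ₗ[R] A × B := (S.fA R hA).toLinearMap.prod (S.gA R hB).toLinearMap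
  let ψ : A × B →ₗ[R] D := (S.qA R hD).toLinearMap.coprod (-(S.pA R hD').toLinearMap)
  have hφ : Function.Injective φ := fun c c' h =>
    S.ext c c' (congrArg Prod.fst h) (congrArg Prod.snd h)
  have hψ : Function.Surjective ψ := fun d => by
    obtain ⟨b, hb⟩ := S.surj (-d)
    refine ⟨(0, b), ?_⟩
    change S.q 0 + -S.p b = d
    rw [map_zero, hb, zero_add, neg_neg]
  have hex : Function.Exact φ ψ := by
    rintro ⟨x, y⟩
    constructor
    · intro h
      have h' : S.q x + -S.p y = 0 := h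
      obtain ⟨c, rfl, rfl⟩ := S.exist x y (eq_of_sub_eq_zero (by rw [sub_eq_add_neg]; exact h'))
      exact ⟨c, rfl⟩
    · rintro ⟨c, hc⟩
      rw [← hc]
      change S.q (S.f c) + -S.p (S.g c) = 0
      rw [S.comm, add_neg_cancel]
  have hinj : Function.Injective (φ.lTensor R') := by
    obtain ⟨ret, hr1, hr2⟩ := hret
    let rl : B →ₗ[R] C :=
      { toFun := ret
        map_add' := map_add ret
        map_smul' := fun x b => by
          rw [Algebra.smul_def, Algebra.smul_def, ← hB, hr2]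
          rfl }
    have h : (rl.comp (LinearMap.snd R A B)).comp φ = LinearMap.id := LinearMap.ext hr1
    refine Function.LeftInverse.injective (g := (rl.comp (LinearMap.snd R A B)).lTensor R') fun x => ?_
    rw [← LinearMap.comp_apply, ← LinearMap.lTensor_comp, h, LinearMap.lTensor_id, LinearMap.id_apply]
  have hex' := lTensor_exact R' hex hψ
  let e := TensorProduct.prodRight R R R' A B
  let f' := Algebra.TensorProduct.map (AlgHom.id R R') (S.fA R hA)
  let g' := Algebra.TensorProduct.map (AlgHom.id R R') (S.gA R hB)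
  let q' := Algebra.TensorProduct.map (AlgHom.id R R') (S.qA R hD)
  let p' := Algebra.TensorProduct.map (AlgHom.id R R') (S.pA R hD')
  have hφ' : ∀ c, e (φ.lTensor R' c) = (f' c, g' c) := by
    intro c
    induction c with
    | zero => simp; rfl
    | tmul r c => simp [e, φ, f', g', fA, gA]
    | add x y hx hy => simp only [map_add, hx, hy, Prod.mk_add_mk]
  have hψ' : ∀ x, ψ.lTensor R' (e.symm x) = q' x.1 - p' x.2 := by
    intro x
    obtain ⟨z, rfl⟩ := e.surjective x
    rw [LinearEquiv.symm_apply_apply]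
    induction z with
    | zero => simp
    | tmul r z => simp [e, ψ, q', p', qA, pA, tmul_add, tmul_neg, sub_eq_add_neg]
    | add x y hx hy => simp only [map_add, hx, hy, Prod.fst_add, Prod.snd_add]; abel
  refine ⟨⟨f'.toRingHom, g'.toRingHom, q'.toRingHom, p'.toRingHom, ?_, fun c => ?_, fun x y h => ?_,
    fun c c' h1 h2 => ?_⟩, rfl, rfl, rfl, rfl⟩
  · intro z
    induction z with
    | zero => exact ⟨0, map_zero _⟩
    | tmul r d =>
      obtain ⟨b, rfl⟩ := S.surj d
      exact ⟨r ⊗ₜ b, rfl⟩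
    | add x y hx hy =>
      obtain ⟨a, rfl⟩ := hx
      obtain ⟨a', rfl⟩ := hy
      exact ⟨a + a', map_add ..⟩
  · have h := hψ' (f' c, g' c)
    rw [← hφ' c, LinearEquiv.symm_apply_apply] at h
    have h0 : ψ.lTensor R' (φ.lTensor R' c) = 0 := (hex' _).mpr ⟨c, rfl⟩
    rw [h0, hφ' c] at h
    exact eq_of_sub_eq_zero h.symm
  · obtain ⟨c, hc⟩ := (hex' (e.symm (x, y))).mp (by rw [hψ']; exact sub_eq_zero.mpr h)
    have := hφ' c
    rw [hc, LinearEquiv.apply_symm_apply, Prod.mk.injEq] at this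
    exact ⟨c, this.1.symm, this.2.symm⟩
  · apply hinj
    apply e.injective
    rw [hφ', hφ']
    exact Prod.ext h1 h2

end Groth.Agent.KerEval.Sq

namespace Groth.Agent.KerEval.Sq

variable {C A B D : Type u} [CommRing C] [CommRing A] [CommRing B] [CommRing D] (S : Sq C A B D)

theorem g_injective (hq : Function.Injective S.q) : Function.Injective S.g := fun c c' h =>
  S.ext c c' (hq (by rw [S.comm, S.comm, h])) h

/-- With a projective cokernel of `A → D`, the map `C → B` is split over the base. -/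
theorem exists_ret {R : Type u} [CommRing R] (φ : R →+* C) (hq : Function.Injective S.q)
    (hK : @Pinch.CokerProjective R D A _ _ _ (S.q.comp (S.f.comp φ)).toAlgebra S.q) :
    ∃ ret : B →+ C, (∀ c, ret (S.g c) = c) ∧ ∀ x b, ret (S.g (φ x) * b) = φ x * ret b := by
  letI : Algebra R B := (S.g.comp φ).toAlgebra
  letI : Algebra R D := (S.q.comp (S.f.comp φ)).toAlgebra
  let pl : B →ₗ[R] D := (⟨S.p, fun r => (S.comm (φ r)).symm⟩ : B →ₐ[R] D).toLinearMap
  let N := Submodule.span R (Set.range S.q)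
  haveI : Module.Projective R (D ⧸ N) := hK
  obtain ⟨σ, hσ⟩ := Module.projective_lifting_property (N.mkQ ∘ₗ pl) LinearMap.id
    ((N.mkQ_surjective).comp S.surj)
  have hN : ∀ y ∈ N, ∃ a, S.q a = y := by
    intro y hy
    induction hy using Submodule.span_induction with
    | mem x hx => exact hx
    | zero => exact ⟨0, map_zero _⟩
    | add a b _ _ ha hb =>
      obtain ⟨a', rfl⟩ := ha
      obtain ⟨b', rfl⟩ := hb
      exact ⟨a' + b', map_add _ _ _⟩
    | smul r a _ ha =>
      obtain ⟨a', rfl⟩ := ha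
      exact ⟨S.f (φ r) * a', (map_mul _ _ _).trans (Algebra.smul_def r _).symm⟩
  have h : ∀ b, ∃ c, S.g c = b - σ (N.mkQ (pl b)) := by
    intro b
    have h0 : N.mkQ (pl (b - σ (N.mkQ (pl b)))) = 0 := by
      rw [map_sub, map_sub, sub_eq_zero]
      exact (LinearMap.congr_fun hσ _).symm
    obtain ⟨a, ha⟩ := hN _ ((Submodule.Quotient.mk_eq_zero N).1 h0)
    obtain ⟨c, -, hc⟩ := S.exist a _ ha
    exact ⟨c, hc⟩
  choose r hr using h
  refine ⟨AddMonoidHom.mk' r fun a b => S.g_injective hq ?_, fun c => S.g_injective hq ?_,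
    fun x b => S.g_injective hq ?_⟩
  · rw [map_add, hr, hr, hr, map_add, map_add, map_add]
    abel
  · rw [AddMonoidHom.mk'_apply, hr]
    have : N.mkQ (pl (S.g c)) = 0 := (Submodule.Quotient.mk_eq_zero N).2
      (Submodule.subset_span ⟨S.f c, S.comm c⟩)
    rw [this, map_zero, sub_zero]
  · simp only [AddMonoidHom.mk'_apply]
    rw [map_mul, hr, hr, mul_sub]
    congr 1
    change σ (N.mkQ (pl (x • b))) = x • σ (N.mkQ (pl b))
    rw [map_smul, map_smul, map_smul]

/-- If `D = 0` the map `C → B` is bijective. -/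
theorem exists_ret_of_subsingleton {R : Type u} [CommRing R] (φ : R →+* C) [Subsingleton D]
    [Subsingleton A] :
    ∃ ret : B →+ C, (∀ c, ret (S.g c) = c) ∧ ∀ x b, ret (S.g (φ x) * b) = φ x * ret b := by
  let e := RingEquiv.ofBijective S.g ⟨S.g_injective fun a b _ => Subsingleton.elim a b,
    fun b => (S.exist 0 b (Subsingleton.elim _ _)).imp fun c hc => hc.2⟩
  have he : ∀ y, S.g (e.symm y) = y := e.apply_symm_apply
  exact ⟨e.symm.toRingHom.toAddMonoidHom, e.symm_apply_apply, fun x b => by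
    apply e.injective
    show S.g (e.symm _) = S.g (φ x * e.symm b)
    rw [he, map_mul, he]⟩

end Groth.Agent.KerEval.Sq

namespace Groth.Agent.FlatMorPush

variable {X Y Z P X' Y' Z' P' S S' : Scheme.{u}} {i : Z ⟶ X} {j : Z ⟶ Y} {a : X ⟶ P} {b : Y ⟶ P}
  {i' : Z' ⟶ X'} {j' : Z' ⟶ Y'} {a' : X' ⟶ P'} {b' : Y' ⟶ P'}
  {s : P ⟶ S} {g : S' ⟶ S} {pP : P' ⟶ P} {sP : P' ⟶ S'}
  {pX : X' ⟶ X} {pY : Y' ⟶ Y} {pZ : Z' ⟶ Z}

/-- Pushouts given by charts with a linearly split `C → B` commute with all base changes. -/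
theorem isPushout_baseChange_ret (hP : IsPullback pP sP s g)
    (hcov : ∀ p : P, ∃ (c : SqChart i j a b) (U : S.Opens) (hU : IsAffineOpen U) (φ : Γ(S, U) →+* c.C),
      p ∈ Set.range c.e ∧ sp φ ≫ hU.fromSpec = c.e ≫ s ∧
      ∃ ret : c.B →+ c.C, (∀ x, ret (c.S.g x) = x) ∧
        ∀ x y, ret (c.S.g (φ x) * y) = φ x * ret y)
    (hX : IsPullback pX a' a pP) (hY : IsPullback pY b' b pP) (hZ : IsPullback pZ i' i pX)
    (hj : j' ≫ pY = pZ ≫ j) (hw : i' ≫ a' = j' ≫ b') :
    IsPushout i' j' a' b' := by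
  refine isPushout_of_charts hw fun p' => ?_
  obtain ⟨c, U, hU, φ, ⟨x, hx⟩, hφ, hret⟩ := hcov (pP p')
  have hsU : s (pP p') ∈ U := by
    rw [← hx, ← Scheme.Hom.comp_apply, ← hφ, Scheme.Hom.comp_apply]
    exact hU.range_fromSpec.subset ⟨_, rfl⟩
  obtain ⟨U', hU', hsU', hU'le⟩ := exists_isAffineOpen_mem_and_subset (x := sP p') (U := g ⁻¹ᵁ U)
    (show g (sP p') ∈ U by rw [← Scheme.Hom.comp_apply, ← hP.w]; exact hsU)
  let T := c.S
  letI : Algebra Γ(S, U) Γ(S', U') := (g.appLE U U' hU'le).hom.toAlgebra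
  letI : Algebra Γ(S, U) c.C := φ.toAlgebra
  letI : Algebra Γ(S, U) c.A := (T.f.comp φ).toAlgebra
  letI : Algebra Γ(S, U) c.B := (T.g.comp φ).toAlgebra
  letI : Algebra Γ(S, U) c.D := (T.q.comp (T.f.comp φ)).toAlgebra
  have hD' : ∀ r, T.p (algebraMap Γ(S, U) c.B r) =
      algebraMap Γ(S, U) c.D r := fun r => (T.comm (φ r)).symm
  have hg : Spec.map (CommRingCat.ofHom (algebraMap Γ(S, U) Γ(S', U'))) ≫ hU.fromSpec =
      hU'.fromSpec ≫ g := IsAffineOpen.SpecMap_appLE_fromSpec g hU hU' hU'le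
  obtain ⟨T', hTf, hTg, hTq, hTp⟩ := T.exists_baseChange_ret Γ(S, U) Γ(S', U') (fun _ => rfl)
    (fun _ => rfl) (fun _ => rfl) hD' hret
  -- the chart of `P'`
  let fC := sp (Algebra.TensorProduct.includeRight (R := Γ(S, U)) (A := Γ(S', U'))
    (B := c.C)).toRingHom
  let sC := sp (Algebra.TensorProduct.includeLeftRingHom (R := Γ(S, U)) (A := Γ(S', U'))
    (B := c.C))
  have hsq : IsPullback fC sC (c.e ≫ s) (hU'.fromSpec ≫ g) := by
    have h := (isPullback_SpecMap_of_isPushout _ _ _ _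
      (CommRingCat.isPushout_tensorProduct Γ(S, U) Γ(S', U') c.C)).flip
    rw [← hφ, ← hg]
    exact isPullback_comp_mono h hU.fromSpec
  have hw' : (fC ≫ c.e) ≫ s = (sC ≫ hU'.fromSpec) ≫ g := by
    rw [Category.assoc, Category.assoc]; exact hsq.w
  let e' := hP.lift _ _ hw'
  have he₁ : e' ≫ pP = fC ≫ c.e := hP.lift_fst _ _ hw'
  have he₂ : e' ≫ sP = sC ≫ hU'.fromSpec := hP.lift_snd _ _ hw'
  have : IsOpenImmersion e' := by
    have : e' = hsq.isoPullback.hom ≫
        pullback.map (c.e ≫ s) (hU'.fromSpec ≫ g) s g c.e hU'.fromSpec (𝟙 S)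
          (by simp) (by simp) ≫ hP.isoPullback.inv := by
      apply hP.hom_ext
      · rw [he₁, Category.assoc, Category.assoc, hP.isoPullback_inv_fst, pullback.lift_fst,
          reassoc_of% hsq.isoPullback_hom_fst]
      · rw [he₂, Category.assoc, Category.assoc, hP.isoPullback_inv_snd, pullback.lift_snd,
          reassoc_of% hsq.isoPullback_hom_snd]
    rw [this]; infer_instance
  have hp' : p' ∈ Set.range e' := by
    let t := P'.fromSpecResidueField p'
    have ht : ∀ z, t z = p' := fun z => by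
      have : t z ∈ Set.range t := ⟨z, rfl⟩
      rwa [Scheme.range_fromSpecResidueField] at this
    have hr₁ : Set.range (t ≫ pP) ⊆ Set.range c.e := by
      rintro _ ⟨z, rfl⟩
      refine ⟨x, ?_⟩
      rw [Scheme.Hom.comp_apply, ht, hx]
    have hr₂ : Set.range (t ≫ sP) ⊆ Set.range hU'.fromSpec := by
      rintro _ ⟨z, rfl⟩
      rw [hU'.range_fromSpec, Scheme.Hom.comp_apply, ht]
      exact hsU'
    let l₁ := IsOpenImmersion.lift c.e _ hr₁
    let l₂ := IsOpenImmersion.lift hU'.fromSpec _ hr₂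
    have hl₁ : l₁ ≫ c.e = t ≫ pP := IsOpenImmersion.lift_fac _ _ hr₁
    have hl₂ : l₂ ≫ hU'.fromSpec = t ≫ sP := IsOpenImmersion.lift_fac _ _ hr₂
    have hl : l₁ ≫ c.e ≫ s = l₂ ≫ hU'.fromSpec ≫ g := by
      rw [reassoc_of% hl₁, reassoc_of% hl₂, hP.w]
    have : hsq.lift l₁ l₂ hl ≫ e' = t := by
      apply hP.hom_ext
      · rw [Category.assoc, he₁, ← Category.assoc, hsq.lift_fst, hl₁]
      · rw [Category.assoc, he₂, ← Category.assoc, hsq.lift_snd, hl₂]
    obtain ⟨z, hz⟩ : p' ∈ Set.range t := by rw [Scheme.range_fromSpecResidueField]; rfl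
    rw [← this, Scheme.Hom.comp_apply] at hz
    exact ⟨_, hz⟩
  -- the corners
  have key : ∀ {W W' : Scheme.{u}} (m : W ⟶ P) (m' : W' ⟶ P') (pW : W' ⟶ W),
      IsPullback pW m' m pP → ∀ {N : Type u} [CommRing N] [Algebra Γ(S, U) N]
      (σL : c.C →ₐ[Γ(S, U)] N) (u₀ : Spec (CommRingCat.of N) ⟶ W),
      IsPullback (sp σL.toRingHom) u₀ c.e m →
      ∃ u' : Spec (CommRingCat.of (Γ(S', U') ⊗[Γ(S, U)] N)) ⟶ W',
        IsPullback (sp (Algebra.TensorProduct.map (AlgHom.id Γ(S, U) Γ(S', U')) σL).toRingHom)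
          u' e' m' ∧
        u' ≫ pW = sp (Algebra.TensorProduct.includeRight (R := Γ(S, U)) (A := Γ(S', U'))
          (B := N)).toRingHom ≫ u₀ := by
    intro W W' m m' pW hW N _ _ σL u₀ hm
    let fN := sp (Algebra.TensorProduct.includeRight (R := Γ(S, U)) (A := Γ(S', U'))
          (B := N)).toRingHom
    let σ' := sp (Algebra.TensorProduct.map (AlgHom.id Γ(S, U) Γ(S', U')) σL).toRingHom
    have h1 : IsPullback σ' fN fC (sp σL.toRingHom) :=
      (isPullback_SpecMap_of_isPushout _ _ _ _ (isPushout_map_tensor (R' := Γ(S', U')) σL)).flip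
    have hrect := h1.paste_vert hm
    have hwl : (fN ≫ u₀) ≫ m = (σ' ≫ e') ≫ pP := by
      rw [Category.assoc σ', he₁]
      exact hrect.w.symm
    refine ⟨hW.lift _ _ hwl, ?_, hW.lift_fst _ _ hwl⟩
    refine IsPullback.of_bot ?_ (hW.lift_snd _ _ hwl).symm hW.flip
    rw [hW.lift_fst, he₁]
    exact hrect
  obtain ⟨uX', huX, huX'⟩ := key a a' pX hX (T.gA Γ(S, U) (fun _ => rfl)) c.uX c.hX
  obtain ⟨uY', huY, huY'⟩ := key b b' pY hY (T.fA Γ(S, U) (fun _ => rfl)) c.uY c.hY
  let fD := sp (Algebra.TensorProduct.includeRight (R := Γ(S, U)) (A := Γ(S', U'))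
    (B := c.D)).toRingHom
  have hpD : sp T'.p ≫ sp (Algebra.TensorProduct.includeRight (R := Γ(S, U)) (A := Γ(S', U'))
      (B := c.B)).toRingHom = fD ≫ sp T.p := by
    rw [hTp, ← sp_comp, ← sp_comp]
    congr 1
  have hqD : sp T'.q ≫ sp (Algebra.TensorProduct.includeRight (R := Γ(S, U)) (A := Γ(S', U'))
      (B := c.A)).toRingHom = fD ≫ sp T.q := by
    rw [hTq, ← sp_comp, ← sp_comp]
    congr 1
  have hwZ : (fD ≫ c.uZ) ≫ i = (sp T'.p ≫ uX') ≫ pX := by
    rw [Category.assoc (sp T'.p), huX', reassoc_of% hpD, Category.assoc, ← c.hZX]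
  let uZ' := hZ.lift _ _ hwZ
  refine ⟨{ C := _, A := _, B := _, D := _, S := T', e := e', uX := uX', uY := uY', uZ := uZ', hX := hTg ▸ huX, hY := hTf ▸ huY,
            hZX := (hZ.lift_snd _ _ hwZ).symm, hZY := ?_ }, hp'⟩
  apply hY.hom_ext
  · rw [Category.assoc, huY', reassoc_of% hqD, Category.assoc, hj, ← Category.assoc uZ',
      (show uZ' ≫ pZ = fD ≫ c.uZ from hZ.lift_fst _ _ hwZ), Category.assoc, ← c.hZY]
  · rw [Category.assoc, ← (hTf ▸ huY : IsPullback (sp T'.f) uY' e' b').w, Category.assoc, ← hw,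
      ← Category.assoc uZ', hZ.lift_snd, Category.assoc,
      ← (hTg ▸ huX : IsPullback (sp T'.g) uX' e' a').w, ← Category.assoc, ← Category.assoc,
      ← sp_comp, ← sp_comp]
    congr 2
    exact RingHom.ext T'.comm

end Groth.Agent.FlatMorPush
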