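import Groth.Agent.KerEval.Ferrand
import Mathlib.AlgebraicGeometry.Pullbacks
import Mathlib.AlgebraicGeometry.Morphisms.ClosedImmersion

/-!
# The affine chart of a Ferrand pushout
-/

set_option autoImplicit false
set_option backward.isDefEq.respectTransparency.types false
universe u

open AlgebraicGeometry CategoryTheory Limits PrimeSpectrum

namespace Groth.Agent.KerEval.Sq

variable {C A B D : Type u} [CommRing C] [CommRing A] [CommRing B] [CommRing D] (S : Sq C A B D)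

lemma comap_q_comap_f (z : PrimeSpectrum D) : comap S.f (comap S.q z) = comap S.g (comap S.p z) := by
  rw [← comap_comp_apply, ← comap_comp_apply, show S.q.comp S.f = S.p.comp S.g from RingHom.ext S.comm]

lemma exists_kerLift {b : B} (hb : S.p b = 0) : ∃ c, S.f c = 0 ∧ S.g c = b :=
  S.exist 0 b (by rw [map_zero, hb])

/-- A point of `Spec B` and a point of `Spec A` with the same image come from one of `Spec D`. -/
lemma exists_of_comap_eq {x : PrimeSpectrum B} {y : PrimeSpectrum A}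
    (h : comap S.g x = comap S.f y) : ∃ z, comap S.p z = x ∧ comap S.q z = y := by
  have hx : x ∈ Set.range (comap S.p) := by
    rw [range_comap_of_surjective _ _ S.surj]
    intro b hb
    obtain ⟨c, hc, rfl⟩ := S.exists_kerLift hb
    have : c ∈ (comap S.f y).asIdeal := by
      rw [comap_asIdeal, Ideal.mem_comap, hc]; exact zero_mem _
    rw [← h] at this
    exact this
  obtain ⟨z, rfl⟩ := hx
  exact ⟨z, rfl, comap_injective_of_surjective _ S.f_surj ((S.comap_q_comap_f z).trans h)⟩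

/-- Away from `Spec D`, `Spec B → Spec C` is injective. -/
lemma eq_of_comap_g_eq {x x' : PrimeSpectrum B} (h : comap S.g x = comap S.g x')
    (hx : x ∉ Set.range (comap S.p)) : x = x' := by
  rw [range_comap_of_surjective _ _ S.surj] at hx
  obtain ⟨b₀, hb₀, hb₀x⟩ := Set.not_subset.mp hx
  have key : ∀ b, S.p b = 0 → (b ∈ x.asIdeal ↔ b ∈ x'.asIdeal) := by
    intro b hb
    obtain ⟨c, -, rfl⟩ := S.exists_kerLift hb
    change c ∈ (comap S.g x).asIdeal ↔ c ∈ (comap S.g x').asIdeal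
    rw [h]
  have hb₀' : S.p b₀ = 0 := hb₀
  have hb₀x' : b₀ ∉ x'.asIdeal := fun h' => hb₀x ((key _ hb₀').mpr h')
  apply PrimeSpectrum.ext
  ext b
  have := key (b₀ * b) (by rw [map_mul, hb₀', zero_mul])
  rw [x.2.mul_mem_iff_mem_or_mem, x'.2.mul_mem_iff_mem_or_mem] at this
  exact ⟨fun hb => (this.mp (Or.inr hb)).resolve_left hb₀x',
    fun hb => (this.mpr (Or.inr hb)).resolve_left hb₀x⟩

lemma g_preimage_image {UB : Set (PrimeSpectrum B)} {VA : Set (PrimeSpectrum A)}
    (h : comap S.p ⁻¹' UB = comap S.q ⁻¹' VA) :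
    comap S.g ⁻¹' (comap S.g '' UB ∪ comap S.f '' VA) = UB := by
  refine Set.Subset.antisymm ?_ fun x hx => Or.inl ⟨x, hx, rfl⟩
  rintro x (⟨x', hx', he⟩ | ⟨y, hy, he⟩)
  · by_cases hx'p : x' ∈ Set.range (comap S.p)
    · obtain ⟨z', rfl⟩ := hx'p
      have hy : comap S.g x = comap S.f (comap S.q z') := by rw [← he, S.comap_q_comap_f]
      obtain ⟨z, rfl, hz⟩ := S.exists_of_comap_eq hy
      have : z' ∈ comap S.q ⁻¹' VA := h ▸ hx'
      show z ∈ comap S.p ⁻¹' UB
      rw [h, Set.mem_preimage, hz]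
      exact this
    · rwa [← S.eq_of_comap_g_eq he hx'p]
  · obtain ⟨z, rfl, hz⟩ := S.exists_of_comap_eq he.symm
    show z ∈ comap S.p ⁻¹' UB
    rw [h, Set.mem_preimage, hz]
    exact hy

lemma f_preimage_image {UB : Set (PrimeSpectrum B)} {VA : Set (PrimeSpectrum A)}
    (h : comap S.p ⁻¹' UB = comap S.q ⁻¹' VA) :
    comap S.f ⁻¹' (comap S.g '' UB ∪ comap S.f '' VA) = VA := by
  refine Set.Subset.antisymm ?_ fun x hx => Or.inr ⟨x, hx, rfl⟩
  rintro y (⟨x, hx, he⟩ | ⟨y', hy', he⟩)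
  · obtain ⟨z, rfl, rfl⟩ := S.exists_of_comap_eq he
    show z ∈ comap S.q ⁻¹' VA
    exact h ▸ hx
  · rwa [← comap_injective_of_surjective _ S.f_surj he]

lemma isOpen_image_union {UB : Set (PrimeSpectrum B)} {VA : Set (PrimeSpectrum A)}
    (hU : IsOpen UB) (hV : IsOpen VA) (h : comap S.p ⁻¹' UB = comap S.q ⁻¹' VA) :
    IsOpen (comap S.g '' UB ∪ comap S.f '' VA) := by
  -- a basic open inside the union
  have hsub : ∀ c, (basicOpen (S.g c) : Set _) ⊆ UB → (basicOpen (S.f c) : Set _) ⊆ VA →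
      (basicOpen c : Set _) ⊆ comap S.g '' UB ∪ comap S.f '' VA := by
    intro c hcB hcA w hw
    rcases S.exists_point w with ⟨y, rfl⟩ | ⟨-, -, -, x, rfl⟩
    · exact Or.inr ⟨y, hcA hw, rfl⟩
    · exact Or.inl ⟨x, hcB hw, rfl⟩
  obtain ⟨J, hJ⟩ := (isClosed_iff_zeroLocus_ideal UBᶜ).mp hU.isClosed_compl
  have hJsub : ∀ jj ∈ J, (basicOpen jj : Set (PrimeSpectrum B)) ⊆ UB := by
    intro jj hjj x hx
    by_contra hc
    exact hx ((Set.ext_iff.mp hJ x).mp hc hjj)
  -- points from `Spec A`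
  have hA : ∀ y ∈ VA, ∃ c : C, comap S.f y ∈ (basicOpen c : Set (PrimeSpectrum C)) ∧
      (basicOpen c : Set (PrimeSpectrum C)) ⊆ comap S.g '' UB ∪ comap S.f '' VA := by
    intro y hy
    obtain ⟨_, ⟨a, rfl⟩, hya, ha⟩ :=
      isTopologicalBasis_basic_opens.exists_subset_of_mem_open hy hV
    have hrad : S.q a ∈ (J.map S.p).radical := by
      rw [Ideal.radical_eq_sInf, Ideal.mem_sInf]
      rintro I ⟨hI, hIp⟩
      by_contra hc
      have h1 : (⟨I, hIp⟩ : PrimeSpectrum D) ∈ comap S.p ⁻¹' UB := h ▸ (show _ ∈ VA from ha hc)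
      exact absurd h1 (fun h1 => (Set.ext_iff.mp hJ _).mpr
        (fun k hk => hI (Ideal.mem_map_of_mem _ hk)) h1)
    obtain ⟨n, hn⟩ := hrad
    have hn' : S.q (a ^ (n + 1)) ∈ J.map S.p := by
      rw [map_pow, pow_succ]; exact Ideal.mul_mem_right _ _ hn
    obtain ⟨k, hk, hka⟩ := (Ideal.mem_map_iff_of_surjective _ S.surj).mp hn'
    obtain ⟨c, hca, hck⟩ := S.exist _ k hka.symm
    refine ⟨c, ?_, hsub c (hck ▸ hJsub k hk) ?_⟩
    · show S.f c ∉ y.asIdeal
      rw [hca]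
      exact fun hc => hya (y.2.mem_of_pow_mem _ hc)
    · rw [hca, basicOpen_pow _ _ n.succ_pos]; exact ha
  rw [isOpen_iff_forall_mem_open]
  rintro w (⟨x, hx, rfl⟩ | ⟨y, hy, rfl⟩)
  · by_cases hxp : x ∈ Set.range (comap S.p)
    · obtain ⟨z, rfl⟩ := hxp
      obtain ⟨c, hc, hc'⟩ := hA (comap S.q z) (show z ∈ comap S.q ⁻¹' VA from h ▸ hx)
      exact ⟨_, hc', (basicOpen c).isOpen, S.comap_q_comap_f z ▸ hc⟩
    · have hx' : ¬RingHom.ker S.p ≤ x.asIdeal := fun hle => hxp (by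
        rw [range_comap_of_surjective _ _ S.surj]; exact hle)
      obtain ⟨b₀, hb₀, hb₀x⟩ := SetLike.not_le_iff_exists.mp hx'
      have hxJ : ¬J ≤ x.asIdeal := fun hle => (Set.ext_iff.mp hJ x).mpr hle hx
      obtain ⟨b₁, hb₁, hb₁x⟩ := SetLike.not_le_iff_exists.mp hxJ
      obtain ⟨c, hc0, hcb⟩ := S.exists_kerLift (b := b₀ * b₁)
        (by rw [map_mul, RingHom.mem_ker.mp hb₀, zero_mul])
      refine ⟨_, hsub c (hcb ▸ hJsub _ (J.mul_mem_left _ hb₁)) ?_, (basicOpen c).isOpen, ?_⟩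
      · rw [hc0, basicOpen_zero]; simp
      · show S.g c ∉ x.asIdeal
        rw [hcb]
        exact fun hc => (x.2.mem_or_mem hc).elim hb₀x hb₁x
  · obtain ⟨c, hc, hc'⟩ := hA y hy
    exact ⟨_, hc', (basicOpen c).isOpen, hc⟩

include S in
/-- If `A → D` is integral, so is `C → B`. -/
lemma g_isIntegral (hq : S.q.IsIntegral) : S.g.IsIntegral := by
  intro b
  obtain ⟨P, hP, hPb⟩ := hq (S.p b)
  obtain ⟨Q, hQP, -, hQ⟩ := Polynomial.lifts_and_natDegree_eq_and_monic (f := S.f)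
    ((Polynomial.lifts_iff_coeff_lifts P).mpr fun n => S.f_surj _) hP
  have h0 : S.p ((Q * Polynomial.X).eval₂ S.g b) = 0 := by
    rw [Polynomial.hom_eval₂, show S.p.comp S.g = S.q.comp S.f from
      RingHom.ext fun c => (S.comm c).symm, ← Polynomial.eval₂_map, Polynomial.map_mul, hQP,
      Polynomial.map_X, Polynomial.eval₂_mul, hPb, zero_mul]
  obtain ⟨c, -, hc⟩ := S.exists_kerLift h0
  refine ⟨Q * Polynomial.X - Polynomial.C c, ?_, ?_⟩
  · nontriviality C
    apply (hQ.mul Polynomial.monic_X).sub_of_left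
    rw [Polynomial.degree_mul_X, Polynomial.degree_eq_natDegree hQ.ne_zero]
    exact Polynomial.degree_C_le.trans_lt (by exact_mod_cast Q.natDegree.succ_pos)
  · rw [Polynomial.eval₂_sub, Polynomial.eval₂_C, hc, sub_self]

/-- The chart square is cartesian. -/
lemma isPullback_sp : IsPullback (sp S.p) (sp S.q) (sp S.g) (sp S.f) := by
  refine isPullback_SpecMap_of_isPushout (CommRingCat.ofHom S.g) (CommRingCat.ofHom S.f)
    (CommRingCat.ofHom S.p) (CommRingCat.ofHom S.q) ?_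
  have w : CommRingCat.ofHom S.g ≫ CommRingCat.ofHom S.p =
      CommRingCat.ofHom S.f ≫ CommRingCat.ofHom S.q := by
    ext c; exact (S.comm c).symm
  refine ⟨⟨w⟩, ⟨PushoutCocone.IsColimit.mk _ (fun s => CommRingCat.ofHom
    (S.p.liftOfSurjective S.surj ⟨s.inl.hom, fun b hb => ?_⟩)) (fun s => ?_) (fun s => ?_) ?_⟩⟩
  · obtain ⟨c, hc, rfl⟩ := S.exists_kerLift hb
    exact (ConcreteCategory.congr_hom s.condition c).trans
      (show s.inr.hom (S.f c) = 0 by rw [hc, map_zero])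
  · ext b
    exact RingHom.liftOfSurjective_comp_apply _ _ _ b
  · ext a
    obtain ⟨c, rfl⟩ := S.f_surj a
    change (S.p.liftOfSurjective S.surj _) (S.q (S.f c)) = s.inr.hom (S.f c)
    rw [S.comm, RingHom.liftOfSurjective_comp_apply]
    exact ConcreteCategory.congr_hom s.condition c
  · intro s m h₁ h₂
    ext d
    obtain ⟨b, rfl⟩ := S.surj d
    change m.hom (S.p b) = S.p.liftOfSurjective S.surj _ (S.p b)
    rw [RingHom.liftOfSurjective_comp_apply]
    exact ConcreteCategory.congr_hom h₁ b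

end Groth.Agent.KerEval.Sq
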