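import Groth.Agent.FlatMorPush.Chart

/-!
# Open immersions between charts
-/

set_option autoImplicit false
set_option backward.isDefEq.respectTransparency.types false
universe u

open AlgebraicGeometry CategoryTheory Limits PrimeSpectrum
open Groth.Agent.KerEval

namespace Groth.Agent.FlatMorPush

/-- A morphism with sections over an open covering of an open set containing its image, such that each
point of the preimage is the value of the section, is an open immersion. -/
theorem isOpenImmersion_of_local_sections {X S : Scheme.{u}} (m : X ⟶ S) (Ω : S.Opens)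
    (hm : Set.range m ⊆ Ω) {ι : Type u} (D : ι → Scheme.{u}) (e : ∀ k, D k ⟶ S)
    [∀ k, IsOpenImmersion (e k)] (hcov : ∀ w ∈ Ω, ∃ k, w ∈ Set.range (e k))
    (hD : ∀ k, Set.range (e k) ⊆ Ω)
    (s : ∀ k, D k ⟶ X) (hs : ∀ k, s k ≫ m = e k)
    (hs' : ∀ k, pullback.snd m (e k) ≫ s k = pullback.fst m (e k)) :
    IsOpenImmersion m ∧ Set.range m = (Ω : Set S) := by
  have hmono : Mono m := by
    refine ⟨fun {T} t₁ t₂ h => Scheme.hom_ext_of_forall _ _ fun x => ?_⟩
    obtain ⟨k, hk⟩ := hcov (m (t₁ x)) (hm ⟨_, rfl⟩)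
    let U : T.Opens := (t₁ ≫ m) ⁻¹ᵁ (e k).opensRange
    refine ⟨U, hk, ?_⟩
    have hr : Set.range (U.ι ≫ t₁ ≫ m) ⊆ Set.range (e k) := by
      rintro _ ⟨y, rfl⟩; exact y.2
    let l := IsOpenImmersion.lift (e k) _ hr
    have hl : l ≫ e k = U.ι ≫ t₁ ≫ m := IsOpenImmersion.lift_fac _ _ hr
    have key : ∀ t : T ⟶ X, t ≫ m = t₁ ≫ m → U.ι ≫ t = l ≫ s k := fun t ht => by
      have h1 : (U.ι ≫ t) ≫ m = l ≫ e k := by rw [Category.assoc, ht, hl]
      calc U.ι ≫ t = pullback.lift (U.ι ≫ t) l h1 ≫ pullback.fst m (e k) :=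
            (pullback.lift_fst _ _ _).symm
        _ = pullback.lift (U.ι ≫ t) l h1 ≫ pullback.snd m (e k) ≫ s k := by rw [hs' k]
        _ = l ≫ s k := by rw [pullback.lift_snd_assoc]
    rw [key t₁ rfl, key t₂ h.symm]
  -- glue the sections
  let e' : ∀ k, D k ⟶ (Ω : Scheme.{u}) := fun k =>
    IsOpenImmersion.lift Ω.ι (e k) (by rw [Scheme.Opens.range_ι]; exact hD k)
  have he' : ∀ k, e' k ≫ Ω.ι = e k := fun k => IsOpenImmersion.lift_fac _ _ _
  have : ∀ k, IsOpenImmersion (e' k) := fun k => by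
    have : IsOpenImmersion (e' k ≫ Ω.ι) := by rw [he' k]; infer_instance
    exact IsOpenImmersion.of_comp (e' k) Ω.ι
  have hsurj : ∀ w : (Ω : Scheme.{u}), ∃ k y, e' k y = w := fun w => by
    obtain ⟨k, y, hy⟩ := hcov w.1 w.2
    exact ⟨k, y, Subtype.ext (hy ▸ congrArg (fun f : D k ⟶ S => f y) (he' k))⟩
  let 𝒰 : (Ω : Scheme.{u}).OpenCover :=
    { I₀ := ι
      X := D
      f := e'
      mem₀ := by
        rw [Scheme.presieve₀_mem_precoverage_iff]
        exact ⟨fun w => hsurj w, fun k => inferInstanceAs (IsOpenImmersion (e' k))⟩ }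
  let σ : (Ω : Scheme.{u}) ⟶ X := 𝒰.glueMorphisms s fun k l => by
    rw [← cancel_mono m, Category.assoc, Category.assoc, hs, hs, ← he' k, ← he' l]
    exact pullback.condition_assoc Ω.ι
  have hσ : σ ≫ m = Ω.ι := 𝒰.hom_ext _ _ fun k => by
    rw [Scheme.Cover.ι_glueMorphisms_assoc, hs]
    exact (he' k).symm
  let m' : X ⟶ (Ω : Scheme.{u}) :=
    IsOpenImmersion.lift Ω.ι m (by rw [Scheme.Opens.range_ι]; exact hm)
  have hm' : m' ≫ Ω.ι = m := IsOpenImmersion.lift_fac _ _ _
  have : IsIso m' := ⟨σ, (cancel_mono m).mp (by rw [Category.assoc, hσ, hm', Category.id_comp]),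
    (cancel_mono Ω.ι).mp (by rw [Category.assoc, hm', hσ, Category.id_comp])⟩
  refine ⟨?_, ?_⟩
  · rw [← hm']; infer_instance
  · refine Set.Subset.antisymm hm fun w hw => ⟨σ ⟨w, hw⟩, ?_⟩
    exact congrArg (fun f : (Ω : Scheme.{u}) ⟶ S => f ⟨w, hw⟩) hσ

section

variable {C A B D C' A' B' D' : Type u} [CommRing C] [CommRing A] [CommRing B] [CommRing D]
  [CommRing C'] [CommRing A'] [CommRing B'] [CommRing D']
  (S : Sq C A B D) (S' : Sq C' A' B' D')
  (φ : C →+* C') (α : A →+* A') (β : B →+* B') (δ : D →+* D')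

/-- A morphism of squares, open immersions on the three corners with compatible images, induces an
open immersion of charts. -/
theorem isOpenImmersion_sp (hf : S'.f.comp φ = α.comp S.f) (hg : S'.g.comp φ = β.comp S.g)
    (hq : S'.q.comp α = δ.comp S.q) (hp : S'.p.comp β = δ.comp S.p)
    [IsOpenImmersion (sp α)] [IsOpenImmersion (sp β)] [IsOpenImmersion (sp δ)]
    (hα : comap S.q ⁻¹' Set.range (comap α) = Set.range (comap δ))
    (hβ : comap S.p ⁻¹' Set.range (comap β) = Set.range (comap δ)) :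
    IsOpenImmersion (sp φ) ∧ Set.range (sp φ) =
      comap S.g '' Set.range (comap β) ∪ comap S.f '' Set.range (comap α) := by
  have hpq : comap S.p ⁻¹' Set.range (comap β) = comap S.q ⁻¹' Set.range (comap α) := hβ.trans hα.symm
  let Ω : (Spec (CommRingCat.of C)).Opens :=
    ⟨comap S.g '' Set.range (comap β) ∪ comap S.f '' Set.range (comap α),
      S.isOpen_image_union (sp β).isOpenEmbedding.isOpen_range
        (sp α).isOpenEmbedding.isOpen_range hpq⟩
  have hΩg : comap S.g ⁻¹' Ω.1 = Set.range (comap β) := S.g_preimage_image hpq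
  have hΩf : comap S.f ⁻¹' Ω.1 = Set.range (comap α) := S.f_preimage_image hpq
  have hfm : sp S'.f ≫ sp φ = sp α ≫ sp S.f := by rw [← sp_comp, ← sp_comp, hf]
  have hgm : sp S'.g ≫ sp φ = sp β ≫ sp S.g := by rw [← sp_comp, ← sp_comp, hg]
  have hqm : sp δ ≫ sp S.q = sp S'.q ≫ sp α := by rw [← sp_comp, ← sp_comp, hq]
  have hpm : sp δ ≫ sp S.p = sp S'.p ≫ sp β := by rw [← sp_comp, ← sp_comp, hp]
  have hm : Set.range (sp φ) ⊆ (Ω : Set _) := by
    rintro _ ⟨w, rfl⟩
    rcases S'.exists_point w with ⟨y, rfl⟩ | ⟨-, -, -, x, rfl⟩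
    · exact Or.inr ⟨comap α y, ⟨y, rfl⟩,
        (congrArg (fun m : _ ⟶ Spec (CommRingCat.of C) => m y) hfm).symm⟩
    · exact Or.inl ⟨comap β x, ⟨x, rfl⟩,
        (congrArg (fun m : _ ⟶ Spec (CommRingCat.of C) => m x) hgm).symm⟩
  let ι : Type u := { d : C // (basicOpen d : Set (PrimeSpectrum C)) ⊆ Ω.1 }
  have hsec : ∀ d : ι, ∃ s : Spec (CommRingCat.of (Localization.Away d.1)) ⟶ Spec (CommRingCat.of C'),
      s ≫ sp φ = jAway d.1 ∧
        pullback.snd (sp φ) (jAway d.1) ≫ s = pullback.fst (sp φ) (jAway d.1) := by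
    rintro ⟨d, hd⟩
    have hA : Set.range (jAway (S.f d)) ⊆ Set.range (sp α) := by
      intro y hy
      exact hΩf.subset (show y ∈ comap S.f ⁻¹' Ω.1 from @hd (comap S.f y) ((range_jAway (S.f d)).subset hy))
    have hB : Set.range (jAway (S.g d)) ⊆ Set.range (sp β) := by
      intro y hy
      exact hΩg.subset (show y ∈ comap S.g ⁻¹' Ω.1 from @hd (comap S.g y) ((range_jAway (S.g d)).subset hy))
    let lA := IsOpenImmersion.lift (sp α) _ hA
    have hlA : lA ≫ sp α = jAway (S.f d) := IsOpenImmersion.lift_fac _ _ hA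
    let lB := IsOpenImmersion.lift (sp β) _ hB
    have hlB : lB ≫ sp β = jAway (S.g d) := IsOpenImmersion.lift_fac _ _ hB
    have hDD : Set.range (jAway (S.q (S.f d))) ⊆ Set.range (sp δ) := by
      intro z hz
      exact hβ.subset (hB ((range_jAway _).symm.subset (show S.g d ∉ (comap S.p z).asIdeal from by
        rw [comap_asIdeal, Ideal.mem_comap, ← S.comm]; exact (range_jAway _).subset hz)))
    let lD := IsOpenImmersion.lift (sp δ) _ hDD
    have hlD : lD ≫ sp δ = jAway (S.q (S.f d)) := IsOpenImmersion.lift_fac _ _ hDD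
    have eA : sp (S.qLoc d) ≫ lA = lD ≫ sp S'.q := by
      rw [← cancel_mono (sp α), Category.assoc, hlA, S.sp_qLoc, Category.assoc, ← hqm,
        ← Category.assoc lD, hlD]
    have eB : sp (S.pLoc d) ≫ lB = lD ≫ sp S'.p := by
      rw [← cancel_mono (sp β), Category.assoc, hlB, S.sp_pLoc, Category.assoc, ← hpm,
        ← Category.assoc lD, hlD]
    have hcomm : sp (S.loc d).q ≫ lA ≫ sp S'.f = sp (S.loc d).p ≫ lB ≫ sp S'.g := by
      change sp (S.qLoc d) ≫ lA ≫ sp S'.f = sp (S.pLoc d) ≫ lB ≫ sp S'.g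
      rw [← Category.assoc, eA, ← Category.assoc (sp (S.pLoc d)), eB, Category.assoc,
        Category.assoc, ← sp_comp, ← sp_comp]
      congr 2
      exact RingHom.ext S'.comm
    obtain ⟨s, hsf, hsg⟩ := (S.loc d).exists_hom _ _ hcomm
    change sp (S.fLoc d) ≫ s = _ at hsf
    change sp (S.gLoc d) ≫ s = _ at hsg
    have hs : s ≫ sp φ = jAway d := by
      refine (S.loc d).hom_ext _ _ ?_ ?_
      · change sp (S.fLoc d) ≫ _ = sp (S.fLoc d) ≫ _
        rw [← Category.assoc, hsf, Category.assoc, hfm, ← Category.assoc, hlA, S.sp_fLoc]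
      · change sp (S.gLoc d) ≫ _ = sp (S.gLoc d) ≫ _
        rw [← Category.assoc, hsg, Category.assoc, hgm, ← Category.assoc, hlB, S.sp_gLoc]
    refine ⟨s, hs, ?_⟩
    -- the other composite
    let φd : Localization.Away d →+* Localization.Away (φ d) := IsLocalization.Away.map _ _ φ d
    have hφd : sp φd ≫ jAway d = jAway (φ d) ≫ sp φ := by
      rw [jAway, jAway, ← sp_comp, ← sp_comp]
      congr 1
      exact RingHom.ext fun c => by simp [φd, IsLocalization.Away.map]
    have hkey : sp φd ≫ s = jAway (φ d) := by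
      refine (S'.loc (φ d)).hom_ext _ _ ?_ ?_
      · change sp (S'.fLoc (φ d)) ≫ _ = sp (S'.fLoc (φ d)) ≫ _
        let αd : Localization.Away (S.f d) →+* Localization.Away (S'.f (φ d)) :=
          IsLocalization.Away.lift (S.f d) (g := (algebraMap A' _).comp α) (by
            rw [RingHom.comp_apply, show α (S.f d) = S'.f (φ d) from (RingHom.congr_fun hf d).symm]
            exact IsLocalization.Away.algebraMap_isUnit _)
        have h1 : (S'.fLoc (φ d)).comp φd = αd.comp (S.fLoc d) := by
          refine IsLocalization.ringHom_ext (Submonoid.powers d) (RingHom.ext fun c => ?_)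
          simp only [RingHom.comp_apply, φd, αd, IsLocalization.Away.map, IsLocalization.map_eq,
            Sq.fLoc_algebraMap, IsLocalization.Away.lift_eq]
          exact congrArg _ (RingHom.congr_fun hf c)
        have h2 : sp αd ≫ lA = jAway (S'.f (φ d)) := by
          rw [← cancel_mono (sp α), Category.assoc, hlA, jAway, jAway, ← sp_comp, ← sp_comp]
          congr 1
          exact RingHom.ext fun a => by simp [αd]
        rw [← Category.assoc, ← sp_comp, h1, sp_comp, Category.assoc, hsf, ← Category.assoc, h2,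
          S'.sp_fLoc]
      · change sp (S'.gLoc (φ d)) ≫ _ = sp (S'.gLoc (φ d)) ≫ _
        let βd : Localization.Away (S.g d) →+* Localization.Away (S'.g (φ d)) :=
          IsLocalization.Away.lift (S.g d) (g := (algebraMap B' _).comp β) (by
            rw [RingHom.comp_apply, show β (S.g d) = S'.g (φ d) from (RingHom.congr_fun hg d).symm]
            exact IsLocalization.Away.algebraMap_isUnit _)
        have h1 : (S'.gLoc (φ d)).comp φd = βd.comp (S.gLoc d) := by
          refine IsLocalization.ringHom_ext (Submonoid.powers d) (RingHom.ext fun c => ?_)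
          simp only [RingHom.comp_apply, φd, βd, IsLocalization.Away.map, IsLocalization.map_eq,
            Sq.gLoc_algebraMap, IsLocalization.Away.lift_eq]
          exact congrArg _ (RingHom.congr_fun hg c)
        have h2 : sp βd ≫ lB = jAway (S'.g (φ d)) := by
          rw [← cancel_mono (sp β), Category.assoc, hlB, jAway, jAway, ← sp_comp, ← sp_comp]
          congr 1
          exact RingHom.ext fun a => by simp [βd]
        rw [← Category.assoc, ← sp_comp, h1, sp_comp, Category.assoc, hsg, ← Category.assoc, h2,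
          S'.sp_gLoc]
    have hr : Set.range (pullback.fst (sp φ) (jAway d)) ⊆ Set.range (jAway (φ d)) := by
      rintro _ ⟨y, rfl⟩
      refine (range_jAway _).symm.subset ?_
      have := (range_jAway d).subset ⟨pullback.snd (sp φ) (jAway d) y, rfl⟩
      rw [← Scheme.Hom.comp_apply, ← pullback.condition] at this
      exact this
    let l := IsOpenImmersion.lift (jAway (φ d)) _ hr
    have hl : l ≫ jAway (φ d) = pullback.fst (sp φ) (jAway d) := IsOpenImmersion.lift_fac _ _ hr
    have hl' : l ≫ sp φd = pullback.snd (sp φ) (jAway d) := by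
      rw [← cancel_mono (jAway d), Category.assoc, hφd, ← Category.assoc, hl, pullback.condition]
    rw [← hl', Category.assoc, hkey, hl]
  choose s hs hs' using hsec
  refine isOpenImmersion_of_local_sections (sp φ) Ω hm (fun d : ι => _) (fun d => jAway d.1)
    (fun w hw => ?_) (fun d => (range_jAway _).subset.trans d.2) s hs hs'
  obtain ⟨_, ⟨d, rfl⟩, hwd, hd⟩ :=
    isTopologicalBasis_basic_opens.exists_subset_of_mem_open hw Ω.isOpen
  exact ⟨⟨d, hd⟩, (range_jAway d).symm.subset hwd⟩

end

end Groth.Agent.FlatMorPush
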