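import Groth.Agent.FlatMorPush.Chart
import Mathlib.AlgebraicGeometry.Gluing

/-!
# A chartwise criterion for pushouts of schemes
-/

set_option autoImplicit false
set_option backward.isDefEq.respectTransparency.types false
universe u

open AlgebraicGeometry CategoryTheory Limits PrimeSpectrum
open Groth.Agent.KerEval

namespace Groth.Agent.FlatMorPush

variable {X Y Z P : Scheme.{u}}

/-- An affine chart exhibiting a square of schemes locally as `Spec` of a fibre square of rings. -/
structure SqChart (i : Z ⟶ X) (j : Z ⟶ Y) (a : X ⟶ P) (b : Y ⟶ P) where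
  C : Type u
  A : Type u
  B : Type u
  D : Type u
  [rC : CommRing C]
  [rA : CommRing A]
  [rB : CommRing B]
  [rD : CommRing D]
  S : Sq C A B D
  e : Spec (CommRingCat.of C) ⟶ P
  [he : IsOpenImmersion e]
  uX : Spec (CommRingCat.of B) ⟶ X
  uY : Spec (CommRingCat.of A) ⟶ Y
  uZ : Spec (CommRingCat.of D) ⟶ Z
  hX : IsPullback (sp S.g) uX e a
  hY : IsPullback (sp S.f) uY e b
  hZX : sp S.p ≫ uX = uZ ≫ i
  hZY : sp S.q ≫ uY = uZ ≫ j

attribute [instance] SqChart.rC SqChart.rA SqChart.rB SqChart.rD SqChart.he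

variable {i : Z ⟶ X} {j : Z ⟶ Y} {a : X ⟶ P} {b : Y ⟶ P}

/-- A square covered by such charts is a pushout. -/
theorem isPushout_of_charts (w : i ≫ a = j ≫ b)
    (hcov : ∀ p : P, ∃ c : SqChart i j a b, p ∈ Set.range c.e) : IsPushout i j a b := by
  choose c hc using hcov
  let 𝒰 : P.OpenCover :=
    { I₀ := P
      X := fun p => Spec (CommRingCat.of (c p).C)
      f := fun p => (c p).e
      mem₀ := by
        rw [Scheme.presieve₀_mem_precoverage_iff]
        exact ⟨fun p => ⟨p, hc p⟩, fun p => inferInstanceAs (IsOpenImmersion (c p).e)⟩ }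
  -- uniqueness
  have huniq : ∀ {G : Scheme.{u}} (m₁ m₂ : P ⟶ G), a ≫ m₁ = a ≫ m₂ → b ≫ m₁ = b ≫ m₂ → m₁ = m₂ :=
    fun m₁ m₂ hA hB => 𝒰.hom_ext _ _ fun p => (c p).S.hom_ext _ _
      (by
        change sp (c p).S.f ≫ (c p).e ≫ m₁ = sp (c p).S.f ≫ (c p).e ≫ m₂
        rw [reassoc_of% (c p).hY.w, reassoc_of% (c p).hY.w, hB])
      (by
        change sp (c p).S.g ≫ (c p).e ≫ m₁ = sp (c p).S.g ≫ (c p).e ≫ m₂
        rw [reassoc_of% (c p).hX.w, reassoc_of% (c p).hX.w, hA])
  -- existence
  have hex : ∀ {G : Scheme.{u}} (u : X ⟶ G) (v : Y ⟶ G), i ≫ u = j ≫ v →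
      ∃ m : P ⟶ G, a ≫ m = u ∧ b ≫ m = v := by
    intro G u v huv
    have hm : ∀ p : P, ∃ m : Spec (CommRingCat.of (c p).C) ⟶ G,
        sp (c p).S.f ≫ m = (c p).uY ≫ v ∧ sp (c p).S.g ≫ m = (c p).uX ≫ u := fun p =>
      (c p).S.exists_hom _ _ (by
        rw [reassoc_of% (c p).hZY, reassoc_of% (c p).hZX, huv])
    choose m hmv hmu using hm
    have hcompat : ∀ p p', pullback.fst (c p).e (c p').e ≫ m p = pullback.snd _ _ ≫ m p' := by
      intro p p'
      refine Scheme.hom_ext_of_forall _ _ fun z => ?_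
      let x : PrimeSpectrum (c p).C := pullback.fst (c p).e (c p').e z
      have hx : x ∈ ((c p).e ⁻¹ᵁ (c p').e.opensRange).1 := by
        refine ⟨pullback.snd (c p).e (c p').e z, ?_⟩
        change (pullback.snd (c p).e (c p').e ≫ (c p').e) z = (c p).e (pullback.fst (c p).e (c p').e z)
        rw [← pullback.condition]
        rfl
      obtain ⟨_, ⟨d, rfl⟩, hxd, hd⟩ := isTopologicalBasis_basic_opens.exists_subset_of_mem_open hx
        ((c p).e ⁻¹ᵁ (c p').e.opensRange).2
      have hr : Set.range (jAway d ≫ (c p).e) ⊆ Set.range (c p').e := by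
        rintro _ ⟨y, rfl⟩
        exact hd ((range_jAway d).subset ⟨y, rfl⟩)
      let l := IsOpenImmersion.lift (c p').e _ hr
      have hl : l ≫ (c p').e = jAway d ≫ (c p).e := IsOpenImmersion.lift_fac _ _ hr
      have hkey : jAway d ≫ m p = l ≫ m p' := by
        refine ((c p).S.loc d).hom_ext _ _ ?_ ?_
        · change sp ((c p).S.fLoc d) ≫ _ = sp ((c p).S.fLoc d) ≫ _
          have hw : (sp ((c p).S.fLoc d) ≫ l) ≫ (c p').e = (jAway _ ≫ (c p).uY) ≫ b := by
            rw [Category.assoc, hl, ← Category.assoc, (c p).S.sp_fLoc, Category.assoc, (c p).hY.w,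
              Category.assoc]
          let t := (c p').hY.lift _ _ hw
          rw [← Category.assoc, (c p).S.sp_fLoc, Category.assoc, hmv, ← Category.assoc,
            ← (c p').hY.lift_snd _ _ hw, Category.assoc, ← hmv, ← Category.assoc,
            (c p').hY.lift_fst, Category.assoc]
        · change sp ((c p).S.gLoc d) ≫ _ = sp ((c p).S.gLoc d) ≫ _
          have hw : (sp ((c p).S.gLoc d) ≫ l) ≫ (c p').e = (jAway _ ≫ (c p).uX) ≫ a := by
            rw [Category.assoc, hl, ← Category.assoc, (c p).S.sp_gLoc, Category.assoc, (c p).hX.w,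
              Category.assoc]
          rw [← Category.assoc, (c p).S.sp_gLoc, Category.assoc, hmu, ← Category.assoc,
            ← (c p').hX.lift_snd _ _ hw, Category.assoc, ← hmu, ← Category.assoc,
            (c p').hX.lift_fst, Category.assoc]
      let O : (pullback (c p).e (c p').e).Opens :=
        pullback.fst (c p).e (c p').e ⁻¹ᵁ (jAway d).opensRange
      refine ⟨O, (range_jAway d).symm.subset hxd, ?_⟩
      have hr' : Set.range (O.ι ≫ pullback.fst (c p).e (c p').e) ⊆ Set.range (jAway d) := by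
        rintro _ ⟨y, rfl⟩; exact y.2
      let t := IsOpenImmersion.lift (jAway d) _ hr'
      have ht : t ≫ jAway d = O.ι ≫ pullback.fst _ _ := IsOpenImmersion.lift_fac _ _ hr'
      have ht' : t ≫ l = O.ι ≫ pullback.snd _ _ := by
        rw [← cancel_mono (c p').e, Category.assoc, hl, reassoc_of% ht, pullback.condition,
          Category.assoc]
      rw [← reassoc_of% ht, hkey, reassoc_of% ht']
    let M := 𝒰.glueMorphisms m hcompat
    have hM : ∀ p, (c p).e ≫ M = m p := fun p => 𝒰.ι_glueMorphisms m hcompat p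
    refine ⟨M, ?_, ?_⟩
    · refine Scheme.Cover.hom_ext (𝒰.pullback₁ a) _ _ fun p => ?_
      change pullback.fst a (c p).e ≫ a ≫ M = pullback.fst a (c p).e ≫ u
      have hp := (c p).hX.flip
      rw [← cancel_epi hp.isoPullback.hom, reassoc_of% hp.isoPullback_hom_fst,
        reassoc_of% hp.isoPullback_hom_fst, reassoc_of% hp.w, hM, hmu]
    · refine Scheme.Cover.hom_ext (𝒰.pullback₁ b) _ _ fun p => ?_
      change pullback.fst b (c p).e ≫ b ≫ M = pullback.fst b (c p).e ≫ v
      have hp := (c p).hY.flip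
      rw [← cancel_epi hp.isoPullback.hom, reassoc_of% hp.isoPullback_hom_fst,
        reassoc_of% hp.isoPullback_hom_fst, reassoc_of% hp.w, hM, hmv]
  exact ⟨⟨w⟩, ⟨PushoutCocone.IsColimit.mk w
    (fun s => (hex _ _ s.condition).choose)
    (fun s => (hex _ _ s.condition).choose_spec.1)
    (fun s => (hex _ _ s.condition).choose_spec.2)
    (fun s m h₁ h₂ => huniq m _ (h₁.trans (hex _ _ s.condition).choose_spec.1.symm)
      (h₂.trans (hex _ _ s.condition).choose_spec.2.symm))⟩⟩

end Groth.Agent.FlatMorPush
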