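import Groth.Agent.FlatMorPush.RingMap
import Groth.Agent.HenselLib.MilnorGlue
import Mathlib.RingTheory.RingHom.Etale
import Mathlib.RingTheory.Finiteness.ModuleFinitePresentation
import Mathlib.RingTheory.Kaehler.TensorProduct

/-!
# Finite étale maps descend to fibre products of rings
-/

set_option autoImplicit false
set_option backward.isDefEq.respectTransparency.types false
universe u

open CategoryTheory Limits TensorProduct
open Groth.Agent.KerEval

namespace Groth.Agent.FlatMorPush

variable {C A B D C' A' B' D' : Type u} [CommRing C] [CommRing A] [CommRing B] [CommRing D]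
  [CommRing C'] [CommRing A'] [CommRing B'] [CommRing D']
  (S : Sq C A B D) (S' : Sq C' A' B' D')
  {φ : C →+* C'} {α : A →+* A'} {β : B →+* B'} {δ : D →+* D'}
  (hf : S'.f.comp φ = α.comp S.f) (hg : S'.g.comp φ = β.comp S.g)
  (hAD : IsPushout (CommRingCat.ofHom S.q) (CommRingCat.ofHom α)
    (CommRingCat.ofHom δ) (CommRingCat.ofHom S'.q))
  (hBD : IsPushout (CommRingCat.ofHom S.p) (CommRingCat.ofHom β)
    (CommRingCat.ofHom δ) (CommRingCat.ofHom S'.p))

include hf hg hAD hBD in
theorem finite_etale_map (hαf : α.Finite) (hα : α.Etale) (hβf : β.Finite) (hβ : β.Etale) :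
    φ.Finite ∧ φ.Etale := by
  have h1 := isPushout_f S S' hf hg hAD hBD
  have h2 := isPushout_g S S' hf hg hAD hBD
  algebraize [φ, α, β, S.f, S.g, S.q, S.p, S.q.comp S.f, S'.f, S'.g, α.comp S.f, β.comp S.g]
  have : IsScalarTower C A D := .of_algebraMap_eq' rfl
  have : IsScalarTower C B D := .of_algebraMap_eq' (RingHom.ext fun c => S.comm c)
  have hsq : EtMil.IsFibreSquare C A B D :=
    ⟨S.surj, fun a b h => by
      obtain ⟨c, hc⟩ := S.exist a b h
      exact ⟨c, hc, fun c' hc' => S.ext _ _ (hc'.1.trans hc.1.symm) (hc'.2.trans hc.2.symm)⟩⟩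
  have : IsScalarTower C A A' := .of_algebraMap_eq' rfl
  have : IsScalarTower C C' A' := .of_algebraMap_eq' hf.symm
  have : IsScalarTower C B B' := .of_algebraMap_eq' rfl
  have : IsScalarTower C C' B' := .of_algebraMap_eq' hg.symm
  have pA : Algebra.IsPushout C A C' A' := CommRingCat.isPushout_iff_isPushout.mp h1
  have pB : Algebra.IsPushout C B C' B' := CommRingCat.isPushout_iff_isPushout.mp h2
  let eA : A ⊗[C] C' ≃ₗ[A] A' := (Algebra.IsPushout.equiv C A C' A').toLinearEquiv
  let eB : B ⊗[C] C' ≃ₗ[B] B' := (Algebra.IsPushout.equiv C B C' B').toLinearEquiv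
  have : Algebra.Etale A A' := hα
  have : Algebra.Etale B B' := hβ
  have : Module.Finite A A' := hαf
  have : Module.Finite B B' := hβf
  have : Module.FinitePresentation A A' :=
    (Module.FinitePresentation.iff_finitePresentation_of_finite A A').mpr inferInstance
  have : Module.FinitePresentation B B' :=
    (Module.FinitePresentation.iff_finitePresentation_of_finite B B').mpr inferInstance
  have : Module.Flat A (A ⊗[C] C') := .of_linearEquiv eA
  have : Module.Flat B (B ⊗[C] C') := .of_linearEquiv eB
  have : Module.FinitePresentation A (A ⊗[C] C') := Module.FinitePresentation.of_equiv eA.symm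
  have : Module.FinitePresentation B (B ⊗[C] C') := Module.FinitePresentation.of_equiv eB.symm
  have : Module.Flat C C' := HenselLib.Milnor.flat_of_flat hsq C'
  have : Module.FinitePresentation C C' := HenselLib.Milnor.finitePresentation_of_flat hsq C'
  have : Algebra.FinitePresentation C C' := inferInstance
  refine ⟨(inferInstance : Module.Finite C C'), ?_⟩
  have hA0 : Subsingleton (A ⊗[C] Ω[C'⁄C]) :=
    (KaehlerDifferential.tensorKaehlerEquivBase C A C' A').toEquiv.subsingleton
  have hB0 : Subsingleton (B ⊗[C] Ω[C'⁄C]) :=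
    (KaehlerDifferential.tensorKaehlerEquivBase C B C' B').toEquiv.subsingleton
  have : Algebra.FormallyUnramified C C' :=
    ⟨HenselLib.Milnor.subsingleton_of_subsingleton hsq Ω[C'⁄C] hA0 hB0⟩
  exact Algebra.Etale.of_formallyUnramified_of_flat

end Groth.Agent.FlatMorPush
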