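import Groth.Agent.FlatMorPush.Functorial
import Groth.Agent.FlatMorPush.Props
import Groth.Agent.FlatMorPush.RingEtale
import Mathlib.AlgebraicGeometry.Morphisms.Finite
import Mathlib.AlgebraicGeometry.Morphisms.Etale

/-!
# Gluing finite étale covers along Ferrand pushouts
-/

set_option autoImplicit false
set_option backward.isDefEq.respectTransparency.types false
set_option linter.unusedSectionVars false
set_option linter.overlappingInstances false
universe u

open AlgebraicGeometry CategoryTheory Limits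
open Groth.Agent.KerEval

namespace Groth.Agent.FlatMorPush

variable {X Y Z X' Y' Z' : Scheme.{u}} {i : Z ⟶ X} {j : Z ⟶ Y} [IsClosedImmersion i]
  [IsIntegralHom j] [HasPairs i j] {i' : Z' ⟶ X'} {j' : Z' ⟶ Y'} [IsClosedImmersion i']
  [IsIntegralHom j'] {f : X' ⟶ X} {g : Y' ⟶ Y} {h : Z' ⟶ Z} [IsFinite f] [IsFinite g]
  (hX : IsPullback h i' i f) (hY : IsPullback h j' j g)

/-- The preimage of a pair. -/
noncomputable def pullPair (k : Pair i j) : Pair i' j' where
  U := f ⁻¹ᵁ k.U
  V := g ⁻¹ᵁ k.V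
  hU := k.hU.preimage f
  hV := k.hV.preimage g
  eq := by
    rw [← Scheme.Hom.comp_preimage, ← Scheme.Hom.comp_preimage, ← hX.w, ← hY.w,
      Scheme.Hom.comp_preimage, Scheme.Hom.comp_preimage, k.eq]

include hX hY in
theorem hasPairs_of_finite : HasPairs i' j' :=
  hasPairs_of_cover fun y' => by
    obtain ⟨k, hk⟩ := HasPairs.cover (i := i) (j := j) (g y')
    exact ⟨pullPair hX hY k, hk⟩

lemma over_pullPair (k : Pair i j) : Over' f g (pullPair hX hY k) k := ⟨le_rfl, le_rfl⟩

variable [HasPairs i' j']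

lemma isPullback_pullPair (k : Pair i j) :
    IsPullback (sp (mC hX hY (over_pullPair hX hY k))) (ι (pullPair hX hY k)) (ι k)
      (poMap hX hY) := by
  refine IsOpenImmersion.isPullback _ _ _ _ (ι_poMap hX hY (over_pullPair hX hY k)) ?_
  refine TopologicalSpace.Opens.ext (Set.ext fun w => ?_)
  change poMap hX hY w ∈ (ι k).opensRange ↔ w ∈ (ι (pullPair hX hY k)).opensRange
  obtain ⟨k₀, w₀, rfl⟩ := exists_mem_range w
  rcases k₀.sq.exists_point w₀ with ⟨y, rfl⟩ | ⟨-, -, -, x, rfl⟩
  · have e1 : ι k₀ (sp k₀.sq.f y) = inr i' j' (k₀.hV.fromSpec y) := by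
      rw [← Scheme.Hom.comp_apply, ← fromSpec_inr, Scheme.Hom.comp_apply]
    have e2 : poMap hX hY (inr i' j' (k₀.hV.fromSpec y)) = inr i j (g (k₀.hV.fromSpec y)) := by
      rw [← Scheme.Hom.comp_apply, inr_poMap, Scheme.Hom.comp_apply]
    change poMap hX hY (ι k₀ (sp k₀.sq.f y)) ∈ _ ↔ ι k₀ (sp k₀.sq.f y) ∈ _
    rw [e1, e2]
    exact (inr_mem_range_ι (k := k)).trans (inr_mem_range_ι (k := pullPair hX hY k)).symm
  · have e1 : ι k₀ (sp k₀.sq.g x) = inl i' j' (k₀.hU.fromSpec x) := by
      rw [← Scheme.Hom.comp_apply, ← fromSpec_inl, Scheme.Hom.comp_apply]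
    have e2 : poMap hX hY (inl i' j' (k₀.hU.fromSpec x)) = inl i j (f (k₀.hU.fromSpec x)) := by
      rw [← Scheme.Hom.comp_apply, inl_poMap, Scheme.Hom.comp_apply]
    change poMap hX hY (ι k₀ (sp k₀.sq.g x)) ∈ _ ↔ ι k₀ (sp k₀.sq.g x) ∈ _
    rw [e1, e2]
    exact (inl_mem_range_ι (k := k)).trans (inl_mem_range_ι (k := pullPair hX hY k)).symm

theorem finite_etale_poMap [Etale f] [Etale g] :
    IsFinite (poMap hX hY) ∧ Etale (poMap hX hY) := by
  suffices hk : ∀ k : Pair i j, IsFinite (sp (mC hX hY (over_pullPair hX hY k))) ∧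
      Etale (sp (mC hX hY (over_pullPair hX hY k))) by
    constructor
    · rw [IsZariskiLocalAtTarget.iff_of_openCover (P := @IsFinite) (chartCover i j)]
      intro k
      change IsFinite (pullback.snd (poMap hX hY) (ι k))
      rw [← (isPullback_pullPair hX hY k).flip.isoPullback_inv_snd,
        MorphismProperty.cancel_left_of_respectsIso @IsFinite]
      exact (hk k).1
    · rw [IsZariskiLocalAtTarget.iff_of_openCover (P := @Etale) (chartCover i j)]
      intro k
      change Etale (pullback.snd (poMap hX hY) (ι k))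
      rw [← (isPullback_pullPair hX hY k).flip.isoPullback_inv_snd,
        MorphismProperty.cancel_left_of_respectsIso @Etale]
      exact (hk k).2
  intro k
  have ho := over_pullPair hX hY k
  have hA : (mA ho).Finite := by
    have := IsFinite.finite_app (f := g) k.V k.hV
    rw [Scheme.Hom.app_eq_appLE] at this
    exact this
  have hB : (mB ho).Finite := by
    have := IsFinite.finite_app (f := f) k.U k.hU
    rw [Scheme.Hom.app_eq_appLE] at this
    exact this
  obtain ⟨h₁, h₂⟩ := finite_etale_map k.sq (pullPair hX hY k).sq (f_mC hX hY ho) (g_mC hX hY ho)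
    (isPushout_mA hY ho) (isPushout_mB hX hY ho) hA
    (HasRingHomProperty.appLE @Etale g inferInstance ⟨k.V, k.hV⟩ ⟨_, k.hV.preimage g⟩ ho.2) hB
    (HasRingHomProperty.appLE @Etale f inferInstance ⟨k.U, k.hU⟩ ⟨_, k.hU.preimage f⟩ ho.1)
  exact ⟨(IsFinite.SpecMap_iff _).mpr h₁, (HasRingHomProperty.Spec_iff (P := @Etale)).mpr h₂⟩

end Groth.Agent.FlatMorPush
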