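import Groth.Agent.FlatMorPush.Chart
import Mathlib.RingTheory.FiniteType
import Mathlib.Algebra.Category.Ring.Constructions

/-!
# Morphisms of fibre squares of rings with cartesian sides
-/

set_option autoImplicit false
set_option backward.isDefEq.respectTransparency.types false
universe u

open CategoryTheory Limits TensorProduct
open Groth.Agent.KerEval

namespace Groth.Agent.FlatMorPush

/-- The structure maps of a pushout of rings generate it. -/
theorem closure_of_isPushout {A B C P : CommRingCat.{u}} {f : A ⟶ B} {g : A ⟶ C} {inl : B ⟶ P}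
    {inr : C ⟶ P} (h : IsPushout f g inl inr) :
    Subring.closure (Set.range inl.hom ∪ Set.range inr.hom) = (⊤ : Subring P) := by
  set R := Subring.closure (Set.range inl.hom ∪ Set.range inr.hom)
  let l : B →+* R := inl.hom.codRestrict R fun b => Subring.subset_closure (Or.inl ⟨b, rfl⟩)
  let r : C →+* R := inr.hom.codRestrict R fun c => Subring.subset_closure (Or.inr ⟨c, rfl⟩)
  have w : f ≫ CommRingCat.ofHom l = g ≫ CommRingCat.ofHom r := by
    ext a
    exact congrArg Subtype.val (Subtype.ext (ConcreteCategory.congr_hom h.w a) :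
      l (f.hom a) = r (g.hom a))
  let d := h.desc (CommRingCat.ofHom l) (CommRingCat.ofHom r) w
  have he : d ≫ CommRingCat.ofHom R.subtype = 𝟙 P := by
    apply h.hom_ext <;> simp [d] <;> rfl
  refine eq_top_iff.mpr fun x _ => ?_
  have : ((d.hom x : R) : P) = x := ConcreteCategory.congr_hom he x
  rw [← this]
  exact (d.hom x).2

variable {C A B D C' A' B' D' : Type u} [CommRing C] [CommRing A] [CommRing B] [CommRing D]
  [CommRing C'] [CommRing A'] [CommRing B'] [CommRing D']
  (S : Sq C A B D) (S' : Sq C' A' B' D')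
  {φ : C →+* C'} {α : A →+* A'} {β : B →+* B'} {δ : D →+* D'}
  (hf : S'.f.comp φ = α.comp S.f) (hg : S'.g.comp φ = β.comp S.g)
  (hAD : IsPushout (CommRingCat.ofHom S.q) (CommRingCat.ofHom α)
    (CommRingCat.ofHom δ) (CommRingCat.ofHom S'.q))
  (hBD : IsPushout (CommRingCat.ofHom S.p) (CommRingCat.ofHom β)
    (CommRingCat.ofHom δ) (CommRingCat.ofHom S'.p))

include hAD hBD in
/-- `B'` is generated by the images of `C'` and `B`. -/
theorem closure_range_eq_top :
    Subring.closure (Set.range S'.g ∪ Set.range β) = (⊤ : Subring B') := by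
  set R := Subring.closure (Set.range S'.g ∪ Set.range β)
  have hD : Subring.map S'.p R = ⊤ := by
    have hc := closure_of_isPushout hAD
    rw [eq_top_iff]
    intro z _
    have hz : z ∈ Subring.closure (Set.range δ ∪ Set.range S'.q) := by
      simp only [CommRingCat.hom_ofHom] at hc
      rw [hc]; trivial
    refine Subring.closure_le.mpr ?_ hz
    rintro _ (⟨d, rfl⟩ | ⟨a', rfl⟩)
    · obtain ⟨b, rfl⟩ := S.surj d
      exact ⟨β b, Subring.subset_closure (Or.inr ⟨b, rfl⟩),
        (ConcreteCategory.congr_hom hBD.w b).symm⟩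
    · obtain ⟨c', rfl⟩ := S'.f_surj a'
      exact ⟨S'.g c', Subring.subset_closure (Or.inl ⟨c', rfl⟩), (S'.comm c').symm⟩
  refine eq_top_iff.mpr fun b _ => ?_
  obtain ⟨r, hr, hrb⟩ : S'.p b ∈ Subring.map S'.p R := by rw [hD]; trivial
  obtain ⟨c', -, hc'⟩ := S'.exist 0 (b - r) (by rw [map_zero, map_sub, hrb, sub_self])
  rw [show b = S'.g c' + r by rw [hc']; ring]
  exact add_mem (Subring.subset_closure (Or.inl ⟨c', rfl⟩)) hr

include hf hg hAD hBD in
/-- The kernel of `C' → A'` comes from the kernel of `C → A`. -/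
theorem ker_eq_map : RingHom.ker S'.f = (RingHom.ker S.f).map φ := by
  set J := (RingHom.ker S.f).map φ
  have hJ : J ≤ RingHom.ker S'.f := Ideal.map_le_iff_le_comap.mpr fun c hc => by
    rw [Ideal.mem_comap, RingHom.mem_ker, ← RingHom.comp_apply, hf, RingHom.comp_apply,
      RingHom.mem_ker.mp hc, map_zero]
  -- elements of `B'` preserving `g'(J)`
  have key : ∀ x : B', ∀ c ∈ J, ∃ c' ∈ J, S'.g c' = x * S'.g c := by
    intro x
    have hx : x ∈ Subring.closure (Set.range S'.g ∪ Set.range β) := by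
      rw [closure_range_eq_top S S' hAD hBD]; trivial
    induction hx using Subring.closure_induction with
    | mem x hx =>
      rcases hx with ⟨c₀, rfl⟩ | ⟨b, rfl⟩
      · exact fun c hc => ⟨c₀ * c, J.mul_mem_left _ hc, map_mul ..⟩
      · intro c hc
        induction hc using Submodule.span_induction with
        | mem y hy =>
          obtain ⟨j, hj, rfl⟩ := hy
          obtain ⟨j', hj', hj''⟩ := S.exists_kerLift (b := b * S.g j) (by
            rw [map_mul, ← S.comm, RingHom.mem_ker.mp hj, map_zero, mul_zero])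
          refine ⟨φ j', Ideal.mem_map_of_mem _ hj', ?_⟩
          rw [← RingHom.comp_apply, hg, RingHom.comp_apply, hj'', map_mul,
            show S'.g (φ j) = β (S.g j) from RingHom.congr_fun hg j]
        | zero => exact ⟨0, J.zero_mem, by simp⟩
        | add y z _ _ hy hz =>
          obtain ⟨y', hy', hy''⟩ := hy
          obtain ⟨z', hz', hz''⟩ := hz
          exact ⟨y' + z', J.add_mem hy' hz', by rw [map_add, map_add, hy'', hz'', mul_add]⟩
        | smul a y _ hy =>
          obtain ⟨y', hy', hy''⟩ := hy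
          exact ⟨a * y', J.mul_mem_left _ hy', by rw [map_mul, smul_eq_mul, map_mul, hy'']; ring⟩
    | zero => exact fun c _ => ⟨0, J.zero_mem, by simp⟩
    | one => exact fun c hc => ⟨c, hc, by rw [one_mul]⟩
    | add x y _ _ hx hy =>
      intro c hc
      obtain ⟨x', hx', hx''⟩ := hx c hc
      obtain ⟨y', hy', hy''⟩ := hy c hc
      exact ⟨x' + y', J.add_mem hx' hy', by rw [map_add, hx'', hy'', add_mul]⟩
    | neg x _ hx =>
      intro c hc
      obtain ⟨x', hx', hx''⟩ := hx c hc
      exact ⟨-x', J.neg_mem hx', by rw [map_neg, hx'', neg_mul]⟩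
    | mul x y _ _ hx hy =>
      intro c hc
      obtain ⟨y', hy', hy''⟩ := hy c hc
      obtain ⟨x', hx', hx''⟩ := hx y' hy'
      exact ⟨x', hx', by rw [hx'', hy'', mul_assoc]⟩
  -- `g'(J)` contains the kernel of `p'`
  let K : Ideal B' :=
    { carrier := S'.g '' (J : Set C')
      zero_mem' := ⟨0, J.zero_mem, map_zero _⟩
      add_mem' := by
        rintro _ _ ⟨x, hx, rfl⟩ ⟨y, hy, rfl⟩
        exact ⟨x + y, J.add_mem hx hy, map_add ..⟩
      smul_mem' := by
        rintro x _ ⟨c, hc, rfl⟩
        exact key x c hc }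
  have hK : RingHom.ker S'.p ≤ K := by
    have hp : Function.Surjective (CommRingCat.ofHom S.p).hom := S.surj
    have hl : RingHom.ker S.p ≤ RingHom.ker ((Ideal.Quotient.mk K).comp β) := by
      intro b hb
      obtain ⟨c, hc, rfl⟩ := S.exists_kerLift hb
      rw [RingHom.mem_ker, RingHom.comp_apply, Ideal.Quotient.eq_zero_iff_mem,
        ← RingHom.comp_apply, ← hg]
      exact ⟨φ c, Ideal.mem_map_of_mem _ hc, rfl⟩
    let w := hBD.desc (CommRingCat.ofHom (S.p.liftOfSurjective hp ⟨_, hl⟩))
      (CommRingCat.ofHom (Ideal.Quotient.mk K)) (by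
        ext b
        exact RingHom.liftOfSurjective_comp_apply S.p hp ⟨_, hl⟩ b)
    intro b hb
    rw [← Ideal.Quotient.eq_zero_iff_mem]
    have h1 : w.hom (S'.p b) = Ideal.Quotient.mk K b :=
      ConcreteCategory.congr_hom (hBD.inr_desc _ _ _) b
    rw [← h1, RingHom.mem_ker.mp hb, map_zero]
  refine le_antisymm (fun c hc => ?_) hJ
  obtain ⟨c₀, hc₀, hc₀'⟩ := hK (x := S'.g c) (by
    rw [RingHom.mem_ker, ← S'.comm, RingHom.mem_ker.mp hc, map_zero])
  rwa [S'.ext c c₀ (by rw [RingHom.mem_ker.mp hc, RingHom.mem_ker.mp (hJ hc₀)]) hc₀'.symm]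

include hf hg hAD hBD in
/-- The square `C → A`, `C' → A'` is cocartesian. -/
theorem isPushout_f : IsPushout (CommRingCat.ofHom S.f) (CommRingCat.ofHom φ)
    (CommRingCat.ofHom α) (CommRingCat.ofHom S'.f) := by
  have w : CommRingCat.ofHom S.f ≫ CommRingCat.ofHom α =
      CommRingCat.ofHom φ ≫ CommRingCat.ofHom S'.f := by
    ext c; exact (RingHom.congr_fun hf c).symm
  have hlift : ∀ s : PushoutCocone (CommRingCat.ofHom S.f) (CommRingCat.ofHom φ),
      RingHom.ker S'.f ≤ RingHom.ker s.inr.hom := by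
    intro s
    rw [ker_eq_map S S' hf hg hAD hBD, Ideal.map_le_iff_le_comap]
    intro c hc
    rw [Ideal.mem_comap, RingHom.mem_ker]
    exact (ConcreteCategory.congr_hom s.condition c).symm.trans
      (show s.inl.hom (S.f c) = 0 by rw [RingHom.mem_ker.mp hc, map_zero])
  refine ⟨⟨w⟩, ⟨PushoutCocone.IsColimit.mk _
    (fun s => CommRingCat.ofHom (S'.f.liftOfSurjective S'.f_surj ⟨_, hlift s⟩))
    (fun s => ?_) (fun s => ?_) ?_⟩⟩
  · ext a
    obtain ⟨c, rfl⟩ := S.f_surj a
    change S'.f.liftOfSurjective S'.f_surj _ (α (S.f c)) = s.inl.hom (S.f c)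
    rw [← RingHom.comp_apply α, ← hf, RingHom.comp_apply, RingHom.liftOfSurjective_comp_apply]
    exact (ConcreteCategory.congr_hom s.condition c).symm
  · ext c
    exact RingHom.liftOfSurjective_comp_apply _ _ _ c
  · intro s m _ h₂
    ext a
    obtain ⟨c, rfl⟩ := S'.f_surj a
    change m.hom (S'.f c) = S'.f.liftOfSurjective S'.f_surj _ (S'.f c)
    rw [RingHom.liftOfSurjective_comp_apply]
    exact ConcreteCategory.congr_hom h₂ c

include hf hg hAD hBD in
/-- The square `C → B`, `C' → B'` is cocartesian. -/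
theorem isPushout_g : IsPushout (CommRingCat.ofHom S.g) (CommRingCat.ofHom φ)
    (CommRingCat.ofHom β) (CommRingCat.ofHom S'.g) := by
  let P := pushout (CommRingCat.ofHom S.g) (CommRingCat.ofHom φ)
  let uB : B →+* P := (pushout.inl (CommRingCat.ofHom S.g) (CommRingCat.ofHom φ)).hom
  let v : C' →+* P := (pushout.inr (CommRingCat.ofHom S.g) (CommRingCat.ofHom φ)).hom
  have hP : IsPushout (CommRingCat.ofHom S.g) (CommRingCat.ofHom φ) (CommRingCat.ofHom uB)
      (CommRingCat.ofHom v) := IsPushout.of_hasPushout _ _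
  have hPc : ∀ c, uB (S.g c) = v (φ c) := fun c => ConcreteCategory.congr_hom hP.w c
  have w : CommRingCat.ofHom S.g ≫ CommRingCat.ofHom β =
      CommRingCat.ofHom φ ≫ CommRingCat.ofHom S'.g := by
    ext c; exact (RingHom.congr_fun hg c).symm
  let π : (P : CommRingCat.{u}) ⟶ CommRingCat.of B' :=
    hP.desc (CommRingCat.ofHom β) (CommRingCat.ofHom S'.g) w
  have hπu : ∀ b, π.hom (uB b) = β b :=
    fun b => ConcreteCategory.congr_hom (hP.inl_desc _ _ w) b
  have hπv : ∀ c, π.hom (v c) = S'.g c :=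
    fun c => ConcreteCategory.congr_hom (hP.inr_desc _ _ w) c
  have hgen : Subring.closure (Set.range uB ∪ Set.range v) = (⊤ : Subring P) :=
    closure_of_isPushout hP
  have hsurj : Function.Surjective π.hom := by
    intro b
    have : b ∈ Subring.closure (Set.range S'.g ∪ Set.range β) := by
      rw [closure_range_eq_top S S' hAD hBD]; trivial
    refine Subring.closure_le (t := π.hom.range).mpr ?_ this
    rintro _ (⟨c, rfl⟩ | ⟨x, rfl⟩)
    exacts [⟨v c, hπv c⟩, ⟨uB x, hπu x⟩]
  -- the image of `J` in the pushout is an ideal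
  set J := (RingHom.ker S.f).map φ
  have key : ∀ x : P, ∀ c ∈ J, ∃ c' ∈ J, v c' = x * v c := by
    intro x
    have hx : x ∈ Subring.closure (Set.range uB ∪ Set.range v) := by rw [hgen]; trivial
    induction hx using Subring.closure_induction with
    | mem x hx =>
      rcases hx with ⟨b, rfl⟩ | ⟨c₀, rfl⟩
      · intro c hc
        induction hc using Submodule.span_induction with
        | mem y hy =>
          obtain ⟨j, hj, rfl⟩ := hy
          obtain ⟨j', hj', hj''⟩ := S.exists_kerLift (b := b * S.g j) (by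
            rw [map_mul, ← S.comm, RingHom.mem_ker.mp hj, map_zero, mul_zero])
          refine ⟨φ j', Ideal.mem_map_of_mem _ hj', ?_⟩
          rw [← hPc, hj'', map_mul, hPc]
        | zero => exact ⟨0, J.zero_mem, by simp⟩
        | add y z _ _ hy hz =>
          obtain ⟨y', hy', hy''⟩ := hy
          obtain ⟨z', hz', hz''⟩ := hz
          exact ⟨y' + z', J.add_mem hy' hz', by rw [map_add, map_add, hy'', hz'', mul_add]⟩
        | smul a y _ hy =>
          obtain ⟨y', hy', hy''⟩ := hy
          exact ⟨a * y', J.mul_mem_left _ hy', by rw [map_mul, smul_eq_mul, map_mul, hy'']; ring⟩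
      · exact fun c hc => ⟨c₀ * c, J.mul_mem_left _ hc, map_mul ..⟩
    | zero => exact fun c _ => ⟨0, J.zero_mem, by simp⟩
    | one => exact fun c hc => ⟨c, hc, by rw [one_mul]⟩
    | add x y _ _ hx hy =>
      intro c hc
      obtain ⟨x', hx', hx''⟩ := hx c hc
      obtain ⟨y', hy', hy''⟩ := hy c hc
      exact ⟨x' + y', J.add_mem hx' hy', by rw [map_add, hx'', hy'', add_mul]⟩
    | neg x _ hx =>
      intro c hc
      obtain ⟨x', hx', hx''⟩ := hx c hc
      exact ⟨-x', J.neg_mem hx', by rw [map_neg, hx'', neg_mul]⟩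
    | mul x y _ _ hx hy =>
      intro c hc
      obtain ⟨y', hy', hy''⟩ := hy c hc
      obtain ⟨x', hx', hx''⟩ := hx y' hy'
      exact ⟨x', hx', by rw [hx'', hy'', mul_assoc]⟩
  let K : Ideal P :=
    { carrier := v '' (J : Set C')
      zero_mem' := ⟨0, J.zero_mem, map_zero _⟩
      add_mem' := by
        rintro _ _ ⟨x, hx, rfl⟩ ⟨y, hy, rfl⟩
        exact ⟨x + y, J.add_mem hx hy, map_add ..⟩
      smul_mem' := by
        rintro x _ ⟨c, hc, rfl⟩
        exact key x c hc }
  -- `P ⧸ K` receives a map from `D'`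
  have hl : RingHom.ker S.p ≤ RingHom.ker ((Ideal.Quotient.mk K).comp uB) := by
    intro b hb
    obtain ⟨c, hc, rfl⟩ := S.exists_kerLift hb
    rw [RingHom.mem_ker, RingHom.comp_apply, Ideal.Quotient.eq_zero_iff_mem, hPc]
    exact ⟨φ c, Ideal.mem_map_of_mem _ hc, rfl⟩
  let uD : D →+* P ⧸ K := S.p.liftOfSurjective S.surj ⟨_, hl⟩
  have huD : ∀ b, uD (S.p b) = Ideal.Quotient.mk K (uB b) := fun b =>
    RingHom.liftOfSurjective_comp_apply S.p S.surj ⟨_, hl⟩ b
  have wA : CommRingCat.ofHom S.f ≫ CommRingCat.ofHom (uD.comp S.q) =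
      CommRingCat.ofHom φ ≫ CommRingCat.ofHom ((Ideal.Quotient.mk K).comp v) := by
    ext c
    change uD (S.q (S.f c)) = Ideal.Quotient.mk K (v (φ c))
    rw [S.comm, huD, hPc]
  have hA := isPushout_f S S' hf hg hAD hBD
  let mA := hA.desc _ _ wA
  have hmA : ∀ c', mA.hom (S'.f c') = Ideal.Quotient.mk K (v c') :=
    fun c' => ConcreteCategory.congr_hom (hA.inr_desc _ _ wA) c'
  have wD : CommRingCat.ofHom S.q ≫ CommRingCat.ofHom uD = CommRingCat.ofHom α ≫ mA :=
    (hA.inl_desc _ _ wA).symm
  let mD := hAD.desc (CommRingCat.ofHom uD) mA wD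
  have hmDδ : ∀ d, mD.hom (δ d) = uD d :=
    fun d => ConcreteCategory.congr_hom (hAD.inl_desc _ _ wD) d
  have hmDq : ∀ a', mD.hom (S'.q a') = mA.hom a' :=
    fun a' => ConcreteCategory.congr_hom (hAD.inr_desc _ _ wD) a'
  have hfac : π ≫ CommRingCat.ofHom S'.p ≫ mD = CommRingCat.ofHom (Ideal.Quotient.mk K) := by
    apply hP.hom_ext
    · ext b
      change mD.hom (S'.p (π.hom (uB b))) = Ideal.Quotient.mk K (uB b)
      rw [hπu, show S'.p (β b) = δ (S.p b) from (ConcreteCategory.congr_hom hBD.w b).symm, hmDδ,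
        huD]
    · ext c'
      change mD.hom (S'.p (π.hom (v c'))) = Ideal.Quotient.mk K (v c')
      rw [hπv, ← S'.comm, hmDq, hmA]
  have hinj : Function.Injective π.hom := by
    rw [injective_iff_map_eq_zero]
    intro x hx
    have hxK : x ∈ K := by
      rw [← Ideal.Quotient.eq_zero_iff_mem]
      have := ConcreteCategory.congr_hom hfac x
      change mD.hom (S'.p (π.hom x)) = Ideal.Quotient.mk K x at this
      rw [← this, hx, map_zero, map_zero]
    obtain ⟨c, hc, rfl⟩ := hxK
    rw [hπv] at hx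
    have hc0 : S'.f c = 0 := RingHom.mem_ker.mp ((ker_eq_map S S' hf hg hAD hBD).ge hc)
    rw [S'.ext c 0 (hc0.trans (map_zero _).symm) (hx.trans (map_zero _).symm), map_zero]
  let e : (P : CommRingCat.{u}) ≅ CommRingCat.of B' :=
    (RingEquiv.ofBijective π.hom ⟨hinj, hsurj⟩).toCommRingCatIso
  refine hP.of_iso (Iso.refl _) (Iso.refl _) (Iso.refl _) e (by simp) (by simp) ?_ ?_
  · ext b; exact hπu b
  · ext c; exact hπv c

/-- A finite type ring map, in terms of subrings. -/
theorem exists_finset_closure {R T : Type u} [CommRing R] [CommRing T] {ψ : R →+* T}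
    (h : ψ.FiniteType) : ∃ s : Finset T, Subring.closure (Set.range ψ ∪ ↑s) = ⊤ := by
  algebraize [ψ]
  obtain ⟨s, hs⟩ := (h : Algebra.FiniteType R T).out
  refine ⟨s, eq_top_iff.mpr fun x _ => ?_⟩
  have : x ∈ Algebra.adjoin R (s : Set T) := by rw [hs]; trivial
  rwa [← Subalgebra.mem_toSubring, Algebra.adjoin_eq_ring_closure] at this

include hf hg hAD hBD in
/-- Finite type passes to the fibre product. -/
theorem finiteType_map (hα : α.FiniteType) (hβ : β.FiniteType) : φ.FiniteType := by
  classical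
  obtain ⟨sA, hsA⟩ := exists_finset_closure hα
  obtain ⟨sB, hsB⟩ := exists_finset_closure hβ
  choose lA hlA using S'.f_surj
  have hfin : ∀ b : B', ∃ T : Finset C',
      b ∈ Subring.closure (S'.g '' ↑T ∪ Set.range β) := by
    intro b
    have hb : b ∈ Subring.closure (Set.range S'.g ∪ Set.range β) := by
      rw [closure_range_eq_top S S' hAD hBD]; trivial
    induction hb using Subring.closure_induction with
    | mem x hx =>
      rcases hx with ⟨c, rfl⟩ | hx
      · exact ⟨{c}, Subring.subset_closure (Or.inl ⟨c, by simp, rfl⟩)⟩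
      · exact ⟨∅, Subring.subset_closure (Or.inr hx)⟩
    | zero => exact ⟨∅, zero_mem _⟩
    | one => exact ⟨∅, one_mem _⟩
    | neg x _ hx => exact ⟨hx.choose, neg_mem hx.choose_spec⟩
    | add x y _ _ hx hy =>
      obtain ⟨Tx, hx⟩ := hx
      obtain ⟨Ty, hy⟩ := hy
      refine ⟨Tx ∪ Ty, add_mem (Subring.closure_mono ?_ hx) (Subring.closure_mono ?_ hy)⟩ <;>
        exact Set.union_subset_union_left _ (Set.image_mono (by simp))
    | mul x y _ _ hx hy =>
      obtain ⟨Tx, hx⟩ := hx
      obtain ⟨Ty, hy⟩ := hy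
      refine ⟨Tx ∪ Ty, mul_mem (Subring.closure_mono ?_ hx) (Subring.closure_mono ?_ hy)⟩ <;>
        exact Set.union_subset_union_left _ (Set.image_mono (by simp))
  choose TB hTB using hfin
  let T : Finset C' := sA.image lA ∪ sB.biUnion TB
  set R := Subring.closure (Set.range φ ∪ (T : Set C'))
  -- `R` maps onto `A'`
  have hA : ∀ a, ∃ c ∈ R, S'.f c = a := by
    intro a
    have : a ∈ Subring.closure (Set.range α ∪ ↑sA) := by rw [hsA]; trivial
    refine Subring.closure_le (t := R.map S'.f).mpr ?_ this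
    rintro _ (⟨x, rfl⟩ | hx)
    · obtain ⟨c, rfl⟩ := S.f_surj x
      exact ⟨φ c, Subring.subset_closure (Or.inl ⟨c, rfl⟩), RingHom.congr_fun hf c⟩
    · exact ⟨lA _, Subring.subset_closure
        (Or.inr (Finset.mem_union_left _ (Finset.mem_image_of_mem _ hx))), hlA _⟩
  -- and generates `B'`
  have hB : Subring.closure (S'.g '' (R : Set C') ∪ Set.range β) = ⊤ := by
    rw [eq_top_iff, ← hsB, Subring.closure_le]
    rintro b (hb | hb)
    · exact Subring.subset_closure (Or.inr hb)
    · refine Subring.closure_mono ?_ (hTB b)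
      refine Set.union_subset_union_left _ (Set.image_mono fun c hc => ?_)
      exact Subring.subset_closure (Or.inr (Finset.mem_union_right _
        (Finset.mem_biUnion.mpr ⟨b, hb, hc⟩)))
  -- and contains the kernel
  let L := AddSubgroup.closure {c : C' | ∃ d ∈ R, ∃ jj, S.f jj = 0 ∧ c = d * φ jj}
  have hLR : ∀ c ∈ L, c ∈ R ∧ S'.f c = 0 := by
    intro c hc
    induction hc using AddSubgroup.closure_induction with
    | mem c hc =>
      obtain ⟨d, hd, jj, hj, rfl⟩ := hc
      refine ⟨mul_mem hd (Subring.subset_closure (Or.inl ⟨jj, rfl⟩)), ?_⟩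
      rw [map_mul, ← RingHom.comp_apply _ φ, hf, RingHom.comp_apply, hj, map_zero, mul_zero]
    | zero => exact ⟨zero_mem _, map_zero _⟩
    | add x y _ _ hx hy => exact ⟨add_mem hx.1 hy.1, by rw [map_add, hx.2, hy.2, add_zero]⟩
    | neg x _ hx => exact ⟨neg_mem hx.1, by rw [map_neg, hx.2, neg_zero]⟩
  have hgφ : ∀ jj, S'.g (φ jj) = β (S.g jj) := fun jj => RingHom.congr_fun hg jj
  have key : ∀ x : B', ∀ c ∈ L, ∃ c' ∈ L, S'.g c' = x * S'.g c := by
    intro x
    have hx : x ∈ Subring.closure (S'.g '' (R : Set C') ∪ Set.range β) := by rw [hB]; trivial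
    induction hx using Subring.closure_induction with
    | mem x hx =>
      intro c hc
      induction hc using AddSubgroup.closure_induction with
      | mem c hc =>
        obtain ⟨d, hd, jj, hj, rfl⟩ := hc
        rcases hx with ⟨d', hd', rfl⟩ | ⟨b, rfl⟩
        · exact ⟨d' * d * φ jj, AddSubgroup.subset_closure ⟨_, mul_mem hd' hd, jj, hj, rfl⟩,
            by rw [← map_mul, mul_assoc]⟩
        · obtain ⟨j', hj', hj''⟩ := S.exists_kerLift (b := b * S.g jj) (by
            rw [map_mul, ← S.comm, hj, map_zero, mul_zero])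
          refine ⟨d * φ j', AddSubgroup.subset_closure ⟨d, hd, j', hj', rfl⟩, ?_⟩
          rw [map_mul, map_mul, hgφ, hgφ, hj'', map_mul]
          ring
      | zero => exact ⟨0, zero_mem _, by simp⟩
      | add y z _ _ hy hz =>
        obtain ⟨y', hy', hy''⟩ := hy
        obtain ⟨z', hz', hz''⟩ := hz
        exact ⟨y' + z', add_mem hy' hz', by rw [map_add, map_add, hy'', hz'', mul_add]⟩
      | neg y _ hy =>
        obtain ⟨y', hy', hy''⟩ := hy
        exact ⟨-y', neg_mem hy', by rw [map_neg, map_neg, hy'', mul_neg]⟩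
    | zero => exact fun c _ => ⟨0, zero_mem _, by simp⟩
    | one => exact fun c hc => ⟨c, hc, by rw [one_mul]⟩
    | add x y _ _ hx hy =>
      intro c hc
      obtain ⟨x', hx', hx''⟩ := hx c hc
      obtain ⟨y', hy', hy''⟩ := hy c hc
      exact ⟨x' + y', add_mem hx' hy', by rw [map_add, hx'', hy'', add_mul]⟩
    | neg x _ hx =>
      intro c hc
      obtain ⟨x', hx', hx''⟩ := hx c hc
      exact ⟨-x', neg_mem hx', by rw [map_neg, hx'', neg_mul]⟩
    | mul x y _ _ hx hy =>
      intro c hc
      obtain ⟨y', hy', hy''⟩ := hy c hc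
      obtain ⟨x', hx', hx''⟩ := hx y' hy'
      exact ⟨x', hx', by rw [hx'', hy'', mul_assoc]⟩
  have hker : ∀ c, S'.f c = 0 → c ∈ R := by
    intro c hc
    have hcJ : c ∈ (RingHom.ker S.f).map φ := (ker_eq_map S S' hf hg hAD hBD).le hc
    clear hc
    induction hcJ using Submodule.span_induction with
    | mem y hy =>
      obtain ⟨jj, -, rfl⟩ := hy
      exact Subring.subset_closure (Or.inl ⟨jj, rfl⟩)
    | zero => exact zero_mem _
    | add y z _ _ hy hz => exact add_mem hy hz
    | smul a y hym hyR =>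
      clear hyR
      have hy0 : S'.f y = 0 := RingHom.mem_ker.mp ((ker_eq_map S S' hf hg hAD hBD).ge hym)
      -- reduce to `L`
      have hyL : ∃ c' ∈ L, S'.g c' = S'.g (a * y) := by
        clear hy0
        induction hym using Submodule.span_induction with
        | mem y hy =>
          obtain ⟨jj, hj, rfl⟩ := hy
          obtain ⟨c', hc', hc''⟩ := key (S'.g a) (1 * φ jj)
            (AddSubgroup.subset_closure ⟨1, one_mem _, jj, RingHom.mem_ker.mp hj, rfl⟩)
          exact ⟨c', hc', by rw [hc'', one_mul, map_mul]⟩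
        | zero => exact ⟨0, zero_mem _, by simp⟩
        | add y z _ _ hy hz =>
          obtain ⟨y', hy', hy''⟩ := hy
          obtain ⟨z', hz', hz''⟩ := hz
          exact ⟨y' + z', add_mem hy' hz', by rw [map_add, hy'', hz'', mul_add, map_add]⟩
        | smul a' y _ hy =>
          obtain ⟨y', hy', hy''⟩ := hy
          obtain ⟨c', hc', hc''⟩ := key (S'.g a') y' hy'
          exact ⟨c', hc', by rw [hc'', hy'', smul_eq_mul, ← map_mul]; congr 1; ring⟩
      obtain ⟨c', hc', hc''⟩ := hyL
      rw [smul_eq_mul, ← S'.ext c' (a * y) (by rw [(hLR c' hc').2, map_mul, hy0, mul_zero]) hc'']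
      exact (hLR c' hc').1
  have hR : R = ⊤ := eq_top_iff.mpr fun c _ => by
    obtain ⟨d, hd, hd'⟩ := hA (S'.f c)
    rw [← sub_add_cancel c d]
    exact add_mem (hker _ (by rw [map_sub, hd', sub_self])) hd
  algebraize [φ]
  refine (⟨⟨T, eq_top_iff.mpr fun x _ => ?_⟩⟩ : Algebra.FiniteType C C')
  rw [← Subalgebra.mem_toSubring, Algebra.adjoin_eq_ring_closure]
  change x ∈ R
  rw [hR]; trivial

end Groth.Agent.FlatMorPush
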