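import Groth.Agent.FlatMorPush.Instances
import Groth.Agent.FlatMorPush.RingMap
import Groth.Agent.Stk19b.SepQuot
import Mathlib.AlgebraicGeometry.ZariskisMainTheorem
import Mathlib.AlgebraicGeometry.QuasiAffine

/-!
# Functoriality of Ferrand pushouts for separated locally quasi-finite morphisms
-/

set_option autoImplicit false
set_option backward.isDefEq.respectTransparency.types false
set_option linter.unusedSectionVars false
universe u

open AlgebraicGeometry CategoryTheory Limits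
open Groth.Agent.KerEval

namespace Groth.Agent.FlatMorPush

/-- A quasi-compact scheme separated and quasi-finite over an affine one is quasi-affine. -/
theorem isQuasiAffine_of_lqf_affine {W V : Scheme.{u}} (w : W ⟶ V) [IsAffine V] [CompactSpace W]
    [LocallyQuasiFinite w] [LocallyOfFiniteType w] [IsSeparated w] : W.IsQuasiAffine := by
  have : QuasiCompact w := (quasiCompact_iff_compactSpace w).2 ‹_›
  have : IsAffine w.normalization := isAffine_of_isAffineHom w.fromNormalization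
  exact Scheme.IsQuasiAffine.of_isImmersion w.toNormalization

variable {X Y Z X' Y' Z' : Scheme.{u}} {i : Z ⟶ X} {j : Z ⟶ Y} [IsClosedImmersion i]
  [IsIntegralHom j] [HasPairs i j] {i' : Z' ⟶ X'} {j' : Z' ⟶ Y'} [IsClosedImmersion i']
  [IsIntegralHom j'] {f : X' ⟶ X} {g : Y' ⟶ Y} {h : Z' ⟶ Z}

/-- `k'` lies over `k`. -/
def Over' (f : X' ⟶ X) (g : Y' ⟶ Y) (k' : Pair i' j') (k : Pair i j) : Prop :=
  k'.U ≤ f ⁻¹ᵁ k.U ∧ k'.V ≤ g ⁻¹ᵁ k.V

section exists_pair

variable [IsSeparated f] [LocallyQuasiFinite f] [LocallyOfFiniteType f]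

/-- Points of `Y'` have adapted neighbourhoods over those of `Y`. -/
theorem exists_pair_over (hX : h ≫ i = i' ≫ f) (hY : h ≫ j = j' ≫ g) (k : Pair i j) (y' : Y')
    (hy' : g y' ∈ k.V) : ∃ k' : Pair i' j', Over' f g k' k ∧ y' ∈ k'.V := by
  -- a quasi-compact open containing the fibre
  have hsub : i' '' (j' ⁻¹' {y'}) ⊆ (f ⁻¹ᵁ k.U : Set X') := by
    rintro _ ⟨z, hz, rfl⟩
    show f (i' z) ∈ k.U
    rw [← Scheme.Hom.comp_apply, ← hX]
    have : j (h z) ∈ k.V := by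
      rw [← Scheme.Hom.comp_apply, hY, Scheme.Hom.comp_apply, (hz : j' z = y')]
      exact hy'
    show h z ∈ i ⁻¹ᵁ k.U
    rw [k.eq]
    exact this
  have hc : IsCompact (i' '' (j' ⁻¹' {y'})) :=
    (j'.isCompact_preimage_singleton y').image i'.continuous
  obtain ⟨Q, hQ, hsubQ, hQU⟩ : ∃ Q : X'.Opens, IsCompact (Q : Set X') ∧
      i' '' (j' ⁻¹' {y'}) ⊆ (Q : Set X') ∧ Q ≤ f ⁻¹ᵁ k.U := by
    have hb : ∀ x ∈ i' '' (j' ⁻¹' {y'}), ∃ V : X'.Opens, IsAffineOpen V ∧ x ∈ V ∧ V ≤ f ⁻¹ᵁ k.U :=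
      fun x hx => by
        obtain ⟨V, hV, hxV, hVU⟩ :=
          exists_isAffineOpen_mem_and_subset (x := x) (U := f ⁻¹ᵁ k.U) (hsub hx)
        exact ⟨V, hV, hxV, hVU⟩
    choose V hV hxV hVU using hb
    obtain ⟨t, ht⟩ := hc.elim_finite_subcover (fun x : ↥(i' '' (j' ⁻¹' {y'})) => (V x.1 x.2 : Set X'))
      (fun x => (V x.1 x.2).isOpen) (fun x hx => Set.mem_iUnion.mpr ⟨⟨x, hx⟩, hxV x hx⟩)
    refine ⟨⟨⋃ x ∈ t, (V x.1 x.2 : Set X'), isOpen_biUnion fun x _ => (V x.1 x.2).isOpen⟩,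
      t.finite_toSet.isCompact_biUnion fun x _ => (hV x.1 x.2).isCompact, ht, ?_⟩
    intro p hp
    obtain ⟨x, -, hx⟩ := Set.mem_iUnion₂.mp hp
    exact hVU x.1 x.2 hx
  -- it is quasi-affine
  have hr : Set.range (Q.ι ≫ f) ⊆ Set.range k.U.ι := by
    rw [Scheme.Opens.range_ι]
    rintro _ ⟨q, rfl⟩
    exact hQU q.2
  let l := IsOpenImmersion.lift k.U.ι _ hr
  have hl : l ≫ k.U.ι = Q.ι ≫ f := IsOpenImmersion.lift_fac _ _ hr
  have : IsSeparated (l ≫ k.U.ι) := by rw [hl]; infer_instance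
  have : IsSeparated l := IsSeparated.of_comp l k.U.ι
  have : LocallyOfFiniteType (l ≫ k.U.ι) := by rw [hl]; infer_instance
  have : LocallyOfFiniteType l := locallyOfFiniteType_of_comp l k.U.ι
  have : LocallyQuasiFinite (l ≫ k.U.ι) := by rw [hl]; infer_instance
  have : LocallyQuasiFinite l := LocallyQuasiFinite.of_comp l k.U.ι
  have : IsAffine (k.U : Scheme.{u}) := k.hU
  have : CompactSpace (Q : Scheme.{u}) := isCompact_iff_compactSpace.mp hQ
  have : (Q : Scheme.{u}).IsQuasiAffine := isQuasiAffine_of_lqf_affine l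
  let σ := (Q : Scheme.{u}).toSpecΓ
  -- shrink the target
  have hcl : IsClosed (j' '' ((i' ⁻¹ᵁ Q : Set Z'))ᶜ) :=
    j'.isClosedMap _ (i' ⁻¹ᵁ Q).isOpen.isClosed_compl
  have hy₀ : y' ∈ (g ⁻¹ᵁ k.V : Set Y') ∩ (j' '' ((i' ⁻¹ᵁ Q : Set Z'))ᶜ)ᶜ :=
    ⟨hy', by rintro ⟨z, hz, hzy⟩; exact hz (hsubQ ⟨z, hzy, rfl⟩)⟩
  obtain ⟨_, ⟨V₀, hV₀, rfl⟩, hyV₀, hV₀le⟩ := Y'.isBasis_affineOpens.exists_subset_of_mem_open hy₀
    ((g ⁻¹ᵁ k.V).isOpen.inter hcl.isOpen_compl)
  have hWQ : j' ⁻¹ᵁ V₀ ≤ i' ⁻¹ᵁ Q := fun z hz => by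
    by_contra hz'
    exact (hV₀le hz).2 ⟨z, hz', rfl⟩
  let i'' : (j' ⁻¹ᵁ V₀ : Scheme.{u}) ⟶ Spec Γ(Q, ⊤) := Z'.homOfLE hWQ ≫ (i' ∣_ Q) ≫ σ
  have hi'' : ∀ z : (j' ⁻¹ᵁ V₀ : Scheme.{u}), ∃ q : (Q : Scheme.{u}), q.1 = i' z.1 ∧ i'' z = σ q :=
    fun z => by
      refine ⟨(i' ∣_ Q) (Z'.homOfLE hWQ z), ?_, rfl⟩
      change (Z'.homOfLE hWQ ≫ (i' ∣_ Q) ≫ Q.ι) z = i' z.1
      rw [morphismRestrict_ι, Scheme.homOfLE_ι_assoc]
      rfl
  -- the open where `i''` is closed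
  let bad : Set (Q : Scheme.{u}) := Subtype.val ⁻¹' (i' '' ((j' ⁻¹ᵁ V₀ : Set Z'))ᶜ)
  have hbad : IsClosed bad := (i'.isClosedEmbedding.isClosedMap _
    (j' ⁻¹ᵁ V₀).isOpen.isClosed_compl).preimage continuous_subtype_val
  let O : (Spec Γ(Q, ⊤)).Opens := ⟨σ '' badᶜ, σ.isOpenEmbedding.isOpenMap _ hbad.isOpen_compl⟩
  have : IsClosedImmersion (i'' ∣_ O) := by
    have hpre : IsPreimmersion i'' := by dsimp only [i'']; infer_instance
    have : IsPreimmersion (i'' ∣_ O) := IsZariskiLocalAtTarget.restrict hpre O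
    refine IsClosedImmersion.of_isPreimmersion _ ?_
    let C : Set (Q : Scheme.{u}) := Subtype.val ⁻¹' Set.range i'
    have hC : IsClosed C := i'.isClosedEmbedding.isClosed_range.preimage continuous_subtype_val
    have hrange : Set.range (i'' ∣_ O) = O.ι ⁻¹' (σ '' Cᶜ)ᶜ := by
      ext p
      constructor
      · rintro ⟨z, rfl⟩ ⟨q, hq, hqz⟩
        rw [← Scheme.Hom.comp_apply, morphismRestrict_ι, Scheme.Hom.comp_apply] at hqz
        obtain ⟨q', hq', hq''⟩ := hi'' ((i'' ⁻¹ᵁ O).ι z)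
        rw [hq''] at hqz
        exact hq (σ.isOpenEmbedding.injective hqz ▸ ⟨_, hq'.symm⟩)
      · intro hp
        obtain ⟨q, hq, hqp⟩ := p.2
        have hqC : q ∈ C := by
          by_contra hqC
          exact hp ⟨q, hqC, hqp⟩
        obtain ⟨z, hz⟩ := hqC
        have hzV : z ∈ j' ⁻¹ᵁ V₀ := by
          by_contra hzV
          exact hq ⟨z, hzV, hz⟩
        obtain ⟨q', hq', hq''⟩ := hi'' ⟨z, hzV⟩
        have hqq : q' = q := Subtype.ext (hq'.trans hz)
        have hmem : i'' ⟨z, hzV⟩ ∈ O := by rw [hq'', hqq, hqp]; exact p.2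
        refine ⟨⟨⟨z, hzV⟩, hmem⟩, Subtype.ext ?_⟩
        change ((i'' ∣_ O) ≫ O.ι) ⟨⟨z, hzV⟩, hmem⟩ = p.1
        rw [morphismRestrict_ι, Scheme.Hom.comp_apply]
        change i'' ⟨z, hzV⟩ = p.1
        rw [hq'', hqq, hqp]
    rw [hrange]
    exact ((σ.isOpenEmbedding.isOpenMap _ hC.isOpen_compl).preimage O.ι.continuous).isClosed_compl
  have hfib : (j' ∣_ V₀) ⁻¹' {⟨y', hyV₀⟩} ⊆ (i'' ⁻¹ᵁ O : Set _) := by
    intro z hz
    have hzy : j' z.1 = y' := by
      change ((j' ⁻¹ᵁ V₀).ι ≫ j') z = y'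
      rw [← morphismRestrict_ι, Scheme.Hom.comp_apply, (hz : (j' ∣_ V₀) z = _)]
      rfl
    obtain ⟨q, hq, hq'⟩ := hi'' z
    refine ⟨q, ?_, hq'.symm⟩
    rintro ⟨z', hz', hqz'⟩
    rw [hq] at hqz'
    exact hz' (i'.isClosedEmbedding.injective hqz' ▸ z.2)
  obtain ⟨U, V, hU, hV, hUO, -, hyV, he⟩ := exists_adaptedOpens_of_restrict i'' (j' ∣_ V₀)
    (isAffineOpen_top _) (O := O) le_top ⊤ (y := ⟨y', hyV₀⟩) trivial hfib
  have hUσ : U ≤ σ.opensRange := fun p hp => by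
    obtain ⟨q, -, hq⟩ := hUO hp
    exact ⟨q, hq⟩
  refine ⟨⟨Q.ι ''ᵁ σ ⁻¹ᵁ U, (Scheme.Opens.ι (X := Y') V₀) ''ᵁ V, (hU.preimage_of_isOpenImmersion σ hUσ).image_of_isOpenImmersion _,
    hV.image_of_isOpenImmersion _, ?_⟩, ⟨?_, ?_⟩, ⟨⟨y', hyV₀⟩, hyV, rfl⟩⟩
  · ext z
    constructor
    · rintro ⟨q, hq, hqz⟩
      obtain ⟨q₁, hq₁, hq₁'⟩ := hUO hq
      have hzV : z ∈ j' ⁻¹ᵁ V₀ := by
        by_contra hzV
        rw [σ.isOpenEmbedding.injective hq₁'] at hq₁
        exact hq₁ ⟨z, hzV, hqz.symm⟩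
      obtain ⟨q', hq', hq''⟩ := hi'' ⟨z, hzV⟩
      have : (⟨z, hzV⟩ : (j' ⁻¹ᵁ V₀ : Scheme.{u})) ∈ i'' ⁻¹ᵁ U := by
        show i'' _ ∈ U
        rw [hq'', show q' = q from Subtype.ext (hq'.trans hqz.symm)]
        exact hq
      rw [he] at this
      refine ⟨(j' ∣_ V₀) ⟨z, hzV⟩, this, ?_⟩
      change ((j' ∣_ V₀) ≫ (Scheme.Opens.ι (X := Y') V₀)) ⟨z, hzV⟩ = j' z
      rw [morphismRestrict_ι]
      rfl
    · rintro ⟨v, hv, hvz⟩
      have hzV : z ∈ j' ⁻¹ᵁ V₀ := show j' z ∈ V₀ from hvz ▸ v.2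
      have : (⟨z, hzV⟩ : (j' ⁻¹ᵁ V₀ : Scheme.{u})) ∈ (j' ∣_ V₀) ⁻¹ᵁ V := by
        show (j' ∣_ V₀) _ ∈ V
        have hvv : (j' ∣_ V₀) ⟨z, hzV⟩ = v := Subtype.ext (by
          change ((j' ∣_ V₀) ≫ (Scheme.Opens.ι (X := Y') V₀)) ⟨z, hzV⟩ = v.1
          rw [morphismRestrict_ι]
          exact hvz.symm)
        rw [hvv]; exact hv
      rw [← he] at this
      obtain ⟨q', hq', hq''⟩ := hi'' ⟨z, hzV⟩
      exact ⟨q', show σ q' ∈ U from hq'' ▸ this, hq'⟩
  · rintro _ ⟨q, -, rfl⟩; exact hQU q.2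
  · rintro _ ⟨v, -, rfl⟩; exact (hV₀le v.2).1

theorem hasPairs' (hX : h ≫ i = i' ≫ f) (hY : h ≫ j = j' ≫ g) : HasPairs i' j' := by
  refine hasPairs_of_integral i' j' fun y' => ?_
  obtain ⟨k, hk⟩ := HasPairs.cover (i := i) (j := j) (g y')
  obtain ⟨k', -, hk'⟩ := exists_pair_over hX hY k y' hk
  exact ⟨k'.U, k'.hU, fun z hz => show z ∈ i' ⁻¹ᵁ k'.U from
    k'.eq ▸ show j' z ∈ k'.V from (hz : j' z = y') ▸ hk'⟩

end exists_pair

variable [HasPairs i' j'] (hX : IsPullback h i' i f) (hY : IsPullback h j' j g)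

/-- The induced morphism of pushouts. -/
noncomputable def poMap : Po i' j' ⟶ Po i j :=
  (isPushout i' j').desc (f ≫ inl i j) (g ≫ inr i j) (by
    rw [← Category.assoc, ← hX.w, ← Category.assoc, ← hY.w, Category.assoc, condition,
      Category.assoc])

lemma inl_poMap : inl i' j' ≫ poMap hX hY = f ≫ inl i j := (isPushout i' j').inl_desc ..
lemma inr_poMap : inr i' j' ≫ poMap hX hY = g ≫ inr i j := (isPushout i' j').inr_desc ..

section chart

variable {k : Pair i j} {k' : Pair i' j'} (ho : Over' f g k' k)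

include hY ho in
lemma preimage_le : j' ⁻¹ᵁ k'.V ≤ h ⁻¹ᵁ (j ⁻¹ᵁ k.V) := by
  intro z hz
  have := ho.2 hz
  show (h ≫ j) z ∈ k.V
  rw [hY.w]
  exact this

/-- `Γ(Y, V) → Γ(Y', V')` -/
noncomputable def mA : Γ(Y, k.V) →+* Γ(Y', k'.V) := (g.appLE k.V k'.V ho.2).hom

/-- `Γ(X, U) → Γ(X', U')` -/
noncomputable def mB : Γ(X, k.U) →+* Γ(X', k'.U) := (f.appLE k.U k'.U ho.1).hom

/-- `Γ(Z, W) → Γ(Z', W')` -/
noncomputable def mD : Γ(Z, j ⁻¹ᵁ k.V) →+* Γ(Z', j' ⁻¹ᵁ k'.V) :=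
  (h.appLE _ _ (preimage_le hY ho)).hom

lemma mA_fromSpec : sp (mA ho) ≫ k.hV.fromSpec = k'.hV.fromSpec ≫ g :=
  IsAffineOpen.SpecMap_appLE_fromSpec g k.hV k'.hV ho.2

lemma mB_fromSpec : sp (mB ho) ≫ k.hU.fromSpec = k'.hU.fromSpec ≫ f :=
  IsAffineOpen.SpecMap_appLE_fromSpec f k.hU k'.hU ho.1

lemma mD_fromSpec : sp (mD hY ho) ≫ k.hW.fromSpec = k'.hW.fromSpec ≫ h :=
  IsAffineOpen.SpecMap_appLE_fromSpec h k.hW k'.hW (preimage_le hY ho)

include hY in
lemma sp_mA_q : sp k'.sq.q ≫ sp (mA ho) = sp (mD hY ho) ≫ sp k.sq.q := by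
  rw [← cancel_mono k.hV.fromSpec, Category.assoc, Category.assoc, mA_fromSpec, k.sp_q,
    ← Category.assoc, k'.sp_q, ← Category.assoc, mD_fromSpec, Category.assoc, Category.assoc, hY.w]

include hX hY in
lemma sp_mB_p : sp k'.sq.p ≫ sp (mB ho) = sp (mD hY ho) ≫ sp k.sq.p := by
  rw [← cancel_mono k.hU.fromSpec, Category.assoc, Category.assoc, mB_fromSpec, k.sp_p,
    ← Category.assoc, k'.sp_p, ← Category.assoc, mD_fromSpec, Category.assoc, Category.assoc, hX.w]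

lemma opensRange_fromSpec' {T : Scheme.{u}} {U : T.Opens} (hU : IsAffineOpen U) :
    hU.fromSpec.opensRange = U := TopologicalSpace.Opens.ext hU.range_fromSpec

include hY in
lemma isPushout_mA : IsPushout (CommRingCat.ofHom k.sq.q) (CommRingCat.ofHom (mA ho))
    (CommRingCat.ofHom (mD hY ho)) (CommRingCat.ofHom k'.sq.q) := by
  have h1 : IsPullback (sp k'.sq.q) k'.hW.fromSpec k'.hV.fromSpec j' :=
    IsOpenImmersion.isPullback _ _ _ _ k'.sp_q.symm (by rw [opensRange_fromSpec', opensRange_fromSpec'])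
  have h2 : IsPullback (sp k.sq.q) k.hW.fromSpec k.hV.fromSpec j :=
    IsOpenImmersion.isPullback _ _ _ _ k.sp_q.symm (by rw [opensRange_fromSpec', opensRange_fromSpec'])
  have h3 := h1.paste_vert hY.flip
  rw [← mA_fromSpec ho, ← mD_fromSpec hY ho] at h3
  have h4 : IsPullback (sp k'.sq.q) (sp (mD hY ho)) (sp (mA ho)) (sp k.sq.q) :=
    IsPullback.of_bot h3 (sp_mA_q hY ho) h2
  exact (IsPullback.of_map Scheme.Spec (f := (CommRingCat.ofHom k'.sq.q).op)
    (g := (CommRingCat.ofHom (mD hY ho)).op) (h := (CommRingCat.ofHom (mA ho)).op)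
    (i := (CommRingCat.ofHom k.sq.q).op)
    (congrArg Quiver.Hom.op (Spec.map_injective (by rw [Spec.map_comp, Spec.map_comp]; exact sp_mA_q hY ho)))
    h4).unop

include hX hY in
lemma isPushout_mB : IsPushout (CommRingCat.ofHom k.sq.p) (CommRingCat.ofHom (mB ho))
    (CommRingCat.ofHom (mD hY ho)) (CommRingCat.ofHom k'.sq.p) := by
  have h1 : IsPullback (sp k'.sq.p) k'.hW.fromSpec k'.hU.fromSpec i' :=
    IsOpenImmersion.isPullback _ _ _ _ k'.sp_p.symm
      (by rw [opensRange_fromSpec', opensRange_fromSpec', k'.eq])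
  have h2 : IsPullback (sp k.sq.p) k.hW.fromSpec k.hU.fromSpec i :=
    IsOpenImmersion.isPullback _ _ _ _ k.sp_p.symm
      (by rw [opensRange_fromSpec', opensRange_fromSpec', k.eq])
  have h3 := h1.paste_vert hX.flip
  rw [← mB_fromSpec ho, ← mD_fromSpec hY ho] at h3
  have h4 : IsPullback (sp k'.sq.p) (sp (mD hY ho)) (sp (mB ho)) (sp k.sq.p) :=
    IsPullback.of_bot h3 (sp_mB_p hX hY ho) h2
  exact (IsPullback.of_map Scheme.Spec (f := (CommRingCat.ofHom k'.sq.p).op)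
    (g := (CommRingCat.ofHom (mD hY ho)).op) (h := (CommRingCat.ofHom (mB ho)).op)
    (i := (CommRingCat.ofHom k.sq.p).op)
    (congrArg Quiver.Hom.op (Spec.map_injective (by rw [Spec.map_comp, Spec.map_comp]; exact sp_mB_p hX hY ho)))
    h4).unop

include hX hY in
lemma chart_compat : k'.sq.q.comp ((mA ho).comp k.sq.f) = k'.sq.p.comp ((mB ho).comp k.sq.g) :=
  RingHom.ext fun c => by
    have h1 : k'.sq.q (mA ho (k.sq.f c)) = mD hY ho (k.sq.q (k.sq.f c)) :=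
      (ConcreteCategory.congr_hom (isPushout_mA hY ho).w (k.sq.f c)).symm
    have h2 : k'.sq.p (mB ho (k.sq.g c)) = mD hY ho (k.sq.p (k.sq.g c)) :=
      (ConcreteCategory.congr_hom (isPushout_mB hX hY ho).w (k.sq.g c)).symm
    simp only [RingHom.comp_apply]
    rw [h1, h2, k.sq.comm]

/-- The map of chart rings. -/
noncomputable def mC : k.C →+* k'.C :=
  k'.sq.lift ((mA ho).comp k.sq.f) ((mB ho).comp k.sq.g) (chart_compat hX hY ho)

lemma f_mC : k'.sq.f.comp (mC hX hY ho) = (mA ho).comp k.sq.f := Sq.f_comp_lift ..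
lemma g_mC : k'.sq.g.comp (mC hX hY ho) = (mB ho).comp k.sq.g := Sq.g_comp_lift ..

lemma ι_poMap : ι k' ≫ poMap hX hY = sp (mC hX hY ho) ≫ ι k := by
  refine k'.sq.hom_ext _ _ ?_ ?_
  · rw [← Category.assoc, ← fromSpec_inr, Category.assoc, inr_poMap, ← Category.assoc,
      ← mA_fromSpec ho, Category.assoc, fromSpec_inr, ← Category.assoc, ← Category.assoc, ← sp_comp,
      ← sp_comp, f_mC]
  · rw [← Category.assoc, ← fromSpec_inl, Category.assoc, inl_poMap, ← Category.assoc,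
      ← mB_fromSpec ho, Category.assoc, fromSpec_inl, ← Category.assoc, ← Category.assoc, ← sp_comp,
      ← sp_comp, g_mC]

lemma isPullback_chart_f :
    IsPullback (sp k'.sq.f) (sp (mA ho)) (sp (mC hX hY ho)) (sp k.sq.f) :=
  (isPullback_SpecMap_of_isPushout _ _ _ _ (isPushout_f k.sq k'.sq (f_mC hX hY ho) (g_mC hX hY ho)
    (isPushout_mA hY ho) (isPushout_mB hX hY ho))).flip

lemma isPullback_chart_g :
    IsPullback (sp k'.sq.g) (sp (mB ho)) (sp (mC hX hY ho)) (sp k.sq.g) :=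
  (isPullback_SpecMap_of_isPushout _ _ _ _ (isPushout_g k.sq k'.sq (f_mC hX hY ho) (g_mC hX hY ho)
    (isPushout_mA hY ho) (isPushout_mB hX hY ho))).flip

lemma locallyOfFiniteType_mC [LocallyOfFiniteType f] [LocallyOfFiniteType g] :
    LocallyOfFiniteType (sp (mC hX hY ho)) :=
  HasRingHomProperty.Spec_iff.mpr (finiteType_map k.sq k'.sq (f_mC hX hY ho) (g_mC hX hY ho)
    (isPushout_mA hY ho) (isPushout_mB hX hY ho)
    (HasRingHomProperty.appLE @LocallyOfFiniteType g inferInstance ⟨k.V, k.hV⟩ ⟨k'.V, k'.hV⟩ ho.2)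
    (HasRingHomProperty.appLE @LocallyOfFiniteType f inferInstance ⟨k.U, k.hU⟩ ⟨k'.U, k'.hU⟩ ho.1))

lemma locallyQuasiFinite_mC [LocallyOfFiniteType f] [LocallyOfFiniteType g]
    [LocallyQuasiFinite f] [LocallyQuasiFinite g] :
    LocallyQuasiFinite (sp (mC hX hY ho)) := by
  have := locallyOfFiniteType_mC hX hY ho
  have : LocallyQuasiFinite (sp (mA ho) ≫ k.hV.fromSpec) := by rw [mA_fromSpec]; infer_instance
  have : LocallyQuasiFinite (sp (mA ho)) := LocallyQuasiFinite.of_comp _ k.hV.fromSpec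
  have : LocallyQuasiFinite (sp (mB ho) ≫ k.hU.fromSpec) := by rw [mB_fromSpec]; infer_instance
  have : LocallyQuasiFinite (sp (mB ho)) := LocallyQuasiFinite.of_comp _ k.hU.fromSpec
  refine LocallyQuasiFinite.of_finite_preimage_singleton _ fun w => ?_
  have hA : (sp k.sq.f ⁻¹' {w}).Finite :=
    (Set.subsingleton_singleton.preimage
      (PrimeSpectrum.comap_injective_of_surjective _ k.sq.f_surj)).finite
  have hB : (sp k.sq.g ⁻¹' {w} \ Set.range (sp k.sq.p)).Finite :=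
    (show Set.Subsingleton (sp k.sq.g ⁻¹' {w} \ Set.range (sp k.sq.p)) from
      fun x hx x' hx' => k.sq.eq_of_comap_g_eq
        ((hx.1 : sp k.sq.g x = w).trans (hx'.1 : sp k.sq.g x' = w).symm) hx.2).finite
  refine (((sp (mA ho)).finite_preimage hA).image (sp k'.sq.f) |>.union
    (((sp (mB ho)).finite_preimage hB).image (sp k'.sq.g))).subset ?_
  intro w' hw'
  rcases k'.sq.exists_point w' with ⟨y', rfl⟩ | ⟨-, -, -, x', rfl⟩
  · refine Or.inl ⟨y', ?_, rfl⟩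
    show sp k.sq.f (sp (mA ho) y') = w
    rw [← Scheme.Hom.comp_apply, ← (isPullback_chart_f hX hY ho).w]
    exact hw'
  · have hx : sp k.sq.g (sp (mB ho) x') = w := by
      rw [← Scheme.Hom.comp_apply, ← (isPullback_chart_g hX hY ho).w]
      exact hw'
    by_cases hz : sp (mB ho) x' ∈ Set.range (sp k.sq.p)
    · obtain ⟨z, hz⟩ := hz
      -- then `x'` comes from `Z'`
      have hpb : IsPullback (sp k'.sq.p) (sp (mD hY ho)) (sp (mB ho)) (sp k.sq.p) :=
        (isPullback_SpecMap_of_isPushout _ _ _ _ (isPushout_mB hX hY ho)).flip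
      obtain ⟨z', hz', -⟩ : ∃ z', sp k'.sq.p z' = x' ∧ sp (mD hY ho) z' = z := by
        obtain ⟨t, ht1, ht2⟩ := Scheme.Pullback.exists_preimage_pullback (f := sp (mB ho))
          (g := sp k.sq.p) x' z hz.symm
        refine ⟨hpb.isoPullback.inv t, ?_, ?_⟩
        · rw [← Scheme.Hom.comp_apply, hpb.isoPullback_inv_fst]; exact ht1
        · rw [← Scheme.Hom.comp_apply, hpb.isoPullback_inv_snd]; exact ht2
      refine Or.inl ⟨sp k'.sq.q z', ?_, ?_⟩
      · show sp k.sq.f (sp (mA ho) (sp k'.sq.q z')) = w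
        rw [← Scheme.Hom.comp_apply (sp (mA ho)), ← (isPullback_chart_f hX hY ho).w,
          Scheme.Hom.comp_apply]
        rw [show sp k'.sq.f (sp k'.sq.q z') = sp k'.sq.g (sp k'.sq.p z') from
          k'.sq.comap_q_comap_f z', hz']
        exact hw'
      · rw [← hz']
        exact k'.sq.comap_q_comap_f z'
    · exact Or.inr ⟨x', ⟨hx, hz⟩, rfl⟩

end chart

section global

variable (f g) in
/-- pairs upstairs over pairs downstairs -/
def SubPair (i : Z ⟶ X) (j : Z ⟶ Y) (i' : Z' ⟶ X') (j' : Z' ⟶ Y') : Type u :=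
  { p : Pair i' j' × Pair i j // Over' f g p.1 p.2 }

variable [IsSeparated f] [LocallyQuasiFinite f] [LocallyOfFiniteType f]

include hX hY in
lemma exists_subPair (w : Po i' j') :
    ∃ p : SubPair f g i j i' j', w ∈ Set.range (ι p.1.1) := by
  obtain ⟨k₀, w₀, rfl⟩ := exists_mem_range w
  have hY' : ∀ y' : Y', ∃ p : SubPair f g i j i' j', inr i' j' y' ∈ Set.range (ι p.1.1) := by
    intro y'
    obtain ⟨k, hk⟩ := HasPairs.cover (i := i) (j := j) (g y')
    obtain ⟨k', hk', hy'⟩ := exists_pair_over hX.w hY.w k y' hk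
    exact ⟨⟨(k', k), hk'⟩, inr_mem_range_ι.mpr hy'⟩
  rcases k₀.sq.exists_point w₀ with ⟨y, rfl⟩ | ⟨-, -, -, x, rfl⟩
  · change ∃ p : SubPair f g i j i' j', ι k₀ (sp k₀.sq.f y) ∈ _
    rw [← Scheme.Hom.comp_apply, ← fromSpec_inr, Scheme.Hom.comp_apply]
    exact hY' _
  · change ∃ p : SubPair f g i j i' j', ι k₀ (sp k₀.sq.g x) ∈ _
    rw [← Scheme.Hom.comp_apply, ← fromSpec_inl, Scheme.Hom.comp_apply]
    set x' := k₀.hU.fromSpec x
    by_cases hx : x' ∈ Set.range i'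
    · obtain ⟨z, hz⟩ := hx
      rw [← hz, ← Scheme.Hom.comp_apply, condition, Scheme.Hom.comp_apply]
      exact hY' _
    · obtain ⟨k, hk⟩ := Pair.cover_X i j (f x')
      obtain ⟨k', hk', hle, hV⟩ := exists_away i' j' (f ⁻¹ᵁ k.U) (x := x') hk hx
      exact ⟨⟨(k', k), hle, show k'.V ≤ _ from hV ▸ bot_le⟩, inl_mem_range_ι.mpr hk'⟩

/-- the covering by charts over charts -/
noncomputable def subCover : (Po i' j').OpenCover where
  I₀ := SubPair f g i j i' j'
  X p := p.1.1.obj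
  f p := ι p.1.1
  mem₀ := by
    rw [Scheme.presieve₀_mem_precoverage_iff]
    exact ⟨exists_subPair hX hY, fun p => inferInstanceAs (IsOpenImmersion (ι p.1.1))⟩

theorem isPullback_inr_poMap : IsPullback g (inr i' j') (inr i j) (poMap hX hY) := by
  refine (Scheme.isPullback_of_openCover (inr i' j') g (poMap hX hY) (inr i j) (subCover hX hY)
    fun p => ?_).flip
  have h := (isPullback_chart_f hX hY p.2).paste_vert (isPullback_inr p.1.2)
  rw [← ι_poMap hX hY p.2, mA_fromSpec] at h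
  refine h.of_iso ((isPullback_inr p.1.1).flip.isoPullback) (Iso.refl _) (Iso.refl _) (Iso.refl _)
    ?_ ?_ (by simp; rfl) (by simp)
  · exact (Category.comp_id _).trans (isPullback_inr p.1.1).flip.isoPullback_hom_snd.symm
  · exact (Category.comp_id _).trans ((congrArg (· ≫ g)
      (isPullback_inr p.1.1).flip.isoPullback_hom_fst.symm).trans (Category.assoc _ _ _))

theorem isPullback_inl_poMap : IsPullback f (inl i' j') (inl i j) (poMap hX hY) := by
  refine (Scheme.isPullback_of_openCover (inl i' j') f (poMap hX hY) (inl i j) (subCover hX hY)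
    fun p => ?_).flip
  have h := (isPullback_chart_g hX hY p.2).paste_vert (isPullback_inl p.1.2)
  rw [← ι_poMap hX hY p.2, mB_fromSpec] at h
  refine h.of_iso ((isPullback_inl p.1.1).flip.isoPullback) (Iso.refl _) (Iso.refl _) (Iso.refl _)
    ?_ ?_ (by simp; rfl) (by simp)
  · exact (Category.comp_id _).trans (isPullback_inl p.1.1).flip.isoPullback_hom_snd.symm
  · exact (Category.comp_id _).trans ((congrArg (· ≫ f)
      (isPullback_inl p.1.1).flip.isoPullback_hom_fst.symm).trans (Category.assoc _ _ _))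

theorem locallyOfFiniteType_poMap [LocallyOfFiniteType g] :
    LocallyOfFiniteType (poMap hX hY) := by
  rw [IsZariskiLocalAtSource.iff_of_openCover (P := @LocallyOfFiniteType) (subCover hX hY)]
  intro p
  change LocallyOfFiniteType (ι p.1.1 ≫ poMap hX hY)
  rw [ι_poMap hX hY p.2]
  have := locallyOfFiniteType_mC hX hY p.2
  infer_instance

theorem locallyQuasiFinite_poMap [LocallyOfFiniteType g] [LocallyQuasiFinite g] :
    LocallyQuasiFinite (poMap hX hY) := by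
  rw [IsZariskiLocalAtSource.iff_of_openCover (P := @LocallyQuasiFinite) (subCover hX hY)]
  intro p
  change LocallyQuasiFinite (ι p.1.1 ≫ poMap hX hY)
  rw [ι_poMap hX hY p.2]
  have := locallyQuasiFinite_mC hX hY p.2
  infer_instance

end global

/-- `X ⨿ Y → Po` is surjective. -/
theorem surjective_coprod : Surjective (coprod.desc (inl i j) (inr i j)) := by
  refine ⟨fun w => ?_⟩
  obtain ⟨k, w₀, rfl⟩ := exists_mem_range w
  rcases k.sq.exists_point w₀ with ⟨y, rfl⟩ | ⟨-, -, -, x, rfl⟩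
  · refine ⟨(coprod.inr : Y ⟶ X ⨿ Y) (k.hV.fromSpec y), ?_⟩
    change (k.hV.fromSpec ≫ coprod.inr ≫ coprod.desc (inl i j) (inr i j)) y = (sp k.sq.f ≫ ι k) y
    rw [coprod.inr_desc, fromSpec_inr]
  · refine ⟨(coprod.inl : X ⟶ X ⨿ Y) (k.hU.fromSpec x), ?_⟩
    change (k.hU.fromSpec ≫ coprod.inl ≫ coprod.desc (inl i j) (inr i j)) x = (sp k.sq.g ≫ ι k) x
    rw [coprod.inl_desc, fromSpec_inl]

end Groth.Agent.FlatMorPush

namespace Groth.Agent.FlatMorPush

/-- `X' ⨿ Y' → T` is separated when both components are. -/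
theorem isSeparated_coprod_desc {A B T : Scheme.{u}} (a : A ⟶ T) (b : B ⟶ T) [IsSeparated a]
    [IsSeparated b] : IsSeparated (coprod.desc a b) := by
  have : coprod.desc a b = coprod.map a b ≫ coprod.desc (𝟙 T) (𝟙 T) := by simp
  rw [this]
  have : IsSeparated (coprod.map a b) := IsZariskiLocalAtTarget.coprodMap a b ‹_› ‹_›
  infer_instance

variable {X Y Z : Scheme.{u}} {i : Z ⟶ X} {j : Z ⟶ Y} [IsClosedImmersion i] [IsIntegralHom j]
  [HasPairs i j]

/-- A morphism out of the pushout is separated when its components are. -/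
theorem isSeparated_of_components {T : Scheme.{u}} (r : Po i j ⟶ T)
    [IsSeparated (inl i j ≫ r)] [IsSeparated (inr i j ≫ r)] : IsSeparated r := by
  have := isIntegralHom_inl i j
  have := isClosedImmersion_inr i j
  have := surjective_coprod (i := i) (j := j)
  have : IsSeparated (coprod.desc (inl i j) (inr i j) ≫ r) := by
    rw [coprod.desc_comp]; exact isSeparated_coprod_desc _ _
  exact Stk19b.SepQuot.isSeparated_of_comp (coprod.desc (inl i j) (inr i j)) r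

end Groth.Agent.FlatMorPush
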