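import Groth.Agent.FlatMorPush.ChartMap
import Mathlib.AlgebraicGeometry.Gluing
import Mathlib.AlgebraicGeometry.Limits
import Mathlib.AlgebraicGeometry.Morphisms.Affine

/-!
# Ferrand pushouts by gluing affine charts
-/

set_option autoImplicit false
set_option backward.isDefEq.respectTransparency.types false
set_option linter.unusedSectionVars false
universe u

open AlgebraicGeometry CategoryTheory Limits PrimeSpectrum
open Groth.Agent.KerEval

namespace Groth.Agent.FlatMorPush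

/-- Glue compatible morphisms on an open covering. -/
theorem exists_glue {T P : Scheme.{u}} {ι : Type u} (U : ι → T.Opens) (hcov : ∀ x, ∃ k, x ∈ U k)
    (f : ∀ k, (U k : Scheme.{u}) ⟶ P)
    (hf : ∀ k l x, x ∈ U k → x ∈ U l → ∃ (W : T.Opens) (hk : W ≤ U k) (hl : W ≤ U l),
      x ∈ W ∧ T.homOfLE hk ≫ f k = T.homOfLE hl ≫ f l) :
    ∃ g : T ⟶ P, ∀ k, (U k).ι ≫ g = f k := by
  let 𝒰 : T.OpenCover :=
    { I₀ := ι
      X := fun k => (U k : Scheme.{u})
      f := fun k => (U k).ι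
      mem₀ := by
        rw [Scheme.presieve₀_mem_precoverage_iff]
        exact ⟨fun x => by obtain ⟨k, hk⟩ := hcov x; exact ⟨k, ⟨x, hk⟩, rfl⟩,
          fun k => inferInstanceAs (IsOpenImmersion (U k).ι)⟩ }
  have h : ∀ k l, pullback.fst (U k).ι (U l).ι ≫ f k = pullback.snd _ _ ≫ f l := by
    intro k l
    refine Scheme.hom_ext_of_forall _ _ fun p => ?_
    let x := (U k).ι (pullback.fst (U k).ι (U l).ι p)
    have hxk : x ∈ U k := (pullback.fst (U k).ι (U l).ι p).2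
    have hxl : x ∈ U l := by
      show (pullback.fst (U k).ι (U l).ι ≫ (U k).ι) p ∈ U l
      rw [pullback.condition]
      exact (pullback.snd (U k).ι (U l).ι p).2
    obtain ⟨W, hk, hl, hxW, he⟩ := hf k l x hxk hxl
    let O : (pullback (U k).ι (U l).ι).Opens := (pullback.fst _ _ ≫ (U k).ι) ⁻¹ᵁ W
    refine ⟨O, hxW, ?_⟩
    have hr : Set.range (O.ι ≫ pullback.fst _ _ ≫ (U k).ι) ⊆ Set.range W.ι := by
      rw [Scheme.Opens.range_ι]
      rintro _ ⟨y, rfl⟩
      exact y.2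
    let t := IsOpenImmersion.lift W.ι _ hr
    have h1 : O.ι ≫ pullback.fst _ _ = t ≫ T.homOfLE hk := by
      rw [← cancel_mono (U k).ι, Category.assoc, Category.assoc, Scheme.homOfLE_ι,
        IsOpenImmersion.lift_fac]
    have h2 : O.ι ≫ pullback.snd _ _ = t ≫ T.homOfLE hl := by
      rw [← cancel_mono (U l).ι, Category.assoc, Category.assoc, Scheme.homOfLE_ι,
        IsOpenImmersion.lift_fac, pullback.condition]
    rw [← Category.assoc, h1, Category.assoc, he, ← Category.assoc, ← h2, Category.assoc]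
  exact ⟨𝒰.glueMorphisms f h, fun k => 𝒰.ι_glueMorphisms f h k⟩

variable {X Y Z : Scheme.{u}} (i : Z ⟶ X) (j : Z ⟶ Y)

/-- Affine opens of `X` and `Y` with the same preimage in `Z`. -/
@[ext]
structure Pair where
  U : X.Opens
  V : Y.Opens
  hU : IsAffineOpen U
  hV : IsAffineOpen V
  eq : i ⁻¹ᵁ U = j ⁻¹ᵁ V

instance : PartialOrder (Pair i j) :=
  PartialOrder.lift (fun k : Pair i j => (k.U, k.V)) fun k l h => by
    obtain ⟨h1, h2⟩ := Prod.mk.injEq .. ▸ h
    exact Pair.ext h1 h2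

/-- There are enough pairs. -/
class HasPairs : Prop where
  cover : ∀ y, ∃ k : Pair i j, y ∈ k.V
  dir : ∀ (k l : Pair i j) (y : Y), y ∈ k.V → y ∈ l.V → ∃ m, m ≤ k ∧ m ≤ l ∧ y ∈ m.V

variable [IsClosedImmersion i]

/-- The pair of an affine open of `X` not meeting `Z`. -/
def Pair.away (U : X.Opens) (hU : IsAffineOpen U) (h : ∀ z, i z ∉ U) : Pair i j where
  U := U
  V := ⊥
  hU := hU
  hV := isAffineOpen_bot Y
  eq := TopologicalSpace.Opens.ext (Set.ext fun z => ⟨fun hz => (h z hz).elim, fun hz => hz.elim⟩)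

lemma exists_away (O : X.Opens) {x : X} (hx : x ∈ O) (h : x ∉ Set.range i) :
    ∃ m : Pair i j, x ∈ m.U ∧ m.U ≤ O ∧ m.V = ⊥ := by
  obtain ⟨_, ⟨U, hU, rfl⟩, hxU, hUO⟩ := X.isBasis_affineOpens.exists_subset_of_mem_open
    (show x ∈ (O : Set X) ∩ (Set.range i)ᶜ from ⟨hx, h⟩)
    (O.isOpen.inter i.isClosedEmbedding.isClosed_range.isOpen_compl)
  exact ⟨Pair.away i j U hU fun z hz => (hUO hz).2 ⟨z, rfl⟩, hxU, fun y hy => (hUO hy).1, rfl⟩

section

variable [HasPairs i j]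

lemma Pair.cover_X (x : X) : ∃ k : Pair i j, x ∈ k.U := by
  by_cases hx : x ∈ Set.range i
  · obtain ⟨z, rfl⟩ := hx
    obtain ⟨k, hk⟩ := HasPairs.cover (i := i) (j := j) (j z)
    exact ⟨k, show z ∈ i ⁻¹ᵁ k.U from k.eq ▸ hk⟩
  · obtain ⟨k, hk, -, -⟩ := exists_away i j ⊤ (x := x) trivial hx
    exact ⟨k, hk⟩

lemma Pair.dir_X (k l : Pair i j) (x : X) (hk : x ∈ k.U) (hl : x ∈ l.U) :
    ∃ m, m ≤ k ∧ m ≤ l ∧ x ∈ m.U := by
  by_cases hx : x ∈ Set.range i
  · obtain ⟨z, rfl⟩ := hx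
    have hk' : j z ∈ k.V := show z ∈ j ⁻¹ᵁ k.V from k.eq ▸ hk
    have hl' : j z ∈ l.V := show z ∈ j ⁻¹ᵁ l.V from l.eq ▸ hl
    obtain ⟨m, hmk, hml, hm⟩ := HasPairs.dir k l _ hk' hl'
    exact ⟨m, hmk, hml, show z ∈ i ⁻¹ᵁ m.U from m.eq ▸ hm⟩
  · obtain ⟨m, hm, hmO, hmV⟩ := exists_away i j (k.U ⊓ l.U) ⟨hk, hl⟩ hx
    exact ⟨m, ⟨hmO.trans inf_le_left, show m.V ≤ k.V from hmV ▸ bot_le⟩,
      ⟨hmO.trans inf_le_right, show m.V ≤ l.V from hmV ▸ bot_le⟩, hm⟩

end

variable [IsAffineHom j] {i j}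

namespace Pair

variable (k : Pair i j)

lemma hW : IsAffineOpen (j ⁻¹ᵁ k.V) := k.hV.preimage j

/-- `Γ(Y, V) → Γ(Z, W)` -/
noncomputable def q : Γ(Y, k.V) →+* Γ(Z, j ⁻¹ᵁ k.V) := (j.app k.V).hom

/-- `Γ(X, U) → Γ(Z, W)` -/
noncomputable def p : Γ(X, k.U) →+* Γ(Z, j ⁻¹ᵁ k.V) := (i.appLE k.U _ k.eq.ge).hom

/-- the ring of the chart -/
noncomputable def C : Subring (Γ(Y, k.V) × Γ(X, k.U)) :=
  RingHom.eqLocus (k.q.comp (RingHom.fst _ _)) (k.p.comp (RingHom.snd _ _))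

lemma p_surjective : Function.Surjective k.p := by
  intro t
  obtain ⟨b, hb⟩ := i.app_surjective _ k.hU ((Z.presheaf.map (eqToHom k.eq).op) t)
  refine ⟨b, ?_⟩
  simp only [p, Scheme.Hom.appLE, CommRingCat.comp_apply, hb]
  rw [← CommRingCat.comp_apply, ← Z.presheaf.map_comp]
  simp

/-- the square of the chart -/
noncomputable def sq : Sq k.C Γ(Y, k.V) Γ(X, k.U) Γ(Z, j ⁻¹ᵁ k.V) where
  f := (RingHom.fst _ _).comp k.C.subtype
  g := (RingHom.snd _ _).comp k.C.subtype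
  q := k.q
  p := k.p
  surj := k.p_surjective
  comm c := c.2
  exist a b h := ⟨⟨(a, b), h⟩, rfl, rfl⟩
  ext _ _ h1 h2 := Subtype.ext (Prod.ext h1 h2)

/-- The chart. -/
noncomputable abbrev obj : Scheme.{u} := Spec (CommRingCat.of k.C)

lemma sp_q : sp k.sq.q ≫ k.hV.fromSpec = k.hW.fromSpec ≫ j := by
  change Spec.map (CommRingCat.ofHom (j.app k.V).hom) ≫ _ = _
  rw [CommRingCat.ofHom_hom, ← Scheme.Hom.appLE_eq_app]
  exact IsAffineOpen.SpecMap_appLE_fromSpec j k.hV k.hW le_rfl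

lemma sp_p : sp k.sq.p ≫ k.hU.fromSpec = k.hW.fromSpec ≫ i := by
  change Spec.map (CommRingCat.ofHom (i.appLE k.U _ k.eq.ge).hom) ≫ _ = _
  rw [CommRingCat.ofHom_hom]
  exact IsAffineOpen.SpecMap_appLE_fromSpec i k.hU k.hW k.eq.ge

variable {k} {l : Pair i j} (h : l ≤ k)

/-- restriction on `Y` -/
noncomputable def rA : Γ(Y, k.V) →+* Γ(Y, l.V) := (Y.presheaf.map (homOfLE h.2).op).hom

/-- restriction on `X` -/
noncomputable def rB : Γ(X, k.U) →+* Γ(X, l.U) := (X.presheaf.map (homOfLE h.1).op).hom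

/-- restriction on `Z` -/
noncomputable def rD : Γ(Z, j ⁻¹ᵁ k.V) →+* Γ(Z, j ⁻¹ᵁ l.V) :=
  (Z.presheaf.map (homOfLE (j.preimage_mono h.2)).op).hom

lemma q_rA : l.sq.q.comp (rA h) = (rD h).comp k.sq.q := by
  change l.q.comp _ = (rD h).comp k.q
  simp only [q, rA, rD, ← CommRingCat.hom_comp, Scheme.Hom.app_eq_appLE, Scheme.Hom.appLE_map,
    Scheme.Hom.map_appLE]

lemma p_rB : l.sq.p.comp (rB h) = (rD h).comp k.sq.p := by
  change l.p.comp _ = (rD h).comp k.p
  simp only [p, rB, rD, ← CommRingCat.hom_comp, Scheme.Hom.appLE_map, Scheme.Hom.map_appLE]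

/-- restriction of charts -/
noncomputable def rC : k.C →+* l.C :=
  l.sq.lift ((rA h).comp k.sq.f) ((rB h).comp k.sq.g) (by
    rw [← RingHom.comp_assoc, q_rA, ← RingHom.comp_assoc, p_rB, RingHom.comp_assoc,
      RingHom.comp_assoc, show k.sq.q.comp k.sq.f = k.sq.p.comp k.sq.g from RingHom.ext k.sq.comm])

lemma f_rC : l.sq.f.comp (rC h) = (rA h).comp k.sq.f := Sq.f_comp_lift ..
lemma g_rC : l.sq.g.comp (rC h) = (rB h).comp k.sq.g := Sq.g_comp_lift ..

lemma rA_fromSpec : sp (rA h) ≫ k.hV.fromSpec = l.hV.fromSpec :=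
  k.hV.map_fromSpec l.hV (homOfLE h.2).op

lemma rB_fromSpec : sp (rB h) ≫ k.hU.fromSpec = l.hU.fromSpec :=
  k.hU.map_fromSpec l.hU (homOfLE h.1).op

lemma rD_fromSpec : sp (rD h) ≫ k.hW.fromSpec = l.hW.fromSpec :=
  k.hW.map_fromSpec l.hW (homOfLE (j.preimage_mono h.2)).op

instance : IsOpenImmersion (sp (rA h)) := by
  have : IsOpenImmersion (sp (rA h) ≫ k.hV.fromSpec) := by rw [rA_fromSpec]; infer_instance
  exact IsOpenImmersion.of_comp _ k.hV.fromSpec

instance : IsOpenImmersion (sp (rB h)) := by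
  have : IsOpenImmersion (sp (rB h) ≫ k.hU.fromSpec) := by rw [rB_fromSpec]; infer_instance
  exact IsOpenImmersion.of_comp _ k.hU.fromSpec

instance : IsOpenImmersion (sp (rD h)) := by
  have : IsOpenImmersion (sp (rD h) ≫ k.hW.fromSpec) := by rw [rD_fromSpec]; infer_instance
  exact IsOpenImmersion.of_comp _ k.hW.fromSpec

lemma mem_range_rA (y) : y ∈ Set.range (sp (rA h)) ↔ k.hV.fromSpec y ∈ l.V := by
  constructor
  · rintro ⟨y', rfl⟩
    rw [← Scheme.Hom.comp_apply, rA_fromSpec]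
    exact l.hV.range_fromSpec.subset ⟨y', rfl⟩
  · intro hy
    obtain ⟨y', hy'⟩ := l.hV.range_fromSpec.symm.subset hy
    exact ⟨y', k.hV.fromSpec.isOpenEmbedding.injective (by
      rw [← hy', ← Scheme.Hom.comp_apply, rA_fromSpec])⟩

lemma mem_range_rB (x) : x ∈ Set.range (sp (rB h)) ↔ k.hU.fromSpec x ∈ l.U := by
  constructor
  · rintro ⟨x', rfl⟩
    rw [← Scheme.Hom.comp_apply, rB_fromSpec]
    exact l.hU.range_fromSpec.subset ⟨x', rfl⟩
  · intro hx
    obtain ⟨x', hx'⟩ := l.hU.range_fromSpec.symm.subset hx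
    exact ⟨x', k.hU.fromSpec.isOpenEmbedding.injective (by
      rw [← hx', ← Scheme.Hom.comp_apply, rB_fromSpec])⟩

lemma mem_range_rD (z) : z ∈ Set.range (sp (rD h)) ↔ k.hW.fromSpec z ∈ j ⁻¹ᵁ l.V := by
  constructor
  · rintro ⟨z', rfl⟩
    rw [← Scheme.Hom.comp_apply, rD_fromSpec]
    exact l.hW.range_fromSpec.subset ⟨z', rfl⟩
  · intro hz
    obtain ⟨z', hz'⟩ := l.hW.range_fromSpec.symm.subset hz
    exact ⟨z', k.hW.fromSpec.isOpenEmbedding.injective (by
      rw [← hz', ← Scheme.Hom.comp_apply, rD_fromSpec])⟩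

lemma preimage_q_range :
    comap k.sq.q ⁻¹' Set.range (comap (rA h)) = Set.range (comap (rD h)) := by
  refine Set.ext fun (z : Spec (CommRingCat.of Γ(Z, j ⁻¹ᵁ k.V))) => ?_
  change sp k.sq.q z ∈ Set.range (sp (rA h)) ↔ z ∈ Set.range (sp (rD h))
  rw [mem_range_rA, mem_range_rD, ← Scheme.Hom.comp_apply, sp_q, Scheme.Hom.comp_apply]
  rfl

lemma preimage_p_range :
    comap k.sq.p ⁻¹' Set.range (comap (rB h)) = Set.range (comap (rD h)) := by
  refine Set.ext fun (z : Spec (CommRingCat.of Γ(Z, j ⁻¹ᵁ k.V))) => ?_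
  change sp k.sq.p z ∈ Set.range (sp (rB h)) ↔ z ∈ Set.range (sp (rD h))
  rw [mem_range_rB, mem_range_rD, ← Scheme.Hom.comp_apply, sp_p, Scheme.Hom.comp_apply]
  exact SetLike.ext_iff.mp l.eq _

lemma isOpenImmersion_rC : IsOpenImmersion (sp (rC h)) ∧ Set.range (sp (rC h)) =
    comap k.sq.g '' Set.range (comap (rB h)) ∪ comap k.sq.f '' Set.range (comap (rA h)) :=
  isOpenImmersion_sp k.sq l.sq (rC h) (rA h) (rB h) (rD h) (f_rC h) (g_rC h) (q_rA h) (p_rB h)
    (preimage_q_range h) (preimage_p_range h)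

lemma mem_range_rC_g (x) : sp k.sq.g x ∈ Set.range (sp (rC h)) ↔ k.hU.fromSpec x ∈ l.U := by
  rw [(isOpenImmersion_rC h).2, ← mem_range_rB h]
  exact Set.ext_iff.mp (k.sq.g_preimage_image
    ((preimage_p_range h).trans (preimage_q_range h).symm)) x

lemma mem_range_rC_f (y) : sp k.sq.f y ∈ Set.range (sp (rC h)) ↔ k.hV.fromSpec y ∈ l.V := by
  rw [(isOpenImmersion_rC h).2, ← mem_range_rA h]
  exact Set.ext_iff.mp (k.sq.f_preimage_image
    ((preimage_p_range h).trans (preimage_q_range h).symm)) y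

end Pair

variable (i j)

/-- The diagram of charts. -/
noncomputable def diagram : Pair i j ⥤ Scheme.{u} where
  obj k := k.obj
  map {l k} h := sp (Pair.rC h.le)
  map_id k := by
    have : Pair.rC (le_refl k) = RingHom.id _ := RingHom.ext fun c => k.sq.ext _ _
      (by
        have := RingHom.congr_fun (Pair.f_rC (le_refl k)) c
        simpa [Pair.rA] using this)
      (by
        have := RingHom.congr_fun (Pair.g_rC (le_refl k)) c
        simpa [Pair.rB] using this)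
    rw [show (𝟙 k : k ⟶ k).le = le_refl k from rfl, this, sp]
    simp
  map_comp {m l k} a b := by
    rw [← sp_comp]
    congr 1
    refine RingHom.ext fun c => m.sq.ext _ _ ?_ ?_
    · have h1 := RingHom.congr_fun (Pair.f_rC a.le) (Pair.rC b.le c)
      have h2 := RingHom.congr_fun (Pair.f_rC b.le) c
      have h3 := RingHom.congr_fun (Pair.f_rC (a ≫ b).le) c
      simp only [RingHom.comp_apply] at h1 h2 h3 ⊢
      rw [h1, h2, h3]
      simp only [Pair.rA, ← CommRingCat.comp_apply, ← Y.presheaf.map_comp]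
      rfl
    · have h1 := RingHom.congr_fun (Pair.g_rC a.le) (Pair.rC b.le c)
      have h2 := RingHom.congr_fun (Pair.g_rC b.le) c
      have h3 := RingHom.congr_fun (Pair.g_rC (a ≫ b).le) c
      simp only [RingHom.comp_apply] at h1 h2 h3 ⊢
      rw [h1, h2, h3]
      simp only [Pair.rB, ← CommRingCat.comp_apply, ← X.presheaf.map_comp]
      rfl

instance {l k : Pair i j} (h : l ⟶ k) : IsOpenImmersion ((diagram i j).map h) :=
  (Pair.isOpenImmersion_rC h.le).1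

variable [HasPairs i j]

set_option maxHeartbeats 800000 in
instance : ((diagram i j) ⋙ Scheme.forget).IsLocallyDirected := by
  refine ⟨fun {a b k} fa fb xa xb he => ?_⟩
  change sp (Pair.rC fa.le) xa = sp (Pair.rC fb.le) xb at he
  have key : ∃ (m : Pair i j) (hma : m ≤ a) (hmb : m ≤ b),
      sp (Pair.rC fa.le) xa ∈ Set.range (sp (Pair.rC (hma.trans fa.le))) := by
    rcases k.sq.exists_point (sp (Pair.rC fa.le) xa) with ⟨y, hy⟩ | ⟨-, -, -, x, hx⟩
    · change sp k.sq.f y = _ at hy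
      have h1 := (Pair.mem_range_rC_f fa.le y).mp ⟨xa, hy.symm⟩
      have h2 := (Pair.mem_range_rC_f fb.le y).mp ⟨xb, (hy.trans he).symm⟩
      obtain ⟨m, hma, hmb, hm⟩ := HasPairs.dir a b _ h1 h2
      exact ⟨m, hma, hmb, hy ▸ (Pair.mem_range_rC_f _ y).mpr hm⟩
    · change sp k.sq.g x = _ at hx
      have h1 := (Pair.mem_range_rC_g fa.le x).mp ⟨xa, hx.symm⟩
      have h2 := (Pair.mem_range_rC_g fb.le x).mp ⟨xb, (hx.trans he).symm⟩
      obtain ⟨m, hma, hmb, hm⟩ := Pair.dir_X i j a b _ h1 h2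
      exact ⟨m, hma, hmb, hx ▸ (Pair.mem_range_rC_g _ x).mpr hm⟩
  obtain ⟨m, hma, hmb, w, hw⟩ := key
  have hc : ∀ {n : Pair i j} (f : m ⟶ n) (g : n ⟶ k),
      (diagram i j).map g ((diagram i j).map f w) = sp (Pair.rC (hma.trans fa.le)) w := by
    intro n f g
    rw [← Scheme.Hom.comp_apply, ← Functor.map_comp]
    rfl
  exact ⟨m, homOfLE hma, homOfLE hmb, w,
    ((diagram i j).map fa).isOpenEmbedding.injective ((hc (homOfLE hma) fa).trans hw),
    ((diagram i j).map fb).isOpenEmbedding.injective ((hc (homOfLE hmb) fb).trans (hw.trans he))⟩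

end Groth.Agent.FlatMorPush
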