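import Groth.Agent.FlatMorPush.Functorial
import Groth.Agent.FlatMorPush.RingProps
import Groth.Agent.FlatMorPush.FiniteSet
import Mathlib.AlgebraicGeometry.Morphisms.Smooth
import Mathlib.AlgebraicGeometry.Morphisms.Etale

/-!
# Properties of maps between pushouts of two closed immersions
-/

set_option autoImplicit false
set_option backward.isDefEq.respectTransparency.types false
set_option linter.unusedSectionVars false
universe u

open AlgebraicGeometry CategoryTheory Limits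
open Groth.Agent.KerEval

namespace Groth.Agent.FlatMorPush

variable {X Y Z X' Y' Z' : Scheme.{u}} {i : Z ⟶ X} {j : Z ⟶ Y} [IsClosedImmersion i]
  [IsClosedImmersion j] [HasPairs i j] {i' : Z' ⟶ X'} {j' : Z' ⟶ Y'} [IsClosedImmersion i']
  [IsClosedImmersion j'] [HasPairs i' j'] {f : X' ⟶ X} {g : Y' ⟶ Y} {h : Z' ⟶ Z}
  (hX : IsPullback h i' i f) (hY : IsPullback h j' j g)

include hX hY in
lemma exists_subPair_closed (w : Po i' j') :
    ∃ p : SubPair f g i j i' j', w ∈ Set.range (ι p.1.1) := by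
  obtain ⟨k₀, w₀, rfl⟩ := exists_mem_range w
  have hY' : ∀ y' : Y', ∃ p : SubPair f g i j i' j', inr i' j' y' ∈ Set.range (ι p.1.1) := by
    intro y'
    obtain ⟨k, hk⟩ := HasPairs.cover (i := i) (j := j) (g y')
    by_cases hy : y' ∈ Set.range j'
    · obtain ⟨z, rfl⟩ := hy
      have hz : i' z ∈ f ⁻¹ᵁ k.U := by
        show f (i' z) ∈ k.U
        rw [← Scheme.Hom.comp_apply, ← hX.w]
        show h z ∈ i ⁻¹ᵁ k.U
        rw [k.eq]
        show j (h z) ∈ k.V
        rw [← Scheme.Hom.comp_apply, hY.w]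
        exact hk
      obtain ⟨U₀, hU₀, hzU, hU₀le⟩ := exists_isAffineOpen_mem_and_subset hz
      obtain ⟨V₀, hV₀, hzV, hV₀le⟩ :=
        exists_isAffineOpen_mem_and_subset (show j' z ∈ g ⁻¹ᵁ k.V from hk)
      obtain ⟨k', -, hk', hU, hV⟩ := exists_pair_finite i' j' hU₀ hV₀
        (Set.finite_singleton (i' z)) (by simpa using hzU) (Set.finite_singleton (j' z))
        (by simpa using hzV) (fun z' => by
          simp only [Set.mem_singleton_iff]
          exact i'.isClosedEmbedding.injective.eq_iff.trans j'.isClosedEmbedding.injective.eq_iff.symm)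
      exact ⟨⟨(k', k), hU.trans hU₀le, hV.trans hV₀le⟩, inr_mem_range_ι.mpr (hk' rfl)⟩
    · obtain ⟨_, ⟨V₀, hV₀, rfl⟩, hyV, hV₀le⟩ := Y'.isBasis_affineOpens.exists_subset_of_mem_open
        (show y' ∈ ((g ⁻¹ᵁ k.V : Y'.Opens) : Set Y') ∩ (Set.range j')ᶜ from ⟨hk, hy⟩)
        ((g ⁻¹ᵁ k.V).isOpen.inter j'.isClosedEmbedding.isClosed_range.isOpen_compl)
      refine ⟨⟨(⟨⊥, V₀, isAffineOpen_bot X', hV₀, ?_⟩, k), bot_le, fun y hy => (hV₀le hy).1⟩,
        inr_mem_range_ι.mpr hyV⟩
      exact TopologicalSpace.Opens.ext (Set.ext fun z =>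
        ⟨fun hz => hz.elim, fun hz => absurd ⟨z, rfl⟩ (hV₀le hz).2⟩)
  rcases k₀.sq.exists_point w₀ with ⟨y, rfl⟩ | ⟨-, -, -, x, rfl⟩
  · change ∃ p : SubPair f g i j i' j', ι k₀ (sp k₀.sq.f y) ∈ _
    rw [← Scheme.Hom.comp_apply, ← fromSpec_inr, Scheme.Hom.comp_apply]
    exact hY' _
  · change ∃ p : SubPair f g i j i' j', ι k₀ (sp k₀.sq.g x) ∈ _
    rw [← Scheme.Hom.comp_apply, ← fromSpec_inl, Scheme.Hom.comp_apply]
    set x' := k₀.hU.fromSpec x
    by_cases hx : x' ∈ Set.range i'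
    · obtain ⟨z, hz⟩ := hx
      rw [← hz, ← Scheme.Hom.comp_apply, condition, Scheme.Hom.comp_apply]
      exact hY' _
    · obtain ⟨k, hk⟩ := Pair.cover_X i j (f x')
      obtain ⟨k', hk', hle, hV⟩ := exists_away i' j' (f ⁻¹ᵁ k.U) (x := x') hk hx
      exact ⟨⟨(k', k), hle, show k'.V ≤ _ from hV ▸ bot_le⟩, inl_mem_range_ι.mpr hk'⟩

/-- the covering by charts over charts -/
noncomputable def closedCover : (Po i' j').OpenCover where
  I₀ := SubPair f g i j i' j'
  X p := p.1.1.obj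
  f p := ι p.1.1
  mem₀ := by
    rw [Scheme.presieve₀_mem_precoverage_iff]
    exact ⟨exists_subPair_closed hX hY, fun p => inferInstanceAs (IsOpenImmersion (ι p.1.1))⟩

theorem isPullback_inr_poMap_closed : IsPullback g (inr i' j') (inr i j) (poMap hX hY) := by
  refine (Scheme.isPullback_of_openCover (inr i' j') g (poMap hX hY) (inr i j) (closedCover hX hY)
    fun p => ?_).flip
  have h := (isPullback_chart_f hX hY p.2).paste_vert (isPullback_inr p.1.2)
  rw [← ι_poMap hX hY p.2, mA_fromSpec] at h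
  refine h.of_iso ((isPullback_inr p.1.1).flip.isoPullback) (Iso.refl _) (Iso.refl _) (Iso.refl _)
    ?_ ?_ (by simp; rfl) (by simp)
  · exact (Category.comp_id _).trans (isPullback_inr p.1.1).flip.isoPullback_hom_snd.symm
  · exact (Category.comp_id _).trans ((congrArg (· ≫ g)
      (isPullback_inr p.1.1).flip.isoPullback_hom_fst.symm).trans (Category.assoc _ _ _))

theorem isPullback_inl_poMap_closed : IsPullback f (inl i' j') (inl i j) (poMap hX hY) := by
  refine (Scheme.isPullback_of_openCover (inl i' j') f (poMap hX hY) (inl i j) (closedCover hX hY)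
    fun p => ?_).flip
  have h := (isPullback_chart_g hX hY p.2).paste_vert (isPullback_inl p.1.2)
  rw [← ι_poMap hX hY p.2, mB_fromSpec] at h
  refine h.of_iso ((isPullback_inl p.1.1).flip.isoPullback) (Iso.refl _) (Iso.refl _) (Iso.refl _)
    ?_ ?_ (by simp; rfl) (by simp)
  · exact (Category.comp_id _).trans (isPullback_inl p.1.1).flip.isoPullback_hom_snd.symm
  · exact (Category.comp_id _).trans ((congrArg (· ≫ f)
      (isPullback_inl p.1.1).flip.isoPullback_hom_fst.symm).trans (Category.assoc _ _ _))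

lemma q_surjective (k : Pair i j) : Function.Surjective k.sq.q := j.app_surjective k.V k.hV

theorem locallyOfFiniteType_closed [LocallyOfFiniteType f] [LocallyOfFiniteType g] :
    LocallyOfFiniteType (poMap hX hY) := by
  rw [IsZariskiLocalAtSource.iff_of_openCover (P := @LocallyOfFiniteType) (closedCover hX hY)]
  intro p
  change LocallyOfFiniteType (ι p.1.1 ≫ poMap hX hY)
  rw [ι_poMap hX hY p.2]
  have := locallyOfFiniteType_mC hX hY p.2
  infer_instance

theorem flat_closed [Flat f] [Flat g] : Flat (poMap hX hY) := by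
  rw [IsZariskiLocalAtSource.iff_of_openCover (P := @Flat) (closedCover hX hY)]
  intro p
  change Flat (ι p.1.1 ≫ poMap hX hY)
  rw [ι_poMap hX hY p.2]
  have : Flat (sp (mC hX hY p.2)) := (HasRingHomProperty.Spec_iff (P := @Flat)).mpr
    (flat_map p.1.2.sq p.1.1.sq (f_mC hX hY p.2) (g_mC hX hY p.2) (isPushout_mA hY p.2)
      (isPushout_mB hX hY p.2)
      (HasRingHomProperty.appLE @Flat g inferInstance ⟨p.1.2.V, p.1.2.hV⟩ ⟨_, p.1.1.hV⟩ p.2.2)
      (HasRingHomProperty.appLE @Flat f inferInstance ⟨p.1.2.U, p.1.2.hU⟩ ⟨_, p.1.1.hU⟩ p.2.1))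
  infer_instance

theorem locallyOfFinitePresentation_closed [Flat f] [Flat g] [LocallyOfFinitePresentation f]
    [LocallyOfFinitePresentation g] : LocallyOfFinitePresentation (poMap hX hY) := by
  rw [IsZariskiLocalAtSource.iff_of_openCover (P := @LocallyOfFinitePresentation)
    (closedCover hX hY)]
  intro p
  change LocallyOfFinitePresentation (ι p.1.1 ≫ poMap hX hY)
  rw [ι_poMap hX hY p.2]
  have : LocallyOfFinitePresentation (sp (mC hX hY p.2)) :=
    (HasRingHomProperty.Spec_iff (P := @LocallyOfFinitePresentation)).mpr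
    (finitePresentation_map p.1.2.sq p.1.1.sq (f_mC hX hY p.2) (g_mC hX hY p.2)
      (isPushout_mA hY p.2) (isPushout_mB hX hY p.2) (q_surjective _)
      (HasRingHomProperty.appLE @Flat g inferInstance ⟨p.1.2.V, p.1.2.hV⟩ ⟨_, p.1.1.hV⟩ p.2.2)
      (HasRingHomProperty.appLE @Flat f inferInstance ⟨p.1.2.U, p.1.2.hU⟩ ⟨_, p.1.1.hU⟩ p.2.1)
      (HasRingHomProperty.appLE @LocallyOfFinitePresentation g inferInstance
        ⟨p.1.2.V, p.1.2.hV⟩ ⟨_, p.1.1.hV⟩ p.2.2)
      (HasRingHomProperty.appLE @LocallyOfFinitePresentation f inferInstance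
        ⟨p.1.2.U, p.1.2.hU⟩ ⟨_, p.1.1.hU⟩ p.2.1))
  infer_instance

theorem smooth_closed [Smooth f] [Smooth g] : Smooth (poMap hX hY) := by
  rw [IsZariskiLocalAtSource.iff_of_openCover (P := @Smooth) (closedCover hX hY)]
  intro p
  change Smooth (ι p.1.1 ≫ poMap hX hY)
  rw [ι_poMap hX hY p.2]
  have : Smooth (sp (mC hX hY p.2)) := (HasRingHomProperty.Spec_iff (P := @Smooth)).mpr
    (smooth_map p.1.2.sq p.1.1.sq (f_mC hX hY p.2) (g_mC hX hY p.2) (isPushout_mA hY p.2)
      (isPushout_mB hX hY p.2) (q_surjective _)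
      (HasRingHomProperty.appLE @Smooth g inferInstance ⟨p.1.2.V, p.1.2.hV⟩ ⟨_, p.1.1.hV⟩ p.2.2)
      (HasRingHomProperty.appLE @Smooth f inferInstance ⟨p.1.2.U, p.1.2.hU⟩ ⟨_, p.1.1.hU⟩ p.2.1))
  infer_instance

theorem etale_closed [Etale f] [Etale g] : Etale (poMap hX hY) := by
  rw [IsZariskiLocalAtSource.iff_of_openCover (P := @Etale) (closedCover hX hY)]
  intro p
  change Etale (ι p.1.1 ≫ poMap hX hY)
  rw [ι_poMap hX hY p.2]
  have : Etale (sp (mC hX hY p.2)) := (HasRingHomProperty.Spec_iff (P := @Etale)).mpr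
    (etale_map p.1.2.sq p.1.1.sq (f_mC hX hY p.2) (g_mC hX hY p.2) (isPushout_mA hY p.2)
      (isPushout_mB hX hY p.2) (q_surjective _)
      (HasRingHomProperty.appLE @Etale g inferInstance ⟨p.1.2.V, p.1.2.hV⟩ ⟨_, p.1.1.hV⟩ p.2.2)
      (HasRingHomProperty.appLE @Etale f inferInstance ⟨p.1.2.U, p.1.2.hU⟩ ⟨_, p.1.1.hU⟩ p.2.1))
  infer_instance

end Groth.Agent.FlatMorPush
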