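import Groth.Agent.FlatMorPush.RingedPushout
import Groth.Agent.FlatMorPush.BaseChange

/-!
# Base change of a pinching square of ringed spaces
-/

set_option autoImplicit false
set_option backward.isDefEq.respectTransparency.types false
set_option linter.unusedSectionVars false
universe u

open AlgebraicGeometry CategoryTheory Limits

namespace Groth.Agent.FlatMorPush

/-- The base change of a morphism over `S`, as a cartesian square. -/
lemma isPullback_over_map {A B S T : Scheme.{u}} {fA : A ⟶ S} {fB : B ⟶ S} (h : A ⟶ B)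
    (w : h ≫ fB = fA) (g : T ⟶ S) :
    IsPullback (pullback.fst fA g)
      ((Over.pullback g).map (Over.homMk h w : Over.mk fA ⟶ Over.mk fB)).left h
      (pullback.fst fB g) := by
  refine IsPullback.of_bot ?_ (pullback.lift_fst _ _ _).symm (IsPullback.of_hasPullback fB g)
  erw [pullback.lift_snd]
  rw [w]
  exact IsPullback.of_hasPullback fA g

variable {S X Z Z' X' T : Scheme.{u}} (fX : X ⟶ S) (fZ' : Z' ⟶ S) (fX' : X' ⟶ S) (ι : Z ⟶ X)
  (q : Z ⟶ Z') (π : X ⟶ X') (ι' : Z' ⟶ X') [IsClosedImmersion ι] [IsClosedImmersion ι']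
  [IsAffineHom q] [IsAffineHom π] (hq : q ≫ fZ' = ι ≫ fX) (hπ : π ≫ fX' = fX)
  (hι' : ι' ≫ fX' = fZ') (g : T ⟶ S)

/-- Pinching of `S`-flat data commutes with base change, as schemes. -/
theorem isPushout_over_pullback (hP : IsPushout ι q π ι') [Flat (ι ≫ fX)] :
    IsPushout
      ((Over.pullback g).map (Over.homMk ι rfl : Over.mk (ι ≫ fX) ⟶ Over.mk fX)).left
      ((Over.pullback g).map (Over.homMk q hq : Over.mk (ι ≫ fX) ⟶ Over.mk fZ')).left
      ((Over.pullback g).map (Over.homMk π hπ : Over.mk fX ⟶ Over.mk fX')).left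
      ((Over.pullback g).map (Over.homMk ι' hι' : Over.mk fZ' ⟶ Over.mk fX')).left := by
  have : HasPairs ι q := hasPairs_of_square hP.w
  refine isPushout_baseChange (i := ι) (j := q) (a := π) (b := ι') (s := fX') (g := g)
    (pX := pullback.fst fX g) (pY := pullback.fst fZ' g) (pZ := pullback.fst (ι ≫ fX) g)
    (IsPullback.of_hasPullback fX' g) (fun p => ?_) (isPullback_over_map π hπ g)
    (isPullback_over_map ι' hι' g) (isPullback_over_map ι rfl g)
    (isPullback_over_map q hq g).w.symm ?_
  · obtain ⟨c, hp, -, -, hZ⟩ := exists_chart hP p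
    refine ⟨c, hp, Or.inr ?_⟩
    rw [hπ]
    infer_instance
  · rw [← Over.comp_left, ← Over.comp_left, ← Functor.map_comp, ← Functor.map_comp]
    congr 2
    exact Over.OverMorphism.ext hP.w

/-- Pinching of `S`-flat data commutes with base change, as ringed spaces. -/
theorem isPushout_fRS_over_pullback (hP : IsPushout ι q π ι') [Flat (ι ≫ fX)] :
    IsPushout
      (fRS.map ((Over.pullback g).map (Over.homMk ι rfl : Over.mk (ι ≫ fX) ⟶ Over.mk fX)).left)
      (fRS.map ((Over.pullback g).map (Over.homMk q hq : Over.mk (ι ≫ fX) ⟶ Over.mk fZ')).left)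
      (fRS.map ((Over.pullback g).map (Over.homMk π hπ : Over.mk fX ⟶ Over.mk fX')).left)
      (fRS.map ((Over.pullback g).map (Over.homMk ι' hι' : Over.mk fZ' ⟶ Over.mk fX')).left) := by
  have h := isPushout_over_pullback fX fZ' fX' ι q π ι' hq hπ hι' g hP
  have : IsClosedImmersion ((Over.pullback g).map
      (Over.homMk ι rfl : Over.mk (ι ≫ fX) ⟶ Over.mk fX)).left :=
    MorphismProperty.of_isPullback (isPullback_over_map ι rfl g) ‹IsClosedImmersion ι›
  have : IsClosedImmersion ((Over.pullback g).map
      (Over.homMk ι' hι' : Over.mk fZ' ⟶ Over.mk fX')).left :=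
    MorphismProperty.of_isPullback (isPullback_over_map ι' hι' g) ‹IsClosedImmersion ι'›
  have : IsAffineHom ((Over.pullback g).map
      (Over.homMk q hq : Over.mk (ι ≫ fX) ⟶ Over.mk fZ')).left :=
    MorphismProperty.of_isPullback (isPullback_over_map q hq g) ‹IsAffineHom q›
  have : IsAffineHom ((Over.pullback g).map
      (Over.homMk π hπ : Over.mk fX ⟶ Over.mk fX')).left :=
    MorphismProperty.of_isPullback (isPullback_over_map π hπ g) ‹IsAffineHom π›
  have := hasPairs_of_square h.w
  exact isPushout_fRS h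

end Groth.Agent.FlatMorPush
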