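import Groth.Agent.FlatMorPush.RingedSpace
import Groth.Agent.FlatMorPush.Sections

/-!
# A pinching square of schemes is a pushout square of ringed spaces
-/

set_option autoImplicit false
set_option backward.isDefEq.respectTransparency.types false
set_option linter.unusedSectionVars false
set_option linter.style.haveILetI false
universe u

open AlgebraicGeometry CategoryTheory Limits Opposite TopologicalSpace

namespace Groth.Agent.FlatMorPush

variable {X Y Z P : Scheme.{u}} {i : Z ⟶ X} {j : Z ⟶ Y} [IsClosedImmersion i] [IsAffineHom j]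
  [HasPairs i j] {a : X ⟶ P} {b : Y ⟶ P}

/-- Change of open in `appLE`. -/
lemma map_eqToHom_appLE {X Z : Scheme.{u}} (i : Z ⟶ X) {U U' : X.Opens} (e : U = U') {V : Z.Opens}
    (hV : V = i ⁻¹ᵁ U) :
    X.presheaf.map (eqToHom e.symm).op ≫ i.appLE U' V (hV.le.trans_eq (by rw [e])) =
      i.app U ≫ Z.presheaf.map (eqToHom hV).op := by
  subst e hV
  simp [Scheme.Hom.appLE_eq_app]

/-- A pushout of schemes along a closed immersion and an affine morphism with adapted pairs is a
pushout of ringed spaces. -/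
theorem isPushout_fRS (hP : IsPushout i j a b) :
    IsPushout (fRS.map i) (fRS.map j) (fRS.map a) (fRS.map b) := by
  have w : fRS.map i ≫ fRS.map a = fRS.map j ≫ fRS.map b := by
    rw [← fRS.map_comp, ← fRS.map_comp, hP.w]
  -- uniqueness
  have huniq : ∀ {G : SheafedSpace CommRingCat.{u}} (m₁ m₂ : fRS.obj P ⟶ G),
      fRS.map a ≫ m₁ = fRS.map a ≫ m₂ → fRS.map b ≫ m₁ = fRS.map b ≫ m₂ → m₁ = m₂ := by
    intro G m₁ m₂ hA hB
    obtain ⟨⟨f₁, c₁⟩⟩ := m₁
    obtain ⟨⟨f₂, c₂⟩⟩ := m₂
    obtain rfl : f₁ = f₂ := by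
      obtain ⟨m₀, hm₀⟩ := exists_desc_points hP (G := ULift.{0} Unit) (fun _ => ⟨()⟩) (fun _ => ⟨()⟩)
        (fun _ => rfl)
      refine TopCat.hom_ext (ContinuousMap.ext fun p => ?_)
      obtain ⟨c, ⟨t, rfl⟩, -⟩ := exists_chart hP p
      rcases c.S.exists_point t with ⟨y, rfl⟩ | ⟨-, -, -, x, rfl⟩
      · have e : c.e (KerEval.sp c.S.f y) = b (c.uY y) := congrArg (fun m : _ ⟶ P => m y) c.hY.w
        have := congrArg (fun m : fRS.obj Y ⟶ G => m.hom.base (c.uY y)) hB
        exact (congrArg f₁ e).trans (this.trans (congrArg f₂ e).symm)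
      · have e : c.e (KerEval.sp c.S.g x) = a (c.uX x) := congrArg (fun m : _ ⟶ P => m x) c.hX.w
        have := congrArg (fun m : fRS.obj X ⟶ G => m.hom.base (c.uX x)) hA
        exact (congrArg f₁ e).trans (this.trans (congrArg f₂ e).symm)
    suffices c₁ = c₂ by subst this; rfl
    refine NatTrans.ext (funext fun O => ?_)
    obtain ⟨O⟩ := O
    refine hom_ext_sections hP ((Opens.map f₁).obj O) ?_ ?_
    · have := SheafedSpace.congr_hom_app hA (op O)
      exact this.trans
        ((congrArg (_ ≫ ·) (CategoryTheory.Functor.map_id _ _)).trans (Category.comp_id _))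
    · have := SheafedSpace.congr_hom_app hB (op O)
      exact this.trans
        ((congrArg (_ ≫ ·) (CategoryTheory.Functor.map_id _ _)).trans (Category.comp_id _))
  -- existence
  have hex : ∀ {G : SheafedSpace CommRingCat.{u}} (u : fRS.obj X ⟶ G) (v : fRS.obj Y ⟶ G),
      fRS.map i ≫ u = fRS.map j ≫ v → ∃ m, fRS.map a ≫ m = u ∧ fRS.map b ≫ m = v := by
    intro G u v huv
    obtain ⟨m₀, hm₁, hm₂⟩ := exists_desc_points hP (fun x => u.hom.base x) (fun y => v.hom.base y)
      (fun z => congrArg (fun m : fRS.obj Z ⟶ G => m.hom.base z) huv)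
    have hcont : Continuous m₀ := by
      refine continuous_def.mpr fun O hO => isOpen_of_preimages hP _ ?_ ?_
      · rw [show a ⁻¹' (m₀ ⁻¹' O) = u.hom.base ⁻¹' O from
          Set.ext fun x => iff_of_eq (congrArg (· ∈ O) (hm₁ x))]
        exact hO.preimage u.hom.base.hom.continuous
      · rw [show b ⁻¹' (m₀ ⁻¹' O) = v.hom.base ⁻¹' O from
          Set.ext fun x => iff_of_eq (congrArg (· ∈ O) (hm₂ x))]
        exact hO.preimage v.hom.base.hom.continuous
    let f : (P : TopCat) ⟶ (G : TopCat) := TopCat.ofHom ⟨m₀, hcont⟩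
    have hXo : ∀ O : Opens (G : TopCat), (Opens.map u.hom.base).obj O = a ⁻¹ᵁ ((Opens.map f).obj O) :=
      fun O => Opens.ext (Set.ext fun x => by
        show u.hom.base x ∈ O ↔ m₀ (a x) ∈ O
        rw [hm₁])
    have hYo : ∀ O : Opens (G : TopCat), (Opens.map v.hom.base).obj O = b ⁻¹ᵁ ((Opens.map f).obj O) :=
      fun O => Opens.ext (Set.ext fun y => by
        show v.hom.base y ∈ O ↔ m₀ (b y) ∈ O
        rw [hm₂])
    let φX : ∀ O : (Opens (G : TopCat))ᵒᵖ,
        G.presheaf.obj O ⟶ Γ(X, a ⁻¹ᵁ ((Opens.map f).obj O.unop)) := fun O =>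
      u.hom.c.app O ≫ X.presheaf.map (eqToHom (hXo O.unop).symm).op
    let φY : ∀ O : (Opens (G : TopCat))ᵒᵖ,
        G.presheaf.obj O ⟶ Γ(Y, b ⁻¹ᵁ ((Opens.map f).obj O.unop)) := fun O =>
      v.hom.c.app O ≫ Y.presheaf.map (eqToHom (hYo O.unop).symm).op
    have hφ : ∀ O, ∃ φ : G.presheaf.obj O ⟶ Γ(P, (Opens.map f).obj O.unop),
        φ ≫ a.app _ = φX O ∧ φ ≫ b.app _ = φY O := by
      intro O
      refine exists_desc_sections hP _ (φX O) (φY O) ?_
      obtain ⟨O⟩ := O
      have := SheafedSpace.congr_hom_app huv (op O)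
      rw [SheafedSpace.comp_hom_c_app', SheafedSpace.comp_hom_c_app'] at this
      simp only [φX, φY, Category.assoc]
      have hj : i ⁻¹ᵁ (a ⁻¹ᵁ (Opens.map f).obj O) = j ⁻¹ᵁ (Opens.map v.hom.base).obj O := by
        rw [← Scheme.Hom.comp_preimage, hP.w, Scheme.Hom.comp_preimage, ← hYo]
      erw [map_eqToHom_appLE i (hXo O) (by rw [hXo]), map_eqToHom_appLE j (hYo O) hj,
        reassoc_of% this]
      exact congrArg
        (fun t => v.hom.c.app (op O) ≫ j.app ((Opens.map v.hom.base).obj O) ≫ t)
        (Z.presheaf.map_comp _ _).symm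
    choose c hcX hcY using hφ
    let c' : G.presheaf ⟶ f _* P.presheaf :=
      { app := c
        naturality := fun O O' r => hom_ext_sections hP _
          (by
            erw [Category.assoc, hcX, Category.assoc, a.naturality, reassoc_of% (hcX O)]
            simp only [φX, Category.assoc]
            erw [u.hom.c.naturality_assoc]
            exact congrArg (u.hom.c.app O ≫ ·)
              ((X.presheaf.map_comp _ _).symm.trans
                ((congrArg X.presheaf.map (Quiver.Hom.unop_inj (Subsingleton.elim _ _))).trans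
                  (X.presheaf.map_comp _ _))))
          (by
            erw [Category.assoc, hcY, Category.assoc, b.naturality, reassoc_of% (hcY O)]
            simp only [φY, Category.assoc]
            erw [v.hom.c.naturality_assoc]
            exact congrArg (v.hom.c.app O ≫ ·)
              ((Y.presheaf.map_comp _ _).symm.trans
                ((congrArg Y.presheaf.map (Quiver.Hom.unop_inj (Subsingleton.elim _ _))).trans
                  (Y.presheaf.map_comp _ _)))) }
    let m : fRS.obj P ⟶ G := InducedCategory.homMk ⟨f, c'⟩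
    refine ⟨m, ?_, ?_⟩
    · refine InducedCategory.hom_ext (PresheafedSpace.ext _ _ ?_ ?_)
      · exact TopCat.hom_ext (ContinuousMap.ext hm₁)
      · refine NatTrans.ext (funext fun O => ?_)
        obtain ⟨O⟩ := O
        change (c (op O) ≫ a.app _) ≫ X.presheaf.map _ = _
        erw [hcX]
        simp only [φX]
        erw [Category.assoc, ← X.presheaf.map_comp]
        exact (congrArg (_ ≫ ·) (X.presheaf.map_id _)).trans (Category.comp_id _)
    · refine InducedCategory.hom_ext (PresheafedSpace.ext _ _ ?_ ?_)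
      · exact TopCat.hom_ext (ContinuousMap.ext hm₂)
      · refine NatTrans.ext (funext fun O => ?_)
        obtain ⟨O⟩ := O
        change (c (op O) ≫ b.app _) ≫ Y.presheaf.map _ = _
        erw [hcY]
        simp only [φY]
        erw [Category.assoc, ← Y.presheaf.map_comp]
        exact (congrArg (_ ≫ ·) (Y.presheaf.map_id _)).trans (Category.comp_id _)
  exact ⟨⟨w⟩, ⟨PushoutCocone.IsColimit.mk w
    (fun s => (hex _ _ s.condition).choose)
    (fun s => (hex _ _ s.condition).choose_spec.1)
    (fun s => (hex _ _ s.condition).choose_spec.2)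
    (fun s m h₁ h₂ => huniq m _ (h₁.trans (hex _ _ s.condition).choose_spec.1.symm)
      (h₂.trans (hex _ _ s.condition).choose_spec.2.symm))⟩⟩

end Groth.Agent.FlatMorPush
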