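import Groth.Agent.FlatMorPush.Transfer

/-!
# Ringed-space pushout squares are scheme pushouts
-/

set_option autoImplicit false
set_option backward.isDefEq.respectTransparency.types false
universe u

open AlgebraicGeometry CategoryTheory Limits

namespace Groth.Agent.FlatMorPush

/-- The forgetful functor to ringed spaces. -/
abbrev fRS : Scheme.{u} ⥤ SheafedSpace CommRingCat.{u} :=
  Scheme.forgetToLocallyRingedSpace ⋙ LocallyRingedSpace.forgetToSheafedSpace

variable {X Y Z P : Scheme.{u}} {i : Z ⟶ X} {j : Z ⟶ Y} {a : X ⟶ P} {b : Y ⟶ P}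

/-- The corner of a pushout square of ringed spaces is covered by the two sides. -/
theorem exists_preimage_of_ringedSpace (hpo : IsPushout (fRS.map i) (fRS.map j) (fRS.map a) (fRS.map b))
    (p : P) : (∃ x, a x = p) ∨ ∃ y, b y = p := by
  classical
  by_contra hne
  rw [not_or, not_exists, not_exists] at hne
  have hT := hpo.map (SheafedSpace.forget CommRingCat.{u})
  let B : TopCat.{u} := TopCat.trivial.obj (ULift.{u} Bool)
  let u₁ : (SheafedSpace.forget CommRingCat.{u}).obj (fRS.obj P) ⟶ B :=
    TopCat.ofHom (Y := B) ⟨fun q => ⟨decide ((q : P) = p)⟩, continuous_top⟩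
  let u₂ : (SheafedSpace.forget CommRingCat.{u}).obj (fRS.obj P) ⟶ B :=
    TopCat.ofHom (Y := B) ⟨fun _ => ⟨false⟩, continuous_top⟩
  have hu : u₁ = u₂ := hT.hom_ext
    (TopCat.hom_ext (ContinuousMap.ext fun x => ULift.ext _ _ (decide_eq_false (hne.1 x))))
    (TopCat.hom_ext (ContinuousMap.ext fun y => ULift.ext _ _ (decide_eq_false (hne.2 y))))
  have h2 : decide (p = p) = false :=
    congrArg (fun u : (SheafedSpace.forget CommRingCat.{u}).obj (fRS.obj P) ⟶ B => (u p).down) hu
  simp at h2

/-- If a composite of sheafed space maps is local at a point, so is the first one. -/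
theorem isLocalHom_stalkMap_of_comp {A B C : SheafedSpace CommRingCat.{u}} (f : A ⟶ B) (g : B ⟶ C)
    (x : A) (hfg : IsLocalHom ((f ≫ g).hom.stalkMap x).hom) :
    IsLocalHom (g.hom.stalkMap (f.hom.base x)).hom := by
  have h := PresheafedSpace.stalkMap.comp f.hom g.hom x
  constructor
  intro r hr
  refine hfg.map_nonunit r ?_
  change IsUnit ((PresheafedSpace.Hom.stalkMap (f.hom ≫ g.hom) x).hom r)
  rw [h]
  exact hr.map (f.hom.stalkMap x).hom

/-- A pushout square of ringed spaces is a pushout square of schemes. -/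
theorem isPushout_of_ringedSpace [IsClosedImmersion i] [IsAffineHom j] [HasPairs i j]
    (hpo : IsPushout (fRS.map i) (fRS.map j) (fRS.map a) (fRS.map b)) :
    IsPushout i j a b := by
  have w : i ≫ a = j ≫ b := fRS.map_injective (by rw [fRS.map_comp, fRS.map_comp]; exact hpo.w)
  have hc : fRS.map i ≫ fRS.map (inl i j) = fRS.map j ≫ fRS.map (inr i j) := by
    rw [← fRS.map_comp, ← fRS.map_comp, condition]
  let v := hpo.desc (fRS.map (inl i j)) (fRS.map (inr i j)) hc
  have hva : fRS.map a ≫ v = fRS.map (inl i j) := hpo.inl_desc ..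
  have hvb : fRS.map b ≫ v = fRS.map (inr i j) := hpo.inr_desc ..
  have hloc : ∀ p : P, IsLocalHom (v.hom.stalkMap p).hom := fun p => by
    rcases exists_preimage_of_ringedSpace hpo p with ⟨x, rfl⟩ | ⟨y, rfl⟩
    · have : IsLocalHom ((fRS.map a ≫ v).hom.stalkMap x).hom := by
        rw [hva]; exact (inl i j).toLRSHom.2 x
      exact isLocalHom_stalkMap_of_comp (fRS.map a) v x this
    · have : IsLocalHom ((fRS.map b ≫ v).hom.stalkMap y).hom := by
        rw [hvb]; exact (inr i j).toLRSHom.2 y
      exact isLocalHom_stalkMap_of_comp (fRS.map b) v y this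
  let v' : P ⟶ Po i j := ⟨⟨v.hom, hloc⟩⟩
  have hv' : fRS.map v' = v := rfl
  let m := (FlatMorPush.isPushout i j).desc a b w
  have hma : inl i j ≫ m = a := (FlatMorPush.isPushout i j).inl_desc ..
  have hmb : inr i j ≫ m = b := (FlatMorPush.isPushout i j).inr_desc ..
  have h1 : a ≫ v' = inl i j := fRS.map_injective (by rw [fRS.map_comp, hv', hva])
  have h2 : b ≫ v' = inr i j := fRS.map_injective (by rw [fRS.map_comp, hv', hvb])
  have hmv : m ≫ v' = 𝟙 _ := FlatMorPush.hom_ext
    (by rw [← Category.assoc, hma, h1, Category.comp_id])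
    (by rw [← Category.assoc, hmb, h2, Category.comp_id])
  have hvm : v' ≫ m = 𝟙 _ := fRS.map_injective (hpo.hom_ext
    (by rw [← fRS.map_comp, ← fRS.map_comp, reassoc_of% h1, hma, Category.comp_id])
    (by rw [← fRS.map_comp, ← fRS.map_comp, reassoc_of% h2, hmb, Category.comp_id]))
  exact (FlatMorPush.isPushout i j).of_iso (Iso.refl _) (Iso.refl _) (Iso.refl _)
    ⟨m, v', hmv, hvm⟩ (by simp) (by simp) (by simp [hma]) (by simp [hmb])

end Groth.Agent.FlatMorPush
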